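import Groth.Agent.AbDualLib.Points

/-!
# The class `m^*L ⊗ p^*L⁻¹ ⊗ q^*L⁻¹` is of Pic⁰
-/

set_option autoImplicit false

universe u

open CategoryTheory CategoryTheory.Limits MonoidalCategory CartesianMonoidalCategory MonObj GrpObj AlgebraicGeometry
open Groth.Agent.PicLib

namespace Groth.Agent.AbDualLib

variable {S : Scheme.{u}} {A : Over S} [GrpObj A]

/-- Restricting a Mumford class to `A × {e}`. -/
theorem lambda_axis (a : PicM A.left) (N : PicM (A ⊗ A).left)
    (h : PicM.pull μ[A].left a = N * PicM.pull (fst A A).left a * PicM.pull (snd A A).left a) :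
    ev N (𝟙 A) (1 : A ⟶ A) * PicM.pull (1 : A ⟶ A).left a = 1 ∧
      ev N (1 : A ⟶ A) (𝟙 A) * PicM.pull (1 : A ⟶ A).left a = 1 := by
  have hμ : μ[A] = fst A A * snd A A := by rw [Hom.mul_def, lift_fst_snd, Category.id_comp]
  refine ⟨?_, ?_⟩
  · have h' := congrArg (PicM.pull (lift (𝟙 A) (1 : A ⟶ A)).left) h
    rw [map_mul, map_mul, PicM.pull_pull, PicM.pull_pull, PicM.pull_pull, ← Over.comp_left, ← Over.comp_left,
      ← Over.comp_left, hμ, MonObj.comp_mul, lift_fst, lift_snd, _root_.mul_one, Over.id_left, PicM.pull_id,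
      _root_.mul_right_comm] at h'
    exact ((PicM.isUnit a).mul_eq_right.1 h'.symm)
  · have h' := congrArg (PicM.pull (lift (1 : A ⟶ A) (𝟙 A)).left) h
    rw [map_mul, map_mul, PicM.pull_pull, PicM.pull_pull, PicM.pull_pull, ← Over.comp_left, ← Over.comp_left,
      ← Over.comp_left, hμ, MonObj.comp_mul, lift_fst, lift_snd, _root_.one_mul, Over.id_left, PicM.pull_id] at h'
    exact ((PicM.isUnit a).mul_eq_right.1 h'.symm)

/-- The Mumford class is of Pic⁰ (each of its fibres deforms to the trivial class along `A` itself). -/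
theorem isPicZeroCl_lambda [IsProper A.hom] [GeometricallyConnected A.hom] [LocallyOfFiniteType A.hom]
    (a : PicM A.left) (N : PicM (A ⊗ A).left)
    (h : PicM.pull μ[A].left a = N * PicM.pull (fst A A).left a * PicM.pull (snd A A).left a) :
    AbDual.IsPicZeroCl A.hom A N.val := by
  obtain ⟨L, hL, rfl⟩ := PicM.exists_eq_of N
  refine ⟨L, rfl, hL, fun x Ω _ _ σ _ => ?_⟩
  let Xσ := pullback (PicF.XTproj A.hom A) σ
  letI : Xσ.Over (Spec (CommRingCat.of Ω)) := ⟨pullback.snd _ _⟩
  let s : Spec (CommRingCat.of Ω) ⟶ S := σ ≫ A.hom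
  let T := pullback A.hom s
  let q : T ⟶ Spec (CommRingCat.of Ω) := pullback.snd A.hom s
  haveI : ConnectedSpace T := GeometricallyConnected.geometrically_connectedSpace _ _ _ (.of_hasPullback A.hom s)
  let f₁ : Pic13.prodK Ω Xσ q ⟶ A.left :=
    pullback.fst _ q ≫ pullback.fst _ σ ≫ (fst A A).left
  let f₂ : Pic13.prodK Ω Xσ q ⟶ A.left := pullback.snd _ q ≫ pullback.fst A.hom s
  have hf : f₁ ≫ A.hom = f₂ ≫ A.hom := by
    simp only [f₁, f₂, Category.assoc, Over.w (fst A A), pullback.condition (f := A.hom) (g := s)]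
    rw [show (A ⊗ A).hom = (snd A A).left ≫ A.hom from (Over.w (snd A A)).symm,
      ← Category.assoc (pullback.fst (PicF.XTproj A.hom A) σ)]
    erw [pullback.condition]
    rw [Category.assoc]
    exact (pullback.condition_assoc (f := Xσ ↘ Spec (CommRingCat.of Ω)) (g := q) _)
  let F : Pic13.prodK Ω Xσ q ⟶ (A ⊗ A).left := pullback.lift f₁ f₂ hf
  let t : Spec (CommRingCat.of Ω) ⟶ T := pullback.lift σ (𝟙 _) (Category.id_comp _).symm
  let t₀ : Spec (CommRingCat.of Ω) ⟶ T := pullback.lift (s ≫ η[A].left) (𝟙 _) (by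
    rw [Category.assoc, Category.id_comp, Over.w η[A]]
    exact Category.comp_id _)
  have ht : t ≫ q = 𝟙 _ := pullback.lift_snd _ _ _
  have ht₀ : t₀ ≫ q = 𝟙 _ := pullback.lift_snd _ _ _
  have e1 : Pic13.sliceAt Ω Xσ q t ht ≫ F = pullback.fst (PicF.XTproj A.hom A) σ := by
    apply pullback.hom_ext
    · rw [Category.assoc, pullback.lift_fst]
      exact (pullback.lift_fst_assoc _ _ _ _).trans (Category.id_comp _)
    · rw [Category.assoc, pullback.lift_snd]
      refine (pullback.lift_snd_assoc _ _ _ _).trans ?_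
      rw [Category.assoc, pullback.lift_fst]
      exact pullback.condition.symm
  have e2 : Pic13.sliceAt Ω Xσ q t₀ ht₀ ≫ F =
      (pullback.fst (PicF.XTproj A.hom A) σ ≫ (fst A A).left) ≫ (lift (𝟙 A) (1 : A ⟶ A)).left := by
    apply pullback.hom_ext
    · rw [Category.assoc, pullback.lift_fst]
      refine ((pullback.lift_fst_assoc _ _ _ _).trans (Category.id_comp _)).trans ?_
      refine (Category.comp_id _).symm.trans ?_
      conv_rhs => rw [Category.assoc]
      exact congrArg ((pullback.fst (PicF.XTproj A.hom A) σ ≫ (fst A A).left) ≫ ·)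
        (congrArg (fun z => Over.Hom.left z) (lift_fst (𝟙 A) (1 : A ⟶ A))).symm
    · rw [Category.assoc, pullback.lift_snd]
      refine (pullback.lift_snd_assoc _ _ _ _).trans ?_
      rw [Category.assoc, pullback.lift_fst]
      conv_rhs => rw [Category.assoc]
      refine Eq.trans ?_ (congrArg ((pullback.fst (PicF.XTproj A.hom A) σ ≫ (fst A A).left) ≫ ·)
        (congrArg (fun z => Over.Hom.left z) (lift_snd (𝟙 A) (1 : A ⟶ A))).symm)
      rw [show (1 : A ⟶ A) = toUnit A ≫ η[A] from rfl]
      show _ = (pullback.fst (PicF.XTproj A.hom A) σ ≫ (fst A A).left) ≫ (toUnit A).left ≫ η[A].left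
      rw [show (toUnit A).left = A.hom from (Category.comp_id _).symm.trans (Over.w (toUnit A)), ← Category.assoc _ A.hom,
        Category.assoc (pullback.fst (PicF.XTproj A.hom A) σ) (fst A A).left A.hom, Over.w (fst A A),
        show (A ⊗ A).hom = (snd A A).left ≫ A.hom from (Over.w (snd A A)).symm, ← Category.assoc (pullback.fst _ σ)]
      erw [pullback.condition]
      simp only [s, Category.assoc]
      rfl
  let n : PicM (A ⊗ A).left := PicM.of hL
  have hM : PicF.IsInvertible ((Scheme.Modules.pullback F).obj L) := PicLoc.isInvertible_pullback F hL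
  refine ⟨T, q, inferInstance, inferInstance, inferInstance, _, hM, t, t₀, ht, ht₀, ?_, ?_⟩
  · refine (PicM.of_eq_iff (PicLoc.isInvertible_pullback _ hM) (PicLoc.isInvertible_pullback _ hL)).1 ?_
    rw [← PicM.pull_of _ hM, ← PicM.pull_of F hL, PicM.pull_pull, e1, PicM.pull_of]
  · refine (PicM.of_eq_one_iff (PicLoc.isInvertible_pullback _ hM)).1 ?_
    rw [← PicM.pull_of _ hM, ← PicM.pull_of F hL, PicM.pull_pull, e2, ← PicM.pull_pull]
    let g : Xσ ⟶ A.left := pullback.fst (PicF.XTproj A.hom A) σ ≫ (fst A A).left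
    have h1 := congrArg (PicM.pull g) (lambda_axis a n h).1
    have h2 : PicM.pull g (PicM.pull (1 : A ⟶ A).left a) = 1 := by
      rw [PicM.pull_pull, show g ≫ (1 : A ⟶ A).left = pullback.snd (PicF.XTproj A.hom A) σ ≫ s ≫ η[A].left by
          rw [show (1 : A ⟶ A) = toUnit A ≫ η[A] from rfl, Over.comp_left,
            show (toUnit A).left = A.hom from (Category.comp_id _).symm.trans (Over.w (toUnit A))]
          simp only [g, s, Category.assoc]
          rw [Over.w_assoc (fst A A), show (A ⊗ A).hom = (snd A A).left ≫ A.hom from (Over.w (snd A A)).symm,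
            Category.assoc]
          exact pullback.condition_assoc (f := PicF.XTproj A.hom A) (g := σ) _,
        ← PicM.pull_pull, PicM.eq_one_of_field Ω (PicM.pull (s ≫ η[A].left) a)]
      exact map_one _
    rw [map_mul, map_one, h2, _root_.mul_one] at h1
    exact h1

end Groth.Agent.AbDualLib
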