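import Groth.Agent.AbDualLib.TransposeIsogeny
import Groth.Agent.AbDualLib.Lambda
import Groth.Agent.AbCubeLib.PullKernel
import Groth.Agent.AbCubeLib.KernelPhi
import Groth.Agent.AbCubeLib.ExistsAmple
import Groth.Agent.AbCubeLib.IsogenyTate
import Groth.Agent.AbSchLib.RigidityOver

/-!
# The dual of an abelian variety has the same dimension

The torsion points of the dual are classes killed by multiplication, of which there are at most as many as there are torsion points;
conversely the homomorphism of an ample class has finite kernel, hence is an isogeny.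
-/

set_option autoImplicit false
set_option linter.style.haveILetI false
set_option backward.isDefEq.respectTransparency.types false

universe u

open CategoryTheory CategoryTheory.Limits MonoidalCategory CartesianMonoidalCategory MonObj GrpObj AlgebraicGeometry
open Groth.Agent.PicLib Groth.Agent.AbVarLib Groth.Agent.AbCubeLib Groth.Agent.AmpleLib Groth.Agent.CubeLib

namespace Groth.Agent.AbDualLib

variable {k : Type u} [Field k] {A At : Over (Spec (CommRingCat.of k))} [GrpObj A] [GrpObj At]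
  [IsProper A.hom] [GeometricallyIntegral A.hom] [IsProper At.hom] [GeometricallyIntegral At.hom]
  {φ : ∀ T : Over (Spec (CommRingCat.of k)), PicF.Cl (PicF.XT A.hom T) → (T ⟶ At)}

local notation "𝕆" => 𝟙_ (Over (Spec (CommRingCat.of k)))

theorem geometricallyConnected_var (X : Over (Spec (CommRingCat.of k))) [GeometricallyIntegral X.hom] :
    GeometricallyConnected X.hom :=
  ⟨fun K _ w Q p q hQ => by
    have := GeometricallyIrreducible.geometrically_irreducibleSpace (f := X.hom) w p q hQ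
    infer_instance⟩

variable (hφ : AbDual.IsDualAV Scheme.fppfPrecoverage A At φ)

include hφ

/-- At most `n ^ 2g` points of the dual are killed by `n`. -/
theorem natCard_torsPts_dual_le [IsAlgClosed k] [IsCommMonObj A] [IsCommMonObj At] {g : ℕ}
    (hg : topologicalKrullDim A.left = g) {n : ℕ} (hn : (n : k) ≠ 0) :
    Nat.card (AbDual.torsPts At n 𝕆) ≤ n ^ (2 * g) := by
  classical
  have hn0 : 0 < n := Nat.pos_of_ne_zero fun h => hn (by rw [h, Nat.cast_zero])
  haveI := geometricallyConnected_var A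
  haveI : Smooth A.hom := AbVarLib.smooth_of_geometricallyReduced A
  have : Etale (𝟙 A ^ n).left := by
    rw [← zpow_natCast]
    refine AbVarLib.etale_zpow A (n : ℤ) ?_
    have := (isUnit_iff_ne_zero.2 hn).map (Scheme.ΓSpecIso (CommRingCat.of k)).inv.hom
    rwa [map_natCast, ← Int.cast_natCast] at this
  have := AbCubeLib.isFinite_pow (A := A) hn0
  have := AbCubeLib.flat_pow (A := A) hn0
  haveI : IsMonHom (𝟙 A ^ n) := by rw [← zpow_natCast]; exact AbCubeLib.isMonHom_zpow _
  haveI : Surjective (𝟙 A ^ n).left := (surjective_and_flat_of_isFinite (𝟙 A ^ n) rfl).1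
  have key : ∀ x : AbDual.torsPts At n 𝕆, ∃ c : PicM (A ⊗ 𝕆).left, AbDual.IsPicZeroCl A.hom 𝕆 c.val ∧
      φ 𝕆 c.val = x.1 ∧ pb (𝟙 A ^ n) (pb (lift (𝟙 A) (toUnit A)) c) = 1 := by
    rintro ⟨x, hx⟩
    obtain ⟨c, h0, hrig, hcx⟩ : ∃ c : PicM (A ⊗ 𝕆).left, AbDual.IsPicZeroCl A.hom 𝕆 c.val ∧
        PicM.pull (lift (1 : 𝕆 ⟶ A) (𝟙 𝕆)).left c = 1 ∧ φ 𝕆 c.val = x :=
      exists_class hφ (𝟙 (Spec (CommRingCat.of k))) x
    refine ⟨c, h0, hcx, ?_⟩
    obtain ⟨h1, h2, h3⟩ := pow_class hφ c h0 hrig n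
    have hcn : ev c (fst A 𝕆 ^ n) (snd A 𝕆) = 1 := by
      refine eq_of_phi_eq hφ _ _ h1 (AbCubeLib.isPicZeroCl_one _) ?_ (map_one _) ?_
      · rw [h3, map_pow]
        exact (congrArg (· ^ n) hrig).trans (one_pow n)
      · rw [phi_one hφ]
        exact h2.trans ((congrArg (· ^ n) hcx).trans hx)
    rw [pb_pb, comp_lift, Category.comp_id, comp_toUnit]
    have e := (congrArg (PicM.pull (lift (𝟙 A) (toUnit A)).left) hcn).trans (map_one _)
    rw [pull_ev, MonObj.comp_pow, lift_fst, lift_snd] at e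
    exact e
  choose c h0 hc hk using key
  haveI : Finite (AbDual.torsPts At n 𝕆) := by
    obtain ⟨b, hb⟩ := AbCubeLib.exists_dim_eq At
    refine Nat.finite_of_card_ne_zero ?_
    rw [natCard_torsPts_eq hb hn]
    exact pow_ne_zero _ hn0.ne'
  haveI : Fintype (AbDual.torsPts At n 𝕆) := Fintype.ofFinite _
  let F : AbDual.torsPts At n 𝕆 → PicM A.left := fun x => pb (lift (𝟙 A) (toUnit A)) (c x)
  have hF : Function.Injective F := fun x y h => by
    have h' := congrArg (pb (fst A 𝕆)) h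
    simp only [F, pb_pb] at h'
    rw [show fst A 𝕆 ≫ lift (𝟙 A) (toUnit A) = 𝟙 (A ⊗ 𝕆) from
      hom_ext _ _ (by simp) (toUnit_unique _ _)] at h'
    simp only [pb, Over.id_left, PicM.pull_id] at h'
    exact Subtype.ext (by rw [← hc x, ← hc y, h'])
  have hker : Nat.card (postHom (𝟙 A ^ n) 𝕆).ker = n ^ (2 * g) := by
    rw [← natCard_torsPts_eq hg hn, natCard_torsPts]
    rfl
  haveI : Finite (postHom (𝟙 A ^ n) 𝕆).ker := Nat.finite_of_card_ne_zero (hker ▸ pow_ne_zero _ hn0.ne')
  have := card_le_of_pull_eq_one (𝟙 A ^ n) (Finset.univ.image F) (fun a ha => by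
    obtain ⟨x, -, rfl⟩ := Finset.mem_image.1 ha
    exact hk x)
  rw [Finset.card_image_of_injective _ hF, Finset.card_univ, hker] at this
  rwa [Nat.card_eq_fintype_card]

/-- The dual has at most the dimension of the variety. -/
theorem dim_dual_le [IsAlgClosed k] [IsCommMonObj A] [IsCommMonObj At] {g g' : ℕ}
    (hg : topologicalKrullDim A.left = g) (hg' : topologicalKrullDim At.left = g') : g' ≤ g := by
  obtain ⟨l, hl, hp⟩ := Nat.exists_infinite_primes (ringChar k + 1)
  have hlk : (l : k) ≠ 0 := fun h0 => by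
    rw [ringChar.spec] at h0
    rcases (Nat.dvd_prime hp).1 h0 with h | h
    · exact CharP.ringChar_ne_one h
    · omega
  have h := natCard_torsPts_dual_le hφ hg hlk
  rw [natCard_torsPts_eq hg' hlk, pow_le_pow_iff_right₀ hp.one_lt] at h
  omega

omit [IsProper At.hom] [GeometricallyIntegral At.hom] in
/-- The Mumford class of a module with the given homomorphism. -/
theorem exists_mumford {L : A.left.Modules} (hL : PicF.IsInvertible L) {lam : A ⟶ At}
    (hlam : AgPol.IsLambda A At φ L lam) :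
    ∃ N : PicM (A ⊗ A).left, AbDual.IsPicZeroCl A.hom A N.val ∧
      PicM.pull (lift (1 : A ⟶ A) (𝟙 A)).left N = 1 ∧ φ A N.val = lam ∧
      ∀ (T : Over (Spec (CommRingCat.of k))) (f g : T ⟶ A),
        pb (f * g) (PicM.of hL) = ev N f g * pb f (PicM.of hL) * pb g (PicM.of hL) := by
  obtain ⟨N, hN, ⟨e⟩, hNl⟩ := hlam
  let a := PicM.of hL
  let Nc : PicM (A ⊗ A).left := PicM.of (L := N) hN
  have h : PicM.pull μ[A].left a = Nc * PicM.pull (fst A A).left a * PicM.pull (snd A A).left a := by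
    refine ((PicM.pull_of _ hL).trans ?_)
    refine ((PicM.of_eq_iff _ (isInvertible_tensorMod
      (isInvertible_tensorMod hN (PicLoc.isInvertible_pullback (fst A A).left hL))
      (PicLoc.isInvertible_pullback (snd A A).left hL))).2 ⟨e.symm⟩).trans ?_
    rfl
  haveI := geometricallyConnected_var A
  refine ⟨Nc, isPicZeroCl_lambda a Nc h, ?_, hNl, fun T f g => ?_⟩
  · have h1 := (lambda_axis a Nc h).2
    rw [show PicM.pull (1 : A ⟶ A).left a = 1 from AbCubeLib.pb_one A a, _root_.mul_one] at h1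
    exact h1
  · have h2 := congrArg (PicM.pull (lift f g).left) h
    rw [map_mul, map_mul, PicM.pull_pull, PicM.pull_pull, PicM.pull_pull, ← Over.comp_left, ← Over.comp_left,
      ← Over.comp_left, lift_fst, lift_snd, ← Hom.mul_def] at h2
    exact h2

/-- The homomorphism of a module is a homomorphism. -/
theorem isMonHom_lambda {L : A.left.Modules} (hL : PicF.IsInvertible L) {lam : A ⟶ At}
    (hlam : AgPol.IsLambda A At φ L lam) : IsMonHom lam := by
  obtain ⟨N, h0, -, hN, hmul⟩ := exists_mumford hφ hL hlam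
  haveI := geometricallyConnected_var A
  haveI : Flat A.hom := flat_of_field _
  haveI : Smooth A.hom := AbVarLib.smooth_of_geometricallyReduced A
  refine AbSchLib.isMonHom_of_one A At lam ?_
  have hh : lift (fst A 𝕆) (snd A 𝕆 ≫ η[A]) ≫ snd A A = snd A 𝕆 ≫ η[A] := lift_snd _ _
  rw [← hN, ← phi_pb hφ η[A] N h0]
  have e : PicM.pull (lift (fst A 𝕆) (snd A 𝕆 ≫ η[A])).left N = 1 := by
    have h := hmul (A ⊗ 𝕆) (fst A 𝕆) 1
    rw [_root_.mul_one, AbCubeLib.pb_one, _root_.mul_one] at h
    have h' : (1 : A ⊗ 𝕆 ⟶ A) = snd A 𝕆 ≫ η[A] := by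
      rw [Hom.one_def, toUnit_unique (toUnit (A ⊗ 𝕆)) (snd A 𝕆)]
    rw [h'] at h
    exact (PicM.isUnit _).mul_eq_right.1 h.symm
  exact (congrArg (fun c : PicM (A ⊗ 𝕆).left => φ 𝕆 c.val) e).trans ((phi_one hφ _).trans Hom.one_def)

/-- Points killed by the homomorphism of a module fix the module. -/
theorem fixing_of_lambda_eq_one [IsAlgClosed k] [IsCommMonObj A] {L : A.left.Modules} (hL : PicF.IsInvertible L) {lam : A ⟶ At}
    (hlam : AgPol.IsLambda A At φ L lam) (x : 𝕆 ⟶ A) (hx : x ≫ lam = 1) :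
    pb (𝟙 A * (toUnit A ≫ x)) (PicM.of hL) = PicM.of hL := by
  obtain ⟨N, h0, hrig, hN, hmul⟩ := exists_mumford hφ hL hlam
  haveI := geometricallyConnected_var A
  haveI : Smooth A.hom := AbVarLib.smooth_of_geometricallyReduced A
  have e : ev N (fst A 𝕆) (snd A 𝕆 ≫ x) = 1 := by
    refine eq_of_phi_eq hφ _ _ (isPicZeroCl_pb x _ (lift_snd _ _) h0) (AbCubeLib.isPicZeroCl_one _) ?_ (map_one _) ?_
    · rw [pull_ev, show lift (1 : 𝕆 ⟶ A) (𝟙 𝕆) ≫ fst A 𝕆 = x ≫ (1 : A ⟶ A) by simp,
        show lift (1 : 𝕆 ⟶ A) (𝟙 𝕆) ≫ snd A 𝕆 ≫ x = x ≫ 𝟙 A by simp, ← pull_ev]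
      exact (congrArg (PicM.pull x.left) hrig).trans (map_one _)
    · rw [phi_one hφ]
      exact (phi_pb hφ x N h0).trans (by rw [hN, hx])
  have e' := (congrArg (PicM.pull (lift (𝟙 A) (toUnit A)).left) e).trans (map_one _)
  rw [pull_ev, lift_fst, lift_snd_assoc] at e'
  rw [hmul A (𝟙 A) (toUnit A ≫ x), e', _root_.one_mul, ← pb_pb (toUnit A) x,
    show pb x (PicM.of hL) = 1 from PicM.eq_one_of_field k _, pb, pb, map_one, _root_.mul_one]
  exact AbCubeLib.pb_id _

/-- **The homomorphism of an ample module is finite, and the dual has the same dimension.** -/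
theorem isogeny_lambda [IsAlgClosed k] [IsCommMonObj A] [IsCommMonObj At] {L : A.left.Modules} (hL : CohB1.IsAmple L)
    {lam : A ⟶ At} (hlam : AgPol.IsLambda A At φ L lam) :
    IsFinite lam.left ∧ topologicalKrullDim A.left = topologicalKrullDim At.left ∧ Surjective lam.left ∧
      Flat lam.left := by
  haveI := isMonHom_lambda hφ hL.1 hlam
  have hfin := finite_fixing_of_isAmple hL
  haveI : IsFinite lam.left :=
    isFinite_of_finite_ker lam (hfin.subset fun x hx => fixing_of_lambda_eq_one hφ hL.1 hlam x hx)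
  obtain ⟨g, hg⟩ := AbCubeLib.exists_dim_eq A
  obtain ⟨g', hg'⟩ := AbCubeLib.exists_dim_eq At
  obtain ⟨l, hl, hp⟩ := Nat.exists_infinite_primes (max (hfin.toFinset.card) (ringChar k) + 1)
  have hlk : (l : k) ≠ 0 := fun h0 => by
    rw [ringChar.spec] at h0
    rcases (Nat.dvd_prime hp).1 h0 with h | h
    · exact CharP.ringChar_ne_one h
    · omega
  let G : AbDual.torsPts A l 𝕆 →* AbDual.torsPts At l 𝕆 :=
    ((postHom lam 𝕆).comp (AbDual.torsPts A l 𝕆).subtype).codRestrict _ fun x => by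
      rw [AbDual.mem_torsPts]
      show (x.1 ≫ lam) ^ l = 1
      rw [← MonObj.pow_comp, (AbDual.mem_torsPts A x.1).1 x.2, MonObj.one_comp]
  have hG : Function.Injective G := by
    rw [← MonoidHom.ker_eq_bot_iff, Subgroup.eq_bot_iff_forall]
    intro x hx
    by_contra hne
    have hx' : x.1 ≫ lam = 1 := congrArg Subtype.val hx
    have hord : orderOf x.1 = l := orderOf_eq_prime (hp := ⟨hp⟩) ((AbDual.mem_torsPts A x.1).1 x.2)
      fun h => hne (Subtype.ext h)
    have hsub : (Subgroup.zpowers x.1 : Set (𝕆 ⟶ A)) ⊆ hfin.toFinset := by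
      rintro _ ⟨j, rfl⟩
      refine hfin.mem_toFinset.2 (fixing_of_lambda_eq_one hφ hL.1 hlam _ ?_)
      have := (postHom lam 𝕆).map_zpow x.1 j
      show (x.1 ^ j) ≫ lam = 1
      exact this.trans (by rw [show postHom lam 𝕆 x.1 = 1 from hx', one_zpow])
    have := Set.ncard_le_ncard hsub hfin.toFinset.finite_toSet
    rw [Set.ncard_coe_finset, ← Nat.card_coe_set_eq] at this
    erw [Nat.card_zpowers, hord] at this
    omega
  haveI : Finite (AbDual.torsPts At l 𝕆) :=
    Nat.finite_of_card_ne_zero (by rw [natCard_torsPts_eq hg' hlk]; exact pow_ne_zero _ hp.ne_zero)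
  have hle := Nat.card_le_card_of_injective G hG
  rw [natCard_torsPts_eq hg' hlk, natCard_torsPts_eq hg hlk, pow_le_pow_iff_right₀ hp.one_lt] at hle
  have hge := dim_dual_le hφ hg hg'
  have hdim : topologicalKrullDim A.left = topologicalKrullDim At.left := by rw [hg, hg', show g = g' by omega]
  exact ⟨inferInstance, hdim, surjective_and_flat_of_isFinite lam hdim⟩

omit hφ in
/-- An isogeny divides multiplication by a positive integer. -/
theorem exists_quasiInverse [IsCommMonObj A] [IsCommMonObj At] (f : A ⟶ At) [IsMonHom f] [IsFinite f.left]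
    [Flat f.left] [Surjective f.left] :
    ∃ (N : ℕ) (ψ : At ⟶ A), 0 < N ∧ IsMonHom ψ ∧ f ≫ ψ = 𝟙 A ^ N ∧ ψ ≫ f = 𝟙 At ^ N := by
  let N := Scheme.Hom.finrank f.left (η[At].left (IsLocalRing.closedPoint k))
  have hN : 0 < N := by
    haveI : LocallyOfFinitePresentation f.left := by
      haveI := lft_comp f
      haveI : LocallyOfFiniteType f.left := inferInstance
      haveI : IsLocallyNoetherian At.left := LocallyOfFiniteType.isLocallyNoetherian At.hom
      infer_instance
    exact (Scheme.Hom.one_le_finrank_iff_surjective f.left).2 ‹_› _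
  obtain ⟨ψ, h1, h2⟩ := exists_factor f N 𝕆 fun t => by
    exact congrArg (fun z => Scheme.Hom.finrank f.left (η[At].left z))
      (Subsingleton.elim (α := PrimeSpectrum k) _ _)
  let ψ' : At ⟶ A := lift (𝟙 At) (toUnit At) ≫ ψ
  have hfψ : f ≫ ψ' = 𝟙 A ^ N := by
    have e : lift (𝟙 A) (toUnit A) ≫ lift (fst A 𝕆 ≫ f) (snd A 𝕆) ≫ ψ = lift (𝟙 A) (toUnit A) ≫ fst A 𝕆 ^ N :=
      congrArg (lift (𝟙 A) (toUnit A) ≫ ·) h1
    rw [← Category.assoc, comp_lift, lift_fst_assoc, lift_snd, Category.id_comp, MonObj.comp_pow, lift_fst] at e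
    rw [show f ≫ ψ' = lift f (toUnit A) ≫ ψ by rw [← Category.assoc, comp_lift, Category.comp_id, comp_toUnit]]
    exact e
  have hψf : ψ' ≫ f = 𝟙 At ^ N := by
    rw [Category.assoc, h2, MonObj.comp_pow, lift_fst]
  haveI := geometricallyConnected_var At
  haveI : Flat At.hom := flat_of_field _
  haveI : Smooth At.hom := AbVarLib.smooth_of_geometricallyReduced At
  refine ⟨N, ψ', hN, AbSchLib.isMonHom_of_one At A ψ' ?_, hfψ, hψf⟩
  rw [← IsMonHom.one_hom f, Category.assoc, hfψ, MonObj.comp_pow, Category.comp_id,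
    show (η[A] : 𝕆 ⟶ A) = 1 from (by rw [Hom.one_def, toUnit_unique (toUnit 𝕆) (𝟙 _), Category.id_comp]), one_pow]

end Groth.Agent.AbDualLib
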