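import Groth.Agent.AbDualLib.Rigidify
import Groth.Prelude.Def_AgPol
import Groth.Agent.KLLib.Basic

/-!
# The base change of a dual is a dual
-/

set_option autoImplicit false
set_option linter.style.haveILetI false
set_option backward.isDefEq.respectTransparency.types false

universe u

open CategoryTheory CategoryTheory.Limits MonoidalCategory CartesianMonoidalCategory MonObj GrpObj AlgebraicGeometry
open Groth.Agent.PicLib

namespace Groth.Agent.AbDualLib

/-- Pic⁰ classes stay Pic⁰ under a morphism lying over a morphism of parameter schemes, for two bases. -/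
theorem isPicZeroCl_pull₂ {S S' X X' : Scheme.{u}} {f : X ⟶ S} {f' : X' ⟶ S'} {T : Over S} {T' : Over S'}
    (g : T'.left ⟶ T.left) (h : PicF.XT f' T' ⟶ PicF.XT f T)
    (hh : h ≫ PicF.XTproj f T = PicF.XTproj f' T' ≫ g) {c : PicF.Cl (PicF.XT f T)}
    (hc : AbDual.IsPicZeroCl f T c) : AbDual.IsPicZeroCl f' T' (PicF.pullCl h c) := by
  obtain ⟨L, rfl, hL, hfib⟩ := hc
  refine ⟨_, rfl, PicLoc.isInvertible_pullback _ hL, fun t Ω _ _ σ hσ => ?_⟩
  let σ' : Spec (CommRingCat.of Ω) ⟶ T.left := σ ≫ g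
  have hσ' : Set.range σ'.base = {g t} := by
    rw [show (σ'.base : _ → _) = g.base ∘ σ.base from rfl, Set.range_comp, hσ, Set.image_singleton]
  letI : (pullback (PicF.XTproj f T) σ').Over (Spec (CommRingCat.of Ω)) := ⟨pullback.snd _ _⟩
  letI : (pullback (PicF.XTproj f' T') σ).Over (Spec (CommRingCat.of Ω)) := ⟨pullback.snd _ _⟩
  let e : pullback (PicF.XTproj f' T') σ ⟶ pullback (PicF.XTproj f T) σ' :=
    pullback.lift (pullback.fst _ _ ≫ h) (pullback.snd _ _) (by
      simp only [Category.assoc, hh, σ']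
      rw [← Category.assoc, pullback.condition, Category.assoc])
  have h' := AbCubeLib.isAlgEquivZero_pullback e (pullback.lift_snd _ _ _) (hfib (g t) Ω σ' hσ')
  refine isAlgEquivZero_congr (Nonempty.some ?_) h'
  refine (PicM.of_eq_iff (PicLoc.isInvertible_pullback _ (PicLoc.isInvertible_pullback _ hL))
    (PicLoc.isInvertible_pullback _ (PicLoc.isInvertible_pullback _ hL))).1 ?_
  rw [← PicM.pull_of e (PicLoc.isInvertible_pullback _ hL), ← PicM.pull_of _ hL, PicM.pull_pull,
    ← PicM.pull_of (pullback.fst (PicF.XTproj f' T') σ) (PicLoc.isInvertible_pullback _ hL), ← PicM.pull_of _ hL,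
    PicM.pull_pull, pullback.lift_fst]

variable {S S' : Scheme.{u}} (k : S' ⟶ S) {A At B Bt : Over S}

/-- A scheme over the new base, over the old one. -/
abbrev dn (U : Over S') : Over S := Over.mk (U.hom ≫ k)

variable {k}

/-- Morphisms to a base change are determined by their first component. -/
theorem bc_hom_ext {U : Over S'} {a b : U ⟶ Red.bc k At} (h : a.left ≫ pullback.fst At.hom k = b.left ≫ pullback.fst At.hom k) :
    a = b :=
  Over.OverMorphism.ext (pullback.hom_ext h ((Over.w a).trans (Over.w b).symm))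

theorem bcDual_left_fst (φ : AgPol.DualMap A At) (U : Over S') (c : PicF.Cl (PicF.XT (Red.bc k A).hom U)) :
    (AgPol.bcDual k A At φ U c).left ≫ pullback.fst At.hom k =
      (φ (dn k U) (PicF.pullCl (AgPol.bcXTIso k A U).inv c)).left :=
  pullback.lift_fst _ _ _

/-- A morphism to a base change as a morphism over the old base. -/
noncomputable def down {U : Over S'} (a : U ⟶ Red.bc k At) : dn k U ⟶ At :=
  ((Over.mapPullbackAdj k).homEquiv U At).symm a

theorem down_left {U : Over S'} (a : U ⟶ Red.bc k At) : (down a).left = a.left ≫ pullback.fst At.hom k := by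
  rw [down, Adjunction.homEquiv_counit]
  rfl

theorem down_mul [GrpObj At] {U : Over S'} (a b : U ⟶ Red.bc k At) : down (a * b) = down a * down b := by
  have h : ∀ (a b : (Over.map k).obj U ⟶ At), (Over.mapPullbackAdj k).homEquiv U At (a * b) =
      (Over.mapPullbackAdj k).homEquiv U At a * (Over.mapPullbackAdj k).homEquiv U At b := fun a b => by
    rw [Adjunction.homEquiv_unit, Adjunction.homEquiv_unit, Adjunction.homEquiv_unit, Functor.map_mul,
      MonObj.comp_mul]
  refine ((Over.mapPullbackAdj k).homEquiv U At).injective ?_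
  rw [h]
  simp only [down, Equiv.apply_symm_apply]

variable (A) in
theorem bcXTIso_inv_snd (U : Over S') :
    (AgPol.bcXTIso k A U).inv ≫ PicF.XTproj (Red.bc k A).hom U = PicF.XTproj A.hom (dn k U) := by
  rw [Iso.inv_comp_eq]
  simp [AgPol.bcXTIso, PicF.XTproj]

variable (A) in
theorem bcXTIso_inv_fst (U : Over S') :
    (AgPol.bcXTIso k A U).inv ≫ pullback.fst (Red.bc k A).hom U.hom ≫ pullback.fst A.hom k =
      pullback.fst A.hom (dn k U).hom := by
  rw [Iso.inv_comp_eq]
  simp [AgPol.bcXTIso]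

variable (A) in
theorem bcXT_hom_ext {U : Over S'} {Z : Scheme.{u}} {a b : Z ⟶ PicF.XT (Red.bc k A).hom U}
    (h₁ : a ≫ pullback.fst (Red.bc k A).hom U.hom ≫ pullback.fst A.hom k =
      b ≫ pullback.fst (Red.bc k A).hom U.hom ≫ pullback.fst A.hom k)
    (h₂ : a ≫ PicF.XTproj (Red.bc k A).hom U = b ≫ PicF.XTproj (Red.bc k A).hom U) : a = b := by
  refine pullback.hom_ext (pullback.hom_ext ?_ ?_) h₂
  · simpa only [Category.assoc] using h₁
  · rw [Category.assoc, Category.assoc]
    change a ≫ pullback.fst _ _ ≫ (Red.bc k A).hom = b ≫ pullback.fst _ _ ≫ (Red.bc k A).hom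
    rw [pullback.condition, ← Category.assoc, ← Category.assoc b]
    exact congrArg (· ≫ U.hom) h₂

variable (A) in
theorem bcXTIso_inv_natural {U U' : Over S'} (g : U' ⟶ U) (g' : dn k U' ⟶ dn k U) (hg : g'.left = g.left) :
    (AgPol.bcXTIso k A U').inv ≫ PicF.XTmap (Red.bc k A).hom g =
      PicF.XTmap A.hom g' ≫ (AgPol.bcXTIso k A U).inv := by
  refine bcXT_hom_ext A ?_ ?_
  · rw [Category.assoc, Category.assoc, bcXTIso_inv_fst]
    simp only [PicF.XTmap, pullback.map, pullback.lift_fst_assoc, pullback.lift_fst, Category.id_comp, Category.comp_id,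
      Category.assoc]
    exact bcXTIso_inv_fst A U'
  · rw [Category.assoc, Category.assoc, bcXTIso_inv_snd]
    simp only [PicF.XTmap, PicF.XTproj, pullback.map, pullback.lift_snd, hg]
    rw [← Category.assoc]
    exact congrArg (· ≫ g.left) (bcXTIso_inv_snd A U')

theorem isPicZeroCl_inv {U : Over S'} {c : PicF.Cl (PicF.XT (Red.bc k A).hom U)}
    (hc : AbDual.IsPicZeroCl (Red.bc k A).hom U c) :
    AbDual.IsPicZeroCl A.hom (dn k U) (PicF.pullCl (AgPol.bcXTIso k A U).inv c) :=
  isPicZeroCl_pull₂ (f := (Red.bc k A).hom) (f' := A.hom) (T := U) (T' := dn k U) (𝟙 U.left)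
    (AgPol.bcXTIso k A U).inv ((bcXTIso_inv_snd A U).trans (Category.comp_id (PicF.XTproj A.hom (dn k U))).symm) hc

theorem pullCl_pullCl {X Y Z : Scheme.{u}} (f : X ⟶ Y) (g : Y ⟶ Z) (c : PicF.Cl Z) (hc : ∃ L : Z.Modules, PicF.cl L = c ∧ PicF.IsInvertible L) :
    PicF.pullCl f (PicF.pullCl g c) = PicF.pullCl (f ≫ g) c := by
  obtain ⟨L, rfl, hL⟩ := hc
  exact congrArg PicM.val (PicM.pull_pull g f (PicM.of hL))

/-- **The base change of a dual is a dual.** -/
theorem isDualAV_bcDual [GrpObj A] [GrpObj At] {φ : AgPol.DualMap A At}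
    (hφ : AbDual.IsDualAV Scheme.fppfPrecoverage A At φ) :
    AbDual.IsDualAV Scheme.fppfPrecoverage (Red.bc k A) (Red.bc k At) (AgPol.bcDual k A At φ) where
  relPic :=
    { natural := fun U U' g c hc => by
        refine bc_hom_ext ?_
        let g' : dn k U' ⟶ dn k U := Over.homMk g.left (by
          show g.left ≫ U.hom ≫ k = U'.hom ≫ k
          rw [Over.w_assoc])
        obtain ⟨L, hcL, hL, -⟩ := id hc
        rw [bcDual_left_fst, Over.comp_left, Category.assoc, bcDual_left_fst,
          pullCl_pullCl _ _ _ ⟨L, hcL, hL⟩, bcXTIso_inv_natural A g g' rfl, ← pullCl_pullCl _ _ _ ⟨L, hcL, hL⟩,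
          hφ.relPic.natural _ _ g' _ (isPicZeroCl_inv hc)]
        rfl
      locallySurjective := fun U g => by
        obtain ⟨R, hR, hRu⟩ := hφ.relPic.locallySurjective (dn k U) (down g)
        refine ⟨R, hR, fun V v hv => ?_⟩
        obtain ⟨c, hc, hcφ⟩ := hRu v hv
        let ι' : dn k (AbDual.ovr U v) ⟶ AbDual.ovr (dn k U) v := Over.homMk (𝟙 V) (by
          show 𝟙 V ≫ v ≫ U.hom ≫ k = (v ≫ U.hom) ≫ k
          rw [Category.id_comp, Category.assoc])
        let j := (AgPol.bcXTIso k A (AbDual.ovr U v)).hom ≫ PicF.XTmap A.hom ι'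
        have hj : j ≫ PicF.XTproj A.hom _ = PicF.XTproj (Red.bc k A).hom (AbDual.ovr U v) ≫ 𝟙 V := by
          rw [Category.assoc, ← Iso.eq_inv_comp, ← Category.assoc _ _ (𝟙 V), bcXTIso_inv_snd]
          exact pullback.lift_snd _ _ _
        obtain ⟨L, hcL, hL, -⟩ := id hc
        refine ⟨PicF.pullCl j c, isPicZeroCl_pull₂ (𝟙 V) j hj hc, bc_hom_ext ?_⟩
        rw [bcDual_left_fst, pullCl_pullCl _ _ _ ⟨L, hcL, hL⟩, Iso.inv_hom_id_assoc,
          hφ.relPic.natural _ _ ι' _ hc, hcφ]
        simp [ι', down_left, AbDual.ovrHom, AbDual.ovr]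
      locallyInjective := fun U c c' hc hc' e => by
        have e' : φ (dn k U) (PicF.pullCl (AgPol.bcXTIso k A U).inv c) =
            φ (dn k U) (PicF.pullCl (AgPol.bcXTIso k A U).inv c') := by
          refine Over.OverMorphism.ext ?_
          rw [← bcDual_left_fst φ U c, ← bcDual_left_fst φ U c', e]
        obtain ⟨R, hR, hRu⟩ := hφ.relPic.locallyInjective _ _ _ (isPicZeroCl_inv hc) (isPicZeroCl_inv hc') e'
        refine ⟨R, hR, fun V v hv => ?_⟩
        let ι' : dn k (AbDual.ovr U v) ⟶ AbDual.ovr (dn k U) v := Over.homMk (𝟙 V) (by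
          show 𝟙 V ≫ v ≫ U.hom ≫ k = (v ≫ U.hom) ≫ k
          rw [Category.id_comp, Category.assoc])
        obtain ⟨L, hcL, hL, -⟩ := id hc
        obtain ⟨L', hcL', hL', -⟩ := id hc'
        have hj : ((AgPol.bcXTIso k A (AbDual.ovr U v)).hom ≫ PicF.XTmap A.hom ι') ≫
            PicF.XTmap A.hom (AbDual.ovrHom (dn k U) v) ≫ (AgPol.bcXTIso k A U).inv =
              PicF.XTmap (Red.bc k A).hom (AbDual.ovrHom U v) := by
          let g' : dn k (AbDual.ovr U v) ⟶ dn k U := Over.homMk v (by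
            show v ≫ U.hom ≫ k = (v ≫ U.hom) ≫ k
            rw [Category.assoc])
          rw [Category.assoc, ← Iso.eq_inv_comp, bcXTIso_inv_natural A (AbDual.ovrHom U v) g' rfl]
          rw [← Category.assoc]
          congr 1
          have hg' : ι' ≫ AbDual.ovrHom (dn k U) v = g' := Over.OverMorphism.ext (Category.id_comp v)
          rw [← hg', AbCubeLib.XTmap_eq, AbCubeLib.XTmap_eq, AbCubeLib.XTmap_eq, ← Over.comp_left]
          refine congrArg (fun z => Over.Hom.left z) ?_
          ext1 <;> simp <;> rfl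
        have h := congrArg (PicF.pullCl ((AgPol.bcXTIso k A (AbDual.ovr U v)).hom ≫ PicF.XTmap A.hom ι')) (hRu v hv)
        rw [pullCl_pullCl (PicF.XTmap A.hom (AbDual.ovrHom (dn k U) v)) _ _ ⟨L, hcL, hL⟩,
          pullCl_pullCl (PicF.XTmap A.hom (AbDual.ovrHom (dn k U) v)) _ _ ⟨L', hcL', hL'⟩,
          pullCl_pullCl _ _ _ ⟨L, hcL, hL⟩, pullCl_pullCl _ _ _ ⟨L', hcL', hL'⟩, hj] at h
        exact h }
  mul U L M hL hM := by
    obtain ⟨L₀, hcL, hL₀, -⟩ := id hL
    obtain ⟨M₀, hcM, hM₀, -⟩ := id hM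
    obtain ⟨eL⟩ : Nonempty (L₀ ≅ L) := (PicGrp.cl_eq_cl_iff _ _).1 hcL
    obtain ⟨eM⟩ : Nonempty (M₀ ≅ M) := (PicGrp.cl_eq_cl_iff _ _).1 hcM
    have hL' := KLLib.isInvertible_of_iso eL hL₀
    have hM' := KLLib.isInvertible_of_iso eM hM₀
    refine bc_hom_ext ?_
    rw [← down_left (AgPol.bcDual k A At φ U (PicF.cl L) * AgPol.bcDual k A At φ U (PicF.cl M)), down_mul,
      bcDual_left_fst]
    have hd : ∀ c, down (AgPol.bcDual k A At φ U c) = φ (dn k U) (PicF.pullCl (AgPol.bcXTIso k A U).inv c) :=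
      fun c => Over.OverMorphism.ext ((down_left _).trans (bcDual_left_fst φ U c))
    rw [hd, hd]
    refine congrArg (fun z => Over.Hom.left z) ?_
    have e : PicF.pullCl (AgPol.bcXTIso k A U).inv (PicF.cl (CohB1.tensorMod L M)) =
        (PicM.pull (AgPol.bcXTIso k A U).inv (PicM.of hL') * PicM.pull (AgPol.bcXTIso k A U).inv (PicM.of hM')).val := by
      rw [← map_mul, PicM.of_mul hL' hM']
      rfl
    rw [e, PicM.pull_of, PicM.pull_of, PicM.of_mul]
    exact hφ.mul _ _ _ (isPicZeroCl_inv hL) (isPicZeroCl_inv hM)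

/-- The base change of a transpose is a transpose. -/
theorem isTranspose_bcDual {φA : AgPol.DualMap A At} {φB : AgPol.DualMap B Bt} {f : A ⟶ B} {ft : Bt ⟶ At}
    (h : AbDual.IsTranspose f φA φB ft) :
    AbDual.IsTranspose ((Over.pullback k).map f) (AgPol.bcDual k A At φA) (AgPol.bcDual k B Bt φB)
      ((Over.pullback k).map ft) := by
  intro U c hc
  obtain ⟨L, hcL, hL, -⟩ := id hc
  refine bc_hom_ext ?_
  have e : (AgPol.bcXTIso k A U).inv ≫ AbDual.bcMap ((Over.pullback k).map f) U =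
      AbDual.bcMap f (dn k U) ≫ (AgPol.bcXTIso k B U).inv := by
    refine bcXT_hom_ext B ?_ ?_
    · rw [Category.assoc, Category.assoc, bcXTIso_inv_fst]
      simp only [AbDual.bcMap, pullback.map, pullback.lift_fst_assoc, pullback.lift_fst, Category.assoc]
      erw [pullback.lift_fst]
      rw [← Category.assoc (pullback.fst (Red.bc k A).hom U.hom), ← Category.assoc, bcXTIso_inv_fst]
    · rw [Category.assoc, Category.assoc, bcXTIso_inv_snd]
      simp only [AbDual.bcMap, PicF.XTproj, pullback.map, pullback.lift_snd, Category.comp_id]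
      exact bcXTIso_inv_snd A U
  have h2 : ((AgPol.bcDual k B Bt φB) U c ≫ (Over.pullback k).map ft).left ≫ pullback.fst At.hom k =
      (φB (dn k U) (PicF.pullCl (AgPol.bcXTIso k B U).inv c)).left ≫ ft.left := by
    rw [Over.comp_left, Category.assoc, ← bcDual_left_fst φB U c, Category.assoc]
    congr 1
    exact pullback.lift_fst _ _ _
  rw [h2, bcDual_left_fst, pullCl_pullCl _ _ _ ⟨L, hcL, hL⟩, e, ← pullCl_pullCl _ _ _ ⟨L, hcL, hL⟩,
    h _ _ (isPicZeroCl_inv hc), Over.comp_left]

end Groth.Agent.AbDualLib
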