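import Groth.Agent.AbDualLib.DualDim
import Groth.Agent.AbCubeLib.SymmetricEnd

/-!
# Endomorphisms attached to invertible modules by a quasi-inverse of the homomorphism of an ample module

The pairing of a class is the Poincaré class evaluated at the second argument composed with its homomorphism; so composing
with a quasi-inverse of the homomorphism of an ample class gives an endomorphism carrying one pairing to the other.
-/

set_option autoImplicit false
set_option linter.style.haveILetI false
set_option backward.isDefEq.respectTransparency.types false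

universe u

open CategoryTheory CategoryTheory.Limits MonoidalCategory CartesianMonoidalCategory MonObj GrpObj AlgebraicGeometry
open Groth.Agent.PicLib Groth.Agent.AbVarLib Groth.Agent.AbCubeLib Groth.Agent.AmpleLib Groth.Agent.CubeLib

namespace Groth.Agent.AbDualLib

variable {k : Type u} [Field k] {A At : Over (Spec (CommRingCat.of k))} [GrpObj A] [GrpObj At]
  [IsProper A.hom] [GeometricallyIntegral A.hom]
  {φ : ∀ T : Over (Spec (CommRingCat.of k)), PicF.Cl (PicF.XT A.hom T) → (T ⟶ At)}

omit [GrpObj At] [IsProper A.hom] [GeometricallyIntegral A.hom] in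
/-- Every invertible module has a homomorphism. -/
theorem exists_isLambda {L : A.left.Modules} (hL : PicF.IsInvertible L) :
    ∃ lam : A ⟶ At, AgPol.IsLambda A At φ L lam := by
  obtain ⟨c', hc'⟩ := PicM.exists_mul_eq_one
    (PicM.pull (fst A A).left (PicM.of hL) * PicM.pull (snd A A).left (PicM.of hL))
  obtain ⟨N, hN, hNc⟩ := PicM.exists_eq_of (PicM.pull μ[A].left (PicM.of hL) * c')
  refine ⟨φ A (PicF.cl N), N, hN, ?_, rfl⟩
  refine (PicM.of_eq_iff (isInvertible_tensorMod
      (isInvertible_tensorMod hN (PicLoc.isInvertible_pullback (fst A A).left hL))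
      (PicLoc.isInvertible_pullback (snd A A).left hL)) (PicLoc.isInvertible_pullback μ[A].left hL)).1 ?_
  show PicM.of hN * PicM.pull (fst A A).left (PicM.of hL) * PicM.pull (snd A A).left (PicM.of hL) =
    PicM.pull μ[A].left (PicM.of hL)
  rw [← hNc, _root_.mul_assoc, _root_.mul_assoc, _root_.mul_comm c', hc', _root_.mul_one]

variable [IsCommMonObj A] {T : Over (Spec (CommRingCat.of k))}

theorem pair2_pow_right (b : PicM A.left) (f g : T ⟶ A) (n : ℕ) : pair2 b f (g ^ n) = (n : ℤ) • pair2 b f g := by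
  induction n with
  | zero => rw [pow_zero, pair2_comm, pair2_one_left, Nat.cast_zero, zero_smul]
  | succ n ih => rw [pow_succ, pair2_mul_right, ih, Nat.cast_succ, add_smul, one_smul]

theorem pair2_pow_left (b : PicM A.left) (f g : T ⟶ A) (n : ℕ) : pair2 b (f ^ n) g = (n : ℤ) • pair2 b f g := by
  rw [pair2_comm, pair2_pow_right, pair2_comm]

/-- The pairing of a class pulled back by a homomorphism. -/
theorem pair2_pb {B : Over (Spec (CommRingCat.of k))} [GrpObj B] [IsCommMonObj B] [IsProper B.hom]
    [GeometricallyIntegral B.hom] (h : A ⟶ B) [IsMonHom h] (c : PicM B.left) (f g : T ⟶ A) :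
    pair2 (pb h c) f g = pair2 c (f ≫ h) (g ≫ h) := by
  have hv : ∀ e : T ⟶ A, pbV (pb h c) e = pbV c (e ≫ h) := fun e => by
    apply Additive.toMul.injective
    refine Units.ext ?_
    rw [pbV_val, pbV_val, pb_pb]
  rw [pair2, pair2, hv, hv, hv, MonObj.mul_comp]

/-- Powers of a class scale its pairing. -/
theorem pair2_class_pow (c : PicM A.left) (n : ℕ) (f g : T ⟶ A) : pair2 (c ^ n) f g = (n : ℤ) • pair2 c f g := by
  have hv : ∀ e : T ⟶ A, pbV (c ^ n) e = (n : ℤ) • pbV c e := fun e => by
    apply Additive.toMul.injective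
    refine Units.ext ?_
    rw [toMul_zsmul, zpow_natCast, Units.val_pow_eq_pow_val, pbV_val, pbV_val]
    exact map_pow _ _ _
  rw [pair2, pair2, hv, hv, hv, smul_sub, smul_sub]

/-- The pairing of a class is its Mumford class evaluated at the two arguments. -/
theorem pair2_eq_mumford (b : PicM A.left) (N : PicM (A ⊗ A).left)
    (hmul : ∀ (V : Over (Spec (CommRingCat.of k))) (f g : V ⟶ A), pb (f * g) b = ev N f g * pb f b * pb g b)
    (f g : T ⟶ A) : ((Additive.toMul (pair2 b f g) : (PicM T.left)ˣ) : PicM T.left) = ev N f g := by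
  have h : pbV b (f * g) = pair2 b f g + pbV b f + pbV b g := by
    rw [pair2]
    abel
  have h' := congrArg (fun z => ((Additive.toMul z : (PicM T.left)ˣ) : PicM T.left)) h
  simp only [toMul_add, Units.val_mul, pbV_val] at h'
  rw [hmul T f g, _root_.mul_assoc, _root_.mul_assoc] at h'
  exact ((PicM.isUnit (pb f b * pb g b)).mul_left_inj.1 h').symm

variable [IsProper At.hom] [GeometricallyIntegral At.hom]
  (hφ : AbDual.IsDualAV Scheme.fppfPrecoverage A At φ) {P : PicM (A ⊗ At).left}
  (hP0 : AbDual.IsPicZeroCl A.hom At P.val) (hPid : φ At P.val = 𝟙 At) (hPr : ev P (1 : At ⟶ A) (𝟙 At) = 1)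
include hφ hP0 hPid hPr

/-- Rigidified Pic⁰ classes are pullbacks of the Poincaré class. -/
theorem eq_ev_poincare (c : PicM (A ⊗ T).left) (hc : AbDual.IsPicZeroCl A.hom T c.val)
    (hr : PicM.pull (lift (1 : T ⟶ A) (𝟙 T)).left c = 1) : c = ev P (fst A T) (snd A T ≫ φ T c.val) := by
  haveI := geometricallyConnected_var A
  haveI : Smooth A.hom := AbVarLib.smooth_of_geometricallyReduced A
  obtain ⟨h1, h2, h3⟩ := poincare_point hφ hP0 hPid hPr (φ T c.val)
  exact eq_of_phi_eq hφ _ _ hc h1 hr h3 h2.symm

/-- The Poincaré class at the origin of the dual. -/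
theorem ev_poincare_one (f : T ⟶ A) : ev P f (1 : T ⟶ At) = 1 := by
  have h := eq_ev_poincare hφ hP0 hPid hPr (T := T) 1 (AbCubeLib.isPicZeroCl_one T) (map_one _)
  have h' := congrArg (PicM.pull (lift f (𝟙 T)).left) h
  rw [map_one, phi_one hφ, pull_ev, lift_fst, lift_snd_assoc, Category.id_comp] at h'
  exact h'.symm

/-- **The pairing of a module through its homomorphism.** -/
theorem pair2_eq_ev {L : A.left.Modules} (hL : PicF.IsInvertible L) {lam : A ⟶ At}
    (hlam : AgPol.IsLambda A At φ L lam) (f g : T ⟶ A) :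
    ((Additive.toMul (pair2 (PicM.of hL) f g) : (PicM T.left)ˣ) : PicM T.left) = ev P f (g ≫ lam) := by
  obtain ⟨N, h0, hr, hN, hmul⟩ := exists_mumford hφ hL hlam
  have hN' : N = ev P (fst A A) (snd A A ≫ lam) := by
    rw [← hN]
    exact eq_ev_poincare hφ hP0 hPid hPr N h0 hr
  have e : ev N f g = ev P f (g ≫ lam) := by
    show PicM.pull (lift f g).left N = _
    rw [hN', pull_ev, lift_fst, lift_snd_assoc]
  rw [← e]
  exact pair2_eq_mumford (PicM.of hL) N hmul f g

/-- **The endomorphism of a module**: it carries the pairing of the ample class to the scaled pairing of the module. -/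
theorem exists_lambdaEnd {L : A.left.Modules} (hL : PicF.IsInvertible L) {lamL : A ⟶ At}
    (hlamL : AgPol.IsLambda A At φ L lamL) (N : ℕ) (ψ : At ⟶ A) [IsMonHom ψ] (hψ : ψ ≫ lamL = 𝟙 At ^ N)
    {M : A.left.Modules} (hM : PicF.IsInvertible M) {lamM : A ⟶ At} (hlamM : AgPol.IsLambda A At φ M lamM) :
    ∃ E : EndAV.End A, E.toHom = lamM ≫ ψ ∧ IsSymEnd (PicM.of hL) E ∧
      ∀ (V : Over (Spec (CommRingCat.of k))) (f g : V ⟶ A),
        pair2 (PicM.of hL) (f ≫ E.toHom) g = (N : ℤ) • pair2 (PicM.of hM) f g := by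
  haveI := isMonHom_lambda hφ hM hlamM
  haveI : IsMonHom (lamM ≫ ψ) := inferInstance
  let E := EndAV.End.of (lamM ≫ ψ)
  have hE : E.toHom = lamM ≫ ψ := rfl
  have key : ∀ (V : Over (Spec (CommRingCat.of k))) (f g : V ⟶ A),
      pair2 (PicM.of hL) f (g ≫ E.toHom) = (N : ℤ) • pair2 (PicM.of hM) f g := fun V f g => by
    rw [← pair2_pow_right]
    apply Additive.toMul.injective
    refine Units.ext ?_
    rw [pair2_eq_ev hφ hP0 hPid hPr hL hlamL, pair2_eq_ev hφ hP0 hPid hPr hM hlamM, hE, Category.assoc,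
      Category.assoc, hψ, MonObj.comp_pow, Category.comp_id, MonObj.comp_pow, ← MonObj.pow_comp]
  refine ⟨E, hE, ?_, fun V f g => by rw [pair2_comm, key, pair2_comm]⟩
  rw [IsSymEnd, pair2_comm, key, key, pair2_comm]

end Groth.Agent.AbDualLib
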