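import Groth.Agent.AbDualLib.Rigidify

/-!
# Additivity of rigidified Pic⁰ classes
-/

set_option autoImplicit false

universe u

open CategoryTheory CategoryTheory.Limits MonoidalCategory CartesianMonoidalCategory MonObj GrpObj AlgebraicGeometry
open Groth.Agent.PicLib

namespace Groth.Agent.AbDualLib

variable {S : Scheme.{u}} {A At : Over S} [GrpObj A] [GrpObj At]
  [IsProper A.hom] [Smooth A.hom] [GeometricallyConnected A.hom] [IsSeparated At.hom] [LocallyOfFiniteType At.hom]
  {φ : ∀ T : Over S, PicF.Cl (PicF.XT A.hom T) → (T ⟶ At)}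

/-- A rigidified Pic⁰ class is additive in points of `A`. -/
theorem pull_mul_points (hφ : AbDual.IsDualAV Scheme.fppfPrecoverage A At φ) {T : Over S} (c : PicM (A ⊗ T).left)
    (h0 : AbDual.IsPicZeroCl A.hom T c.val) (hrig : PicM.pull (lift (1 : T ⟶ A) (𝟙 T)).left c = 1)
    {V : Over S} (f g : V ⟶ A) (t : V ⟶ T) :
    PicM.pull (lift (f * g) t).left c = PicM.pull (lift f t).left c * PicM.pull (lift g t).left c := by
  have h := congrArg (PicM.pull (lift f (lift g t)).left) (primitive hφ c h0 hrig)
  rw [map_mul, PicM.pull_pull, PicM.pull_pull, PicM.pull_pull, ← Over.comp_left, ← Over.comp_left,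
    ← Over.comp_left] at h
  simpa [comp_lift, MonObj.comp_mul] using h

end Groth.Agent.AbDualLib
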