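import Groth.Agent.AbDualLib.Primitive

/-!
# Classes from the base and rigidification for duals of abelian schemes
-/

set_option autoImplicit false

universe u

open CategoryTheory CategoryTheory.Limits MonoidalCategory CartesianMonoidalCategory MonObj GrpObj AlgebraicGeometry
open Groth.Agent.PicLib Groth.Agent.AmpleLib

namespace Groth.Agent.AbDualLib

variable {S : Scheme.{u}} {A At : Over S}

/-- Classes from the base do not affect being Pic⁰. -/
theorem isPicZeroCl_mul_base {T : Over S} {c : PicM (A ⊗ T).left} (hc : AbDual.IsPicZeroCl A.hom T c.val)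
    (N : PicM T.left) : AbDual.IsPicZeroCl A.hom T (c * PicM.pull (snd A T).left N).val := by
  obtain ⟨L, hcL, hL, hfib⟩ := hc
  obtain ⟨M, hM, hcM⟩ := PicM.exists_eq_of (c * PicM.pull (snd A T).left N)
  refine ⟨M, (congrArg PicM.val hcM).symm, hM, fun t Ω _ _ σ hσ => ?_⟩
  let pr : (A ⊗ T).left ⟶ T.left := (snd A T).left
  letI : (pullback (PicF.XTproj A.hom T) σ).Over (Spec (CommRingCat.of Ω)) := ⟨pullback.snd _ _⟩
  refine isAlgEquivZero_congr (Nonempty.some ?_) (hfib t Ω σ hσ)
  refine (PicM.of_eq_iff (PicLoc.isInvertible_pullback _ hL) (PicLoc.isInvertible_pullback _ hM)).1 ?_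
  rw [← PicM.pull_of _ hL, ← PicM.pull_of _ hM, ← hcM]
  refine Eq.trans ?_ (map_mul (PicM.pull (pullback.fst (PicF.XTproj A.hom T) σ)) _ _).symm
  have e : PicM.pull (pullback.fst (PicF.XTproj A.hom T) σ) (PicM.pull pr N) = 1 := by
    rw [PicM.pull_pull, show pullback.fst (PicF.XTproj A.hom T) σ ≫ pr = pullback.snd _ σ ≫ σ from pullback.condition,
      ← PicM.pull_pull, PicM.eq_one_of_field Ω (PicM.pull σ N)]
    exact map_one _
  rw [e, _root_.mul_one]
  exact congrArg (PicM.pull _) (PicM.ext hcL : PicM.of hL = c)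

variable [GrpObj A] [GrpObj At] {φ : ∀ T : Over S, PicF.Cl (PicF.XT A.hom T) → (T ⟶ At)}
  (hφ : AbDual.IsDualAV Scheme.fppfPrecoverage A At φ)
include hφ

/-- `φ` is multiplicative. -/
theorem phi_mul {T : Over S} (c d : PicM (A ⊗ T).left) (hc : AbDual.IsPicZeroCl A.hom T c.val)
    (hd : AbDual.IsPicZeroCl A.hom T d.val) : φ T (c * d).val = φ T c.val * φ T d.val := by
  obtain ⟨L, hL, rfl⟩ := PicM.exists_eq_of c
  obtain ⟨M, hM, rfl⟩ := PicM.exists_eq_of d
  exact hφ.mul T L M hc hd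

/-- `φ` sends the trivial class to the origin. -/
theorem phi_one (T : Over S) : φ T (1 : PicM (A ⊗ T).left).val = 1 := by
  have h := phi_mul hφ (1 : PicM (A ⊗ T).left) 1 (AbCubeLib.isPicZeroCl_one T) (AbCubeLib.isPicZeroCl_one T)
  rw [_root_.mul_one] at h
  exact mul_eq_left.1 h.symm

/-- `φ` kills classes from the base. -/
theorem phi_base {T : Over S} (N : PicM T.left) : φ T (PicM.pull (snd A T).left N).val = 1 := by
  obtain ⟨M, hM, rfl⟩ := PicM.exists_eq_of N
  have h0 : AbDual.IsPicZeroCl A.hom T (PicM.pull (snd A T).left (PicM.of hM)).val := by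
    have h := isPicZeroCl_mul_base (A := A) (c := 1) (AbCubeLib.isPicZeroCl_one T) (PicM.of hM)
    rwa [_root_.one_mul] at h
  choose U hyU g hg using fun y => exists_isGen hM y
  refine Over.OverMorphism.ext ((T.left.openCoverOfIsOpenCover U
    (top_le_iff.1 fun y _ => TopologicalSpace.Opens.mem_iSup.2 ⟨y, hyU y⟩)).hom_ext _ _ fun y => ?_)
  show (U y).ι ≫ _ = (U y).ι ≫ _
  let W : Over S := Over.mk ((U y).ι ≫ T.hom)
  let w : W ⟶ T := Over.homMk (U y).ι rfl
  have e : w ≫ φ T (PicM.pull (snd A T).left (PicM.of hM)).val = w ≫ (1 : T ⟶ At) := by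
    rw [← phi_pb hφ w _ h0, MonObj.comp_one, PicM.pull_pull, ← Over.comp_left, lift_snd, Over.comp_left,
      ← PicM.pull_pull,
      show PicM.pull w.left (PicM.of hM) = 1 from pull_eq_one_of_isGen (U y).ι hM (hg y) (U y).ι_preimage_self,
      map_one]
    exact phi_one hφ W
  exact congrArg (fun z => Over.Hom.left z) e


/-- Rigidification. -/
theorem exists_rigidify {T : Over S} (c : PicM (A ⊗ T).left) (hc : AbDual.IsPicZeroCl A.hom T c.val) :
    ∃ (r : PicM (A ⊗ T).left) (N : PicM T.left), AbDual.IsPicZeroCl A.hom T r.val ∧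
      PicM.pull (lift (1 : T ⟶ A) (𝟙 T)).left r = 1 ∧ c = r * PicM.pull (snd A T).left N ∧
      φ T c.val = φ T r.val := by
  obtain ⟨N', hN'⟩ := PicM.exists_mul_eq_one (PicM.pull (lift (1 : T ⟶ A) (𝟙 T)).left c)
  have hb : ∀ N : PicM T.left, PicM.pull (lift (1 : T ⟶ A) (𝟙 T)).left (PicM.pull (snd A T).left N) = N := fun N => by
    rw [PicM.pull_pull, ← Over.comp_left, lift_snd, Over.id_left, PicM.pull_id]
  have hr : c = c * PicM.pull (snd A T).left N' *
      PicM.pull (snd A T).left (PicM.pull (lift (1 : T ⟶ A) (𝟙 T)).left c) := by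
    rw [_root_.mul_assoc, ← map_mul, _root_.mul_comm N', hN', map_one, _root_.mul_one]
  refine ⟨_, _, isPicZeroCl_mul_base hc N', ?_, hr, ?_⟩
  · rw [map_mul, hb, hN']
  · conv_lhs => rw [hr]
    rw [phi_mul hφ _ _ (isPicZeroCl_mul_base hc N') (by
      have h := isPicZeroCl_mul_base (A := A) (T := T) (c := 1) (AbCubeLib.isPicZeroCl_one T)
        (PicM.pull (lift (1 : T ⟶ A) (𝟙 T)).left c)
      rwa [_root_.one_mul] at h), phi_base hφ, _root_.mul_one]

end Groth.Agent.AbDualLib
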