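import Groth.Agent.AbDualLib.KernelPairing
import Groth.Agent.AbDualLib.Additive
import Groth.Agent.AbDualLib.Rigidify

/-!
# Existence, uniqueness and functoriality of transposes
-/

set_option autoImplicit false
set_option linter.style.haveILetI false
set_option linter.unusedSectionVars false
set_option backward.isDefEq.respectTransparency.types false

universe u

open CategoryTheory CategoryTheory.Limits MonoidalCategory CartesianMonoidalCategory MonObj GrpObj AlgebraicGeometry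
open Groth.Agent.PicLib

namespace Groth.Agent.AbDualLib

variable {S : Scheme.{u}} {X Y Z Xt Yt Zt : Over S}
  {φX : ∀ T : Over S, PicF.Cl (PicF.XT X.hom T) → (T ⟶ Xt)}
  {φY : ∀ T : Over S, PicF.Cl (PicF.XT Y.hom T) → (T ⟶ Yt)}

/-- The class of the inverse image along a homomorphism. -/
noncomputable abbrev pullAlong (f : X ⟶ Y) {T : Over S} (c : PicM (Y ⊗ T).left) : PicM (X ⊗ T).left :=
  PicM.pull (lift (fst X T ≫ f) (snd X T)).left c

theorem pullAlong_val (f : X ⟶ Y) {T : Over S} (c : PicM (Y ⊗ T).left) :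
    (pullAlong f c).val = PicF.pullCl (AbDual.bcMap f T) c.val :=
  by rw [pullAlong, ← AbCubeLib.bcMap_eq]; rfl

theorem isPicZeroCl_pullAlong (f : X ⟶ Y) {T : Over S} {c : PicM (Y ⊗ T).left}
    (hc : AbDual.IsPicZeroCl Y.hom T c.val) : AbDual.IsPicZeroCl X.hom T (pullAlong f c).val :=
  isPicZeroCl_pull (𝟙 T) _
    ((congrArg (fun z => Over.Hom.left z) (lift_snd (fst X T ≫ f) (snd X T))).trans (Category.comp_id _).symm) hc

variable {φZ : ∀ T : Over S, PicF.Cl (PicF.XT Z.hom T) → (T ⟶ Zt)}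

/-- The transpose of a composite. -/
theorem isTranspose_comp {f : X ⟶ Y} {g : Y ⟶ Z} {ft : Yt ⟶ Xt} {gt : Zt ⟶ Yt}
    (hf : AbDual.IsTranspose f φX φY ft) (hg : AbDual.IsTranspose g φY φZ gt) :
    AbDual.IsTranspose (f ≫ g) φX φZ (gt ≫ ft) := by
  intro T c hc
  obtain ⟨L, rfl, hL, -⟩ := id hc
  have e : PicF.pullCl (AbDual.bcMap (f ≫ g) T) (PicM.of hL).val =
      PicF.pullCl (AbDual.bcMap f T) (PicF.pullCl (AbDual.bcMap g T) (PicM.of hL).val) := by
    rw [← pullAlong_val, ← pullAlong_val, ← pullAlong_val, pullAlong, pullAlong, pullAlong, PicM.pull_pull,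
      ← Over.comp_left]
    refine congrArg (fun z : X ⊗ T ⟶ Z ⊗ T => (PicM.pull z.left (PicM.of hL)).val) ?_
    ext1 <;> simp
  show φX T (PicF.pullCl _ (PicM.of hL).val) = _
  rw [e, hf T _ (by
    rw [← pullAlong_val]
    exact isPicZeroCl_pullAlong g hc),
    show φY T (PicF.pullCl (AbDual.bcMap g T) (PicM.of hL).val) = φZ T (PicF.cl L) ≫ gt from hg T _ hc, Category.assoc]

variable [GrpObj X] [GrpObj Xt] (hX : AbDual.IsDualAV Scheme.fppfPrecoverage X Xt φX)

include hX in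
theorem phi_pullAlong (f : X ⟶ Y) {T T' : Over S} (g : T' ⟶ T) {c : PicM (Y ⊗ T).left}
    (hc : AbDual.IsPicZeroCl Y.hom T c.val) :
    φX T' (pullAlong f (PicM.pull (lift (fst Y T') (snd Y T' ≫ g)).left c)).val = g ≫ φX T (pullAlong f c).val := by
  rw [← phi_pb hX g _ (isPicZeroCl_pullAlong f hc)]
  simp only [pullAlong, PicM.pull_pull, ← Over.comp_left]
  congr 5
  ext1 <;> simp

variable [GrpObj Y] [GrpObj Yt] [IsProper Y.hom] [Smooth Y.hom] [GeometricallyConnected Y.hom] [IsSeparated Yt.hom]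
  (hY : AbDual.IsDualAV Scheme.fppfPrecoverage Y Yt φY)

include hX hY in
/-- **Transposes exist.** -/
theorem exists_isTranspose (f : X ⟶ Y) [IsMonHom f] : ∃ ft : Yt ⟶ Xt, AbDual.IsTranspose f φX φY ft := by
  obtain ⟨C, hC, hc⟩ := exists_rigid_cover φY hY (𝟙 Yt)
  choose c h0 hr hφ using hc
  obtain ⟨ft, hft⟩ := exists_hom_glue (P := Xt) C hC
    (fun V v hv => (φX (AbDual.ovr Yt v) (pullAlong f (c v hv)).val).left)
    (fun V v hv => Over.w (φX (AbDual.ovr Yt v) (pullAlong f (c v hv)).val))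
    (fun V V' w v hv => by
      let a : AbDual.ovr Yt (w ≫ v) ⟶ AbDual.ovr Yt v := Over.homMk w (by
        show w ≫ v ≫ Yt.hom = (w ≫ v) ≫ Yt.hom
        rw [Category.assoc])
      have e : PicM.pull (lift (fst Y _) (snd Y _ ≫ a)).left (c v hv) = c (w ≫ v) (C.downward_closed hv w) := by
        refine eq_of_phi_eq hY _ _ (isPicZeroCl_pb a _ (lift_snd _ _) (h0 v hv)) (h0 _ _) ?_ (hr _ _) ?_
        · rw [PicM.pull_pull, ← Over.comp_left,
            show lift (1 : _ ⟶ Y) (𝟙 _) ≫ lift (fst Y _) (snd Y _ ≫ a) = a ≫ lift (1 : _ ⟶ Y) (𝟙 _) by simp,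
            Over.comp_left, ← PicM.pull_pull, hr v hv, map_one]
        · rw [phi_pb hY a _ (h0 v hv), hφ, hφ, ← Category.assoc]
          exact congrArg (· ≫ 𝟙 Yt) (Over.OverMorphism.ext rfl)
      show (φX _ (pullAlong f (c (w ≫ v) _)).val).left = _
      rw [← e, phi_pullAlong hX f a (h0 v hv)]
      rfl)
  refine ⟨ft, fun T c₀ hc₀ => ?_⟩
  obtain ⟨L, hcL, hL, -⟩ := id hc₀
  subst hcL
  obtain ⟨r, N, hr0, hr1, hrc, hrφ⟩ := exists_rigidify hY (PicM.of hL) hc₀
  show φX T (PicF.pullCl (AbDual.bcMap f T) (PicM.of hL).val) = φY T (PicM.of hL).val ≫ ft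
  have hbase : φX T (PicF.pullCl (AbDual.bcMap f T) (PicM.of hL).val) = φX T (pullAlong f r).val := by
    rw [← pullAlong_val, hrc, pullAlong, map_mul, PicM.pull_pull, ← Over.comp_left, lift_snd,
      phi_mul hX _ _ (isPicZeroCl_pullAlong f hr0) (by
        have h' := isPicZeroCl_mul_base (A := X) (T := T) (c := 1) (AbCubeLib.isPicZeroCl_one T) N
        rwa [_root_.one_mul] at h'), phi_base hX, _root_.mul_one]
  rw [hbase, hrφ]
  refine Over.OverMorphism.ext ?_
  refine ((GrothendieckTopology.Subcanonical.isSheaf_of_isRepresentable (J := Scheme.fppfTopology)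
    (yoneda.obj Xt.left)) _ (GrothendieckTopology.pullback_stable _ (φY T r.val).left hC)).isSeparatedFor.ext
    fun V v hv => ?_
  let g := AbDual.ovrHom T v
  let b : AbDual.ovr T v ⟶ AbDual.ovr Yt (v ≫ (φY T r.val).left) := Over.homMk (𝟙 V) (by
    show 𝟙 V ≫ (v ≫ (φY T r.val).left) ≫ Yt.hom = v ≫ T.hom
    rw [Category.id_comp, Category.assoc, Over.w])
  have hbg : b ≫ AbDual.ovrHom Yt (v ≫ (φY T r.val).left) = g ≫ φY T r.val :=
    Over.OverMorphism.ext (Category.id_comp _)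
  have e : PicM.pull (lift (fst Y _) (snd Y _ ≫ g)).left r =
      PicM.pull (lift (fst Y _) (snd Y _ ≫ b)).left (c _ hv) := by
    refine eq_of_phi_eq hY _ _ (isPicZeroCl_pb g _ (lift_snd _ _) hr0) (isPicZeroCl_pb b _ (lift_snd _ _) (h0 _ hv))
      ?_ ?_ ?_
    · rw [PicM.pull_pull, ← Over.comp_left,
        show lift (1 : _ ⟶ Y) (𝟙 _) ≫ lift (fst Y _) (snd Y _ ≫ g) = g ≫ lift (1 : _ ⟶ Y) (𝟙 _) by simp,
        Over.comp_left, ← PicM.pull_pull, hr1, map_one]
    · rw [PicM.pull_pull, ← Over.comp_left,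
        show lift (1 : _ ⟶ Y) (𝟙 _) ≫ lift (fst Y _) (snd Y _ ≫ b) = b ≫ lift (1 : _ ⟶ Y) (𝟙 _) by simp,
        Over.comp_left, ← PicM.pull_pull, hr _ hv, map_one]
    · rw [phi_pb hY g r hr0, phi_pb hY b _ (h0 _ hv), hφ, Category.comp_id, hbg]
  show v ≫ (φX T (pullAlong f r).val).left = v ≫ (φY T r.val ≫ ft).left
  have e1 := (phi_pullAlong hX f g hr0).symm.trans
    ((congrArg (fun z => φX _ (pullAlong f z).val) e).trans (phi_pullAlong hX f b (h0 _ hv)))
  refine (congrArg (fun z => Over.Hom.left z) e1).trans ?_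
  rw [Over.comp_left, ← hft _ hv]
  exact (Category.id_comp _).trans (Category.assoc _ _ _)

include hY in
/-- The transpose is unique. -/
theorem isTranspose_unique {f : X ⟶ Y} {ft ft' : Yt ⟶ Xt} (h : AbDual.IsTranspose f φX φY ft)
    (h' : AbDual.IsTranspose f φX φY ft') : ft = ft' := by
  obtain ⟨R, hR, hRu⟩ := hY.relPic.locallySurjective Yt (𝟙 Yt)
  refine Over.OverMorphism.ext ?_
  refine ((GrothendieckTopology.Subcanonical.isSheaf_of_isRepresentable (J := Scheme.fppfTopology)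
    (yoneda.obj Xt.left)) _ (Precoverage.generate_mem_toGrothendieck hR)).isSeparatedFor.ext fun V v hv => ?_
  obtain ⟨W, w, p, hp, rfl⟩ := hv
  obtain ⟨c, hc, hφ⟩ := hRu p hp
  have e := (h _ c hc).symm.trans (h' _ c hc)
  rw [hφ, Category.comp_id] at e
  show (w ≫ p) ≫ ft.left = (w ≫ p) ≫ ft'.left
  rw [Category.assoc, Category.assoc]
  exact congrArg (w ≫ ·) (congrArg (fun z => Over.Hom.left z) e)

include hX hY in
/-- A transpose of a homomorphism preserves the origin. -/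
theorem isTranspose_one_comp {f : X ⟶ Y} {ft : Yt ⟶ Xt} (h : AbDual.IsTranspose f φX φY ft) (T : Over S) :
    (1 : T ⟶ Yt) ≫ ft = 1 := by
  rw [← phi_one hY T, ← h T _ (AbCubeLib.isPicZeroCl_one T), ← pullAlong_val, pullAlong, map_one, phi_one hX]

include hY in
/-- The transpose of the zero map. -/
theorem isTranspose_one [IsProper X.hom] (hX : AbDual.IsDualAV Scheme.fppfPrecoverage X Xt φX) :
    AbDual.IsTranspose (1 : X ⟶ Y) φX φY 1 := by
  intro T c hc
  obtain ⟨L, rfl, hL, -⟩ := id hc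
  show φX T (PicF.pullCl _ (PicM.of hL).val) = _
  rw [← pullAlong_val, MonObj.comp_one, pullAlong,
    show lift (fst X T ≫ (1 : X ⟶ Y)) (snd X T) = snd X T ≫ lift (1 : T ⟶ Y) (𝟙 T) by simp, Over.comp_left,
    ← PicM.pull_pull, phi_base hX]

include hY in
/-- **The transpose of multiplication by `n`.** -/
theorem isTranspose_pow [IsSeparated Xt.hom] [IsProper X.hom] [Smooth X.hom] [GeometricallyConnected X.hom]
    [LocallyOfFiniteType Yt.hom] {f : X ⟶ Y} {ft : Yt ⟶ Xt} (hX : AbDual.IsDualAV Scheme.fppfPrecoverage X Xt φX)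
    (h : AbDual.IsTranspose f φX φY ft) (n : ℕ) : AbDual.IsTranspose (f ^ n) φX φY (ft ^ n) := by
  induction n with
  | zero => rw [pow_zero, pow_zero]; exact isTranspose_one hY hX
  | succ n ih =>
    intro T c₀ hc₀
    obtain ⟨L, rfl, hL, -⟩ := id hc₀
    obtain ⟨r, N, hr0, hrig, hcr, hφr⟩ := exists_rigidify hY (PicM.of hL) hc₀
    have hb : ∀ h : X ⟶ Y, φX T (pullAlong h (PicM.of hL)).val = φX T (pullAlong h r).val := fun h => by
      rw [hcr, pullAlong, map_mul, PicM.pull_pull, ← Over.comp_left, lift_snd,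
        phi_mul hX _ _ (isPicZeroCl_pullAlong h hr0) (by
          have h' := isPicZeroCl_mul_base (A := X) (T := T) (c := 1) (AbCubeLib.isPicZeroCl_one T) N
          rwa [_root_.one_mul] at h'), phi_base hX, _root_.mul_one]
    show φX T (PicF.pullCl _ (PicM.of hL).val) = φY T (PicM.of hL).val ≫ (ft ^ (n + 1))
    have h1 := h T _ hc₀
    have h2 := ih T _ hc₀
    rw [show PicF.cl L = (PicM.of hL).val from rfl, ← pullAlong_val, hb] at h1 h2
    rw [← pullAlong_val, hb, pow_succ, pow_succ, MonObj.comp_mul (φY T (PicM.of hL).val), ← h1, ← h2,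
      ← phi_mul hX _ _ (isPicZeroCl_pullAlong _ hr0) (isPicZeroCl_pullAlong _ hr0)]
    congr 2
    simp only [pullAlong]
    rw [MonObj.comp_mul, pull_mul_points hY r hr0 hrig]

end Groth.Agent.AbDualLib
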