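import Groth.Agent.AbDualLib.IsogenyKernel
import Groth.Agent.AbCubeLib.DenseTorsion

/-!
# Homomorphisms of abelian schemes with finite kernel; geometric fibres
-/

set_option autoImplicit false
set_option linter.style.haveILetI false
set_option backward.isDefEq.respectTransparency.types false

universe u

open CategoryTheory CategoryTheory.Limits MonoidalCategory CartesianMonoidalCategory MonObj GrpObj AlgebraicGeometry
open Groth.Agent.AbVarLib

namespace Groth.Agent.AbDualLib

variable {S : Scheme.{u}} {A B : Over S} [GrpObj A] [GrpObj B]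
  [IsProper A.hom] [GeometricallyIntegral A.hom] [IsProper B.hom] [GeometricallyIntegral B.hom]

omit [GeometricallyIntegral B.hom] [IsProper B.hom] [GeometricallyIntegral A.hom] [IsProper A.hom] in
theorem unit_left_apply (f : A ⟶ B) [IsMonHom f] (s : S) : f.left (η[A].left s) = η[B].left s := by
  have h := congrArg (fun z : 𝟙_ (Over S) ⟶ B => z.left s) (IsMonHom.one_hom f)
  exact h

/-- A homomorphism with finitely many points over each origin is finite. -/
theorem isFinite_of_finite_preimage_unit (f : A ⟶ B) [IsMonHom f]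
    (h : ∀ s : S, (f.left ⁻¹' {η[B].left s}).Finite) : IsFinite f.left := by
  haveI := isProper_left' f
  haveI : LocallyQuasiFinite f.left := by
    refine locallyQuasiFinite_of_fibreMap f fun s => ?_
    have hs : A.hom (η[A].left s) = s := congrArg (fun z : S ⟶ S => z s) (Over.w η[A])
    obtain ⟨x', hx'⟩ : η[A].left s ∈ Set.range (pullback.fst A.hom (fibPt s)) :=
      (A.hom.range_fiberι s).ge hs
    haveI : IsProper (fibreMap f s).left := MorphismProperty.of_isPullback (isPullback_pullback_map _ f) inferInstance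
    refine locallyQuasiFinite_of_finite_preimage (fibreMap f s) ((fibreMap f s).left x') ⟨x', rfl⟩ ?_
    refine ((h s).preimage (f := pullback.fst A.hom (fibPt s))
      (A.hom.fiberι s).isEmbedding.injective.injOn).subset fun z hz => ?_
    show f.left (pullback.fst A.hom (fibPt s) z) ∈ ({η[B].left s} : Set B.left)
    rw [← Scheme.Hom.comp_apply, (isPullback_pullback_map (fibPt s) f).w, Scheme.Hom.comp_apply,
      Set.mem_singleton_iff.1 hz, ← Scheme.Hom.comp_apply, ← (isPullback_pullback_map (fibPt s) f).w,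
      Scheme.Hom.comp_apply, hx', unit_left_apply f s]
    rfl
  exact IsFinite.of_isProper_of_locallyQuasiFinite f.left

/-- Multiplication by a positive integer has finitely many points over each point. -/
theorem finite_preimage_pow [IsCommMonObj A] [Smooth A.hom] {n : ℕ} (hn : 0 < n) (s : S) :
    ((𝟙 A ^ n).left ⁻¹' {η[A].left s}).Finite := by
  haveI := isProper_left' (𝟙 A ^ n)
  haveI : LocallyQuasiFinite (𝟙 A ^ n).left := by
    refine locallyQuasiFinite_of_fibreMap _ fun t => ?_
    have e : fibreMap (𝟙 A ^ n) t = (𝟙 (fib A t)) ^ n := by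
      show (Over.pullback (fibPt t)).map (𝟙 A ^ n) = _
      rw [← (Over.pullback (fibPt t)).map_id]
      exact map_pow (Over.pullback (fibPt t)).homMonoidHom (𝟙 A) n
    rw [e]
    haveI : IsCommMonObj (fib A t) := isCommMonObj_of_isProper_of_geometricallyIntegral _
    haveI := AbCubeLib.isFinite_pow (A := fib A t) hn
    infer_instance
  exact (𝟙 A ^ n).left.finite_preimage_singleton _

variable {Ω : Type u} [Field Ω] (σ : Spec (CommRingCat.of Ω) ⟶ S)

/-- The geometric fibre. -/
noncomputable abbrev gfib (Z : Over S) : Over (Spec (CommRingCat.of Ω)) := (Over.pullback σ).obj Z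

noncomputable instance (Z : Over S) [GrpObj Z] : GrpObj (gfib σ Z) := Functor.grpObjObj

instance (Z : Over S) [IsProper Z.hom] : IsProper (gfib σ Z).hom := inferInstanceAs (IsProper (pullback.snd _ _))

instance (Z : Over S) [GeometricallyIntegral Z.hom] : GeometricallyIntegral (gfib σ Z).hom :=
  inferInstanceAs (GeometricallyIntegral (pullback.snd _ _))

omit [IsProper A.hom] [GeometricallyIntegral A.hom] in
/-- Rational points of a geometric fibre are points of the group. -/
theorem exists_ptsEquiv : ∃ e : (Over.mk σ ⟶ A) ≃* (𝟙_ (Over (Spec (CommRingCat.of Ω))) ⟶ gfib σ A),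
    ∀ x, (e x).left ≫ pullback.fst A.hom σ = x.left := by
  let F := Over.pullback σ
  let d : 𝟙_ (Over (Spec (CommRingCat.of Ω))) ⟶ F.obj (Over.mk σ) :=
    Over.homMk (pullback.lift (𝟙 _) (𝟙 _) rfl) (pullback.lift_snd _ _ _)
  let m : (Over.mk σ ⟶ A) →* (𝟙_ (Over (Spec (CommRingCat.of Ω))) ⟶ gfib σ A) :=
    { toFun := fun x => d ≫ F.map x
      map_one' := by
        rw [show F.map (1 : Over.mk σ ⟶ A) = 1 from map_one F.homMonoidHom, MonObj.comp_one]
      map_mul' := fun x y => by
        rw [show F.map (x * y) = F.map x * F.map y from map_mul F.homMonoidHom x y, MonObj.comp_mul] }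
  have key : ∀ x, (m x).left ≫ pullback.fst A.hom σ = x.left := fun x => by
    show (d ≫ F.map x).left ≫ pullback.fst A.hom σ = x.left
    simp [d, F, Over.comp_left]
    erw [pullback.lift_fst, pullback.lift_fst_assoc, Category.id_comp]
  refine ⟨MulEquiv.ofBijective m ⟨fun x y h => Over.OverMorphism.ext ?_, fun z => ?_⟩, key⟩
  · rw [← key x, ← key y, h]
  · refine ⟨Over.homMk (z.left ≫ pullback.fst A.hom σ) ?_, Over.OverMorphism.ext (pullback.hom_ext (key _) ?_)⟩
    · rw [Category.assoc, pullback.condition, ← Category.assoc]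
      exact (congrArg (· ≫ σ) (Over.w z)).trans (Category.id_comp σ)
    · exact (Over.w _).trans (Over.w z).symm

/-- A homomorphism injective on `ℓ`-torsion with `n`-th powers in the image preserves dimensions. -/
theorem dim_eq_of_points [IsAlgClosed Ω] [IsCommMonObj A] [IsCommMonObj B] (f : A ⟶ B) [IsMonHom f] {n : ℕ}
    (hn : 0 < n) (h1 : ∀ t : Over.mk σ ⟶ A, t ≫ f = 1 → t ^ n = 1)
    (h2 : ∀ x : Over.mk σ ⟶ B, ∃ t : Over.mk σ ⟶ A, t ≫ f = x ^ n) :
    topologicalKrullDim (gfib σ A).left = topologicalKrullDim (gfib σ B).left := by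
  obtain ⟨a, ha⟩ := AbCubeLib.exists_dim_eq (gfib σ A)
  obtain ⟨b, hb⟩ := AbCubeLib.exists_dim_eq (gfib σ B)
  obtain ⟨l, hl, hp⟩ := Nat.exists_infinite_primes (max n (ringChar Ω) + 1)
  have hln : Nat.Coprime n l := by
    refine ((Nat.Prime.coprime_iff_not_dvd hp).2 fun hd => ?_).symm
    have := Nat.le_of_dvd hn hd
    omega
  have hlk : (l : Ω) ≠ 0 := fun h0 => by
    rw [ringChar.spec] at h0
    rcases (Nat.dvd_prime hp).1 h0 with h | h
    · exact CharP.ringChar_ne_one h
    · omega
  haveI : IsCommMonObj (gfib σ A) := isCommMonObj_of_isProper_of_geometricallyIntegral _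
  haveI : IsCommMonObj (gfib σ B) := isCommMonObj_of_isProper_of_geometricallyIntegral _
  obtain ⟨eA, -⟩ := exists_ptsEquiv (A := A) σ
  obtain ⟨eB, -⟩ := exists_ptsEquiv (A := B) σ
  have hA : Nat.card {t : Over.mk σ ⟶ A // t ^ l = 1} = l ^ (2 * a) := by
    rw [← AbCubeLib.natCard_torsPts_eq (A := gfib σ A) ha hlk]
    exact Nat.card_congr (Equiv.subtypeEquiv eA.toEquiv fun t => by
      rw [AbDual.mem_torsPts]
      show _ ↔ eA t ^ l = 1
      rw [← map_pow, EmbeddingLike.map_eq_one_iff])
  have hB : Nat.card {t : Over.mk σ ⟶ B // t ^ l = 1} = l ^ (2 * b) := by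
    rw [← AbCubeLib.natCard_torsPts_eq (A := gfib σ B) hb hlk]
    exact Nat.card_congr (Equiv.subtypeEquiv eB.toEquiv fun t => by
      rw [AbDual.mem_torsPts]
      show _ ↔ eB t ^ l = 1
      rw [← map_pow, EmbeddingLike.map_eq_one_iff])
  obtain ⟨m, hm⟩ := Nat.exists_mul_mod_eq_one_of_coprime hln hp.one_lt
  have hbez : ∀ {M : Type u} [Monoid M] (x : M), x ^ l = 1 → (x ^ n) ^ m = x := fun {M} _ x hx => by
    rw [← pow_mul, ← Nat.mod_add_div (n * m) l, hm.2, pow_add, pow_one, pow_mul, hx, one_pow, _root_.mul_one]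
  let F : {t : Over.mk σ ⟶ A // t ^ l = 1} → {t : Over.mk σ ⟶ B // t ^ l = 1} :=
    fun t => ⟨t.1 ≫ f, by rw [← MonObj.pow_comp, t.2, MonObj.one_comp]⟩
  have hF : Function.Bijective F := by
    refine ⟨fun t t' htt => Subtype.ext ?_, fun x => ?_⟩
    · have htt' : t.1 ≫ f = t'.1 ≫ f := congrArg Subtype.val htt
      have he : (t.1⁻¹ * t'.1) ≫ f = 1 := by
        rw [MonObj.mul_comp, GrpObj.inv_comp, htt', inv_mul_cancel]
      have hpl : (t.1⁻¹ * t'.1) ^ l = 1 := by
        rw [mul_pow, inv_pow, t.2, t'.2, inv_one, _root_.one_mul]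
      have := hbez (t.1⁻¹ * t'.1) hpl
      rw [h1 _ he, one_pow, eq_comm, inv_mul_eq_one] at this
      exact this
    · obtain ⟨z, hz⟩ := h2 x.1
      -- push `z` into the `l`-torsion
      have hzl : (z ^ l) ^ n = 1 := h1 _ (by
        rw [MonObj.pow_comp, hz, ← pow_mul, mul_comm, pow_mul, x.2, one_pow])
      refine ⟨⟨(z ^ n) ^ (m * m), ?_⟩, Subtype.ext ?_⟩
      · rw [← pow_mul, ← pow_mul, show n * (m * m * l) = l * n * (m * m) by ring, pow_mul, pow_mul z l n, hzl, one_pow]
      · show ((z ^ n) ^ (m * m)) ≫ f = x.1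
        rw [MonObj.pow_comp, MonObj.pow_comp, hz, pow_mul, hbez (x.1 ^ n) (by
          rw [← pow_mul, mul_comm, pow_mul, x.2, one_pow]), hbez x.1 x.2]
  have hab := (Nat.card_eq_of_bijective F hF)
  rw [hA, hB] at hab
  have := Nat.pow_right_injective hp.two_le hab
  rw [ha, hb, show a = b by omega]

end Groth.Agent.AbDualLib
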