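import Groth.Agent.AbDualLib.KernelDual
import Groth.Agent.AbDualLib.Transpose
import Groth.Agent.AbDualLib.DualBaseChange
import Groth.Agent.AbDualLib.DualDim
import Groth.Agent.AbDualLib.LambdaEnd
import Groth.Agent.AbCubeLib.RankTrans
import Groth.Agent.AbCubeLib.EndBC
import Groth.Agent.IsoTriv.SchemeSpec
import Groth.Agent.S12387
import Groth.Agent.S17253

/-!
# The transpose of an isogeny has the same degree

The dual of an abelian variety has the same dimension; the rank of the kernel of a transpose is at most the degree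
of the isogeny, and quasi-inverse isogenies force equality.
-/

set_option autoImplicit false
set_option linter.style.haveILetI false
set_option linter.unusedSectionVars false
set_option backward.isDefEq.respectTransparency.types false

universe u

open CategoryTheory CategoryTheory.Limits MonoidalCategory CartesianMonoidalCategory MonObj GrpObj AlgebraicGeometry

namespace Groth.Agent.AbDualLib

variable {k : Type u} [Field k] {X Y Xt Yt : Over (Spec (CommRingCat.of k))} [GrpObj X] [GrpObj Y] [GrpObj Xt] [GrpObj Yt]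
  [IsProper X.hom] [Smooth X.hom] [GeometricallyConnected X.hom] [IsProper Y.hom] [Smooth Y.hom] [GeometricallyConnected Y.hom]
  [IsProper Xt.hom] [Smooth Xt.hom] [GeometricallyConnected Xt.hom] [IsProper Yt.hom] [Smooth Yt.hom] [GeometricallyConnected Yt.hom]
  {φX : AgPol.DualMap X Xt} {φY : AgPol.DualMap Y Yt}
  (hX : AbDual.IsDualAV Scheme.fppfPrecoverage X Xt φX) (hY : AbDual.IsDualAV Scheme.fppfPrecoverage Y Yt φY)

include hX in
/-- **An abelian variety and its dual have the same dimension.** -/
theorem dim_dual_eq : topologicalKrullDim X.left = topologicalKrullDim Xt.left := by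
  haveI := AbVarLib.geometricallyIntegral_of_smooth X.hom
  haveI := AbVarLib.geometricallyIntegral_of_smooth Xt.hom
  haveI := isCommMonObj_of_isProper_of_geometricallyIntegral X
  haveI := isCommMonObj_of_isProper_of_geometricallyIntegral Xt
  let Ω := AlgebraicClosure k
  let t : Spec (CommRingCat.of Ω) ⟶ Spec (CommRingCat.of k) := Spec.map (CommRingCat.ofHom (algebraMap k Ω))
  haveI : IsProper (Red.bc t X).hom := inferInstanceAs (IsProper (pullback.snd X.hom t))
  haveI : IsProper (Red.bc t Xt).hom := inferInstanceAs (IsProper (pullback.snd Xt.hom t))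
  haveI : GeometricallyIntegral (Red.bc t X).hom := inferInstanceAs (GeometricallyIntegral (pullback.snd X.hom t))
  haveI : GeometricallyIntegral (Red.bc t Xt).hom := inferInstanceAs (GeometricallyIntegral (pullback.snd Xt.hom t))
  haveI := isCommMonObj_of_isProper_of_geometricallyIntegral (Red.bc t X)
  haveI := isCommMonObj_of_isProper_of_geometricallyIntegral (Red.bc t Xt)
  obtain ⟨L, hL, hamp⟩ := AbCubeLib.exists_ample (A := Red.bc t X)
  obtain ⟨lam, hlam⟩ := exists_isLambda (At := Red.bc t Xt) (φ := AgPol.bcDual t X Xt φX) hL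
  have h := (isogeny_lambda (isDualAV_bcDual (k := t) hX) hamp hlam).2.1
  obtain ⟨g, hg⟩ := AbCubeLib.exists_dim_eq X
  obtain ⟨g', hg'⟩ := AbCubeLib.exists_dim_eq Xt
  have e1 : topologicalKrullDim (Red.bc t X).left = g := AbCubeLib.dim_bc_eq t hg
  have e2 : topologicalKrullDim (Red.bc t Xt).left = g' := AbCubeLib.dim_bc_eq t hg'
  rw [e1, e2] at h
  rw [hg, hg', h]

include hX hY in
/-- Transposes are homomorphisms. -/
theorem isMonHom_transpose {f : X ⟶ Y} {ft : Yt ⟶ Xt} (hft : AbDual.IsTranspose f φX φY ft) : IsMonHom ft := by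
  haveI := AbVarLib.geometricallyIntegral_of_smooth Yt.hom
  haveI : GeometricallyReduced Yt.hom := AbSchLib.geometricallyReduced_of_smooth Yt.hom
  refine AbSchLib.isMonHom_of_one Yt Xt ft ?_
  have h1 : ∀ Z : Over (Spec (CommRingCat.of k)), ∀ [GrpObj Z], (η[Z] : 𝟙_ _ ⟶ Z) = 1 := fun Z _ => by
    rw [Hom.one_def, toUnit_unique (toUnit (𝟙_ (Over (Spec (CommRingCat.of k))))) (𝟙 _), Category.id_comp]
  rw [h1, h1]
  exact isTranspose_one_comp hX hY hft _

omit [IsProper Xt.hom] [Smooth Xt.hom] [GeometricallyConnected Xt.hom] in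
/-- The degree of an isogeny is constant. -/
theorem finrank_eq_at_origin (h : Y ⟶ Xt) [IsFinite h.left] [Flat h.left] [IsProper Xt.hom] [Smooth Xt.hom]
    [GeometricallyConnected Xt.hom] (y : Xt.left) :
    Scheme.Hom.finrank h.left y = Scheme.Hom.finrank h.left (η[Xt].left (IsLocalRing.closedPoint k)) := by
  haveI := AbVarLib.geometricallyIntegral_of_smooth Xt.hom
  haveI : IsIntegral Xt.left := GeometricallyIntegral.isIntegral_of_subsingleton Xt.hom
  haveI : IsLocallyNoetherian Xt.left := LocallyOfFiniteType.isLocallyNoetherian Xt.hom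
  rw [AbCubeLib.finrank_eq_genRank, AbCubeLib.finrank_eq_genRank]

/-- The kernel of an isogeny is the spectrum of a finite Hopf algebra. -/
theorem exists_kernel_sp (f : X ⟶ Y) [IsMonHom f] [IsFinite f.left] :
    ∃ (A : Type u) (_ : CommRing A) (_ : HopfAlgebra k A) (_ : FiniteDimensional k A) (i : CoactBr.sp k A ⟶ X),
      IsMonHom i ∧ AlgGrp.IsKernel i f := by
  have hK := UnipStruct.isKernel_kerι f
  have hsq := hK.map (Over.forget (Spec (CommRingCat.of k)))
  haveI : IsFinite (UnipStruct.kerObj f).hom := by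
    rw [show (Over.forget _).map (toUnit (UnipStruct.kerObj f)) = (UnipStruct.kerObj f).hom from
      (Category.comp_id _).symm.trans (Over.w (toUnit (UnipStruct.kerObj f)))] at hsq
    exact MorphismProperty.of_isPullback hsq ‹IsFinite f.left›
  haveI : IsAffine (UnipStruct.kerObj f).left := isAffine_of_isAffineHom (UnipStruct.kerObj f).hom
  obtain ⟨A, _, _, ⟨e⟩⟩ := IsoTriv.SchemeSpec.exists_spec (UnipStruct.kerObj f)
  let e' : UnipStruct.kerObj f ≅ CoactBr.sp k A := (Grp.forget _).mapIso e
  haveI : IsMonHom e'.inv := inferInstanceAs (IsMonHom e.inv.hom.hom)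
  haveI : IsFinite (CoactBr.sp k A).hom := by
    haveI : IsIso e'.inv.left := inferInstanceAs (IsIso ((Over.forget _).map e'.inv))
    rw [← Over.w e'.inv]
    infer_instance
  haveI : FiniteDimensional k A := (RingHom.finite_algebraMap).1 ((IsFinite.SpecMap_iff _).1 ‹_›)
  refine ⟨A, inferInstance, inferInstance, inferInstance, e'.inv ≫ UnipStruct.kerι f, inferInstance, ?_⟩
  exact hK.of_iso e' (Iso.refl _) (Iso.refl _) (Iso.refl _) (by simp) (toUnit_unique _ _) (by simp) (by simp)

omit [IsProper X.hom] [Smooth X.hom] [GeometricallyConnected X.hom] in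
/-- The rank of the kernel is the degree. -/
theorem finrank_kernel (f : X ⟶ Y) [IsFinite f.left] [Flat f.left] {A : Type u} [CommRing A] [Algebra k A]
    [FiniteDimensional k A] {i : CoactBr.sp k A ⟶ X} (hA : AlgGrp.IsKernel i f) :
    Module.finrank k A = Scheme.Hom.finrank f.left (η[Y].left (IsLocalRing.closedPoint k)) := by
  have hsq := hA.map (Over.forget (Spec (CommRingCat.of k)))
  rw [show (Over.forget _).map (toUnit (CoactBr.sp k A)) = (CoactBr.sp k A).hom from
    (Category.comp_id _).symm.trans (Over.w (toUnit (CoactBr.sp k A)))] at hsq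
  haveI : IsFinite ((Over.forget (Spec (CommRingCat.of k))).map f) := ‹IsFinite f.left›
  haveI : Flat ((Over.forget (Spec (CommRingCat.of k))).map f) := ‹Flat f.left›
  have e : Scheme.Hom.finrank (CoactBr.sp k A).hom (IsLocalRing.closedPoint k) =
      Scheme.Hom.finrank f.left (η[Y].left (IsLocalRing.closedPoint k)) :=
    Scheme.Hom.finrank_of_isPullback _ _ _ _ hsq _
  rw [← e]
  show _ = Scheme.Hom.finrank (Spec.map (CommRingCat.ofHom (algebraMap k A))) _
  rw [Scheme.Hom.finrank_SpecMap_algebraMap, Module.rankAtStalk_eq_finrank_of_free]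
  simp

variable {f : X ⟶ Y}

include hX hY in
/-- The transpose of an isogeny is an isogeny. -/
theorem isogeny_transpose [IsMonHom f] [IsFinite f.left] [Surjective f.left] {ft : Yt ⟶ Xt}
    (hft : AbDual.IsTranspose f φX φY ft) : IsFinite ft.left ∧ Flat ft.left ∧ Surjective ft.left := by
  haveI := AbVarLib.geometricallyIntegral_of_smooth X.hom
  haveI := AbVarLib.geometricallyIntegral_of_smooth Y.hom
  haveI := AbVarLib.geometricallyIntegral_of_smooth Xt.hom
  haveI := AbVarLib.geometricallyIntegral_of_smooth Yt.hom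
  haveI := isCommMonObj_of_isProper_of_geometricallyIntegral X
  haveI := isCommMonObj_of_isProper_of_geometricallyIntegral Y
  haveI := isCommMonObj_of_isProper_of_geometricallyIntegral Xt
  haveI := isCommMonObj_of_isProper_of_geometricallyIntegral Yt
  haveI := isMonHom_transpose hX hY hft
  obtain ⟨A, _, _, _, i, hi, hA⟩ := exists_kernel_sp f
  haveI : IsFinite (CoactBr.sp k A).hom := (IsFinite.SpecMap_iff _).2 (RingHom.finite_algebraMap.2 inferInstance)
  obtain ⟨hs, hfl, hker⟩ := S12387.result X Y Xt Yt φX φY hX hY f (CoactBr.sp k A) i hA ft hft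
  haveI := hs
  haveI := hfl
  refine ⟨isFinite_of_finite_preimage_unit ft fun s => ?_, hfl, hs⟩
  obtain ⟨hfin, -⟩ := hker (UnipStruct.kerObj ft) (UnipStruct.kerι ft) (UnipStruct.isKernel_kerι ft)
  have hsq := (UnipStruct.isKernel_kerι ft).map (Over.forget (Spec (CommRingCat.of k)))
  refine (((UnipStruct.kerObj ft).hom.finite_preimage_singleton s).image (UnipStruct.kerι ft).left).subset fun y hy => ?_
  obtain ⟨z, hz, -⟩ := Scheme.Pullback.exists_preimage_pullback (f := ft.left) (g := η[Xt].left) y s hy
  refine ⟨hsq.isoPullback.inv z, Subsingleton.elim (α := PrimeSpectrum k) _ _, ?_⟩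
  show (hsq.isoPullback.inv ≫ (UnipStruct.kerι ft).left) z = y
  rw [show hsq.isoPullback.inv ≫ (UnipStruct.kerι ft).left = pullback.fst ft.left η[Xt].left from hsq.isoPullback_inv_fst]
  exact hz

include hX hY in
/-- The degree of the transpose is at most the degree. -/
theorem finrank_transpose_le [IsMonHom f] [IsFinite f.left] [Flat f.left] [Surjective f.left] {ft : Yt ⟶ Xt}
    (hft : AbDual.IsTranspose f φX φY ft) [IsFinite ft.left] [Flat ft.left] :
    Scheme.Hom.finrank ft.left (η[Xt].left (IsLocalRing.closedPoint k)) ≤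
      Scheme.Hom.finrank f.left (η[Y].left (IsLocalRing.closedPoint k)) := by
  haveI := isMonHom_transpose hX hY hft
  obtain ⟨A, _, _, _, i, hi, hA⟩ := exists_kernel_sp f
  obtain ⟨B, _, _, _, j, hj, hB⟩ := exists_kernel_sp ft
  obtain ⟨Φ, hΦ⟩ := exists_surjective_bialgHom hX hY f i hA hft j hB
  rw [← finrank_kernel f hA, ← finrank_kernel ft hB]
  refine le_of_le_of_eq (LinearMap.finrank_le_finrank_of_surjective (f := (Φ : CartDual.D k A →ₗ[k] B)) hΦ) ?_
  exact (CartDual.toDual k A).finrank_eq.trans Subspace.dual_finrank_eq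

include hX hY in
/-- **The transpose of an isogeny has the same degree.** -/
theorem finrank_transpose_eq [IsMonHom f] [IsFinite f.left] [Flat f.left] [Surjective f.left] {ft : Yt ⟶ Xt}
    (hft : AbDual.IsTranspose f φX φY ft) [IsFinite ft.left] [Flat ft.left] :
    Scheme.Hom.finrank ft.left (η[Xt].left (IsLocalRing.closedPoint k)) =
      Scheme.Hom.finrank f.left (η[Y].left (IsLocalRing.closedPoint k)) := by
  haveI := AbVarLib.geometricallyIntegral_of_smooth X.hom
  haveI := AbVarLib.geometricallyIntegral_of_smooth Y.hom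
  haveI := AbVarLib.geometricallyIntegral_of_smooth Xt.hom
  haveI := AbVarLib.geometricallyIntegral_of_smooth Yt.hom
  haveI := isCommMonObj_of_isProper_of_geometricallyIntegral X
  haveI := isCommMonObj_of_isProper_of_geometricallyIntegral Y
  haveI := isCommMonObj_of_isProper_of_geometricallyIntegral Xt
  haveI := isCommMonObj_of_isProper_of_geometricallyIntegral Yt
  obtain ⟨N, ψ, hN, hψm, hfψ, hψf⟩ := exists_quasiInverse f
  haveI := hψm
  obtain ⟨hψfin, hψfl, hψs, -⟩ := S17253.result k Y X ψ f (N : ℤ) (by exact_mod_cast hN.ne')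
    (by rw [zpow_natCast]; exact hψf)
  haveI := hψfin
  haveI := hψfl
  haveI := hψs
  obtain ⟨ψt, hψt⟩ := exists_isTranspose hY hX ψ
  obtain ⟨h1, h2, h3⟩ := isogeny_transpose hY hX hψt
  haveI := h1
  haveI := h2
  have hid : AbDual.IsTranspose (𝟙 X) φX φX (𝟙 Xt) := fun T c hc => by
    obtain ⟨L, rfl, hL, -⟩ := id hc
    rw [Category.comp_id]
    show φX T (PicF.pullCl _ (PicLib.PicM.of hL).val) = φX T (PicLib.PicM.of hL).val
    rw [← pullAlong_val, pullAlong, Category.comp_id, lift_fst_snd, Over.id_left, PicLib.PicM.pull_id]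
  have heq : ψt ≫ ft = 𝟙 Xt ^ N := by
    refine isTranspose_unique hX (f := 𝟙 X ^ N) ?_ (isTranspose_pow hX hX hid N)
    rw [← hfψ]
    exact isTranspose_comp hft hψt
  obtain ⟨g, hg⟩ := AbCubeLib.exists_dim_eq X
  have hg' : topologicalKrullDim Xt.left = g := (dim_dual_eq hX).symm.trans hg
  let oX := η[X].left (IsLocalRing.closedPoint k)
  let oXt := η[Xt].left (IsLocalRing.closedPoint k)
  have e1 := AbCubeLib.finrank_comp f.left ψ.left (finrank_eq_at_origin f) oX
  have e2 := AbCubeLib.finrank_comp ψt.left ft.left (finrank_eq_at_origin ψt) oXt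
  rw [← Over.comp_left, hfψ, AbCubeLib.finrank_pow hN hg] at e1
  rw [← Over.comp_left, heq, AbCubeLib.finrank_pow hN hg'] at e2
  have hle1 := finrank_transpose_le hX hY hft
  have hle2 := finrank_transpose_le hY hX hψt
  have hpos : 0 < N ^ (2 * g) := pow_pos hN _
  refine le_antisymm hle1 ?_
  by_contra hlt
  rw [not_le] at hlt
  have hψpos : 0 < Scheme.Hom.finrank ψ.left oX := Nat.pos_of_ne_zero fun h0 => by
    rw [h0, Nat.mul_zero] at e1
    omega
  have := Nat.mul_lt_mul_of_lt_of_le hlt hle2 hψpos
  nlinarith [e1, e2, this]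

end Groth.Agent.AbDualLib
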