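import Groth.Agent.AbDualLib.Universal

/-!
# Bookkeeping for classes on products
-/

set_option autoImplicit false

universe u

open CategoryTheory CategoryTheory.Limits MonoidalCategory CartesianMonoidalCategory MonObj GrpObj AlgebraicGeometry
open Groth.Agent.PicLib

namespace Groth.Agent.AbDualLib

variable {S : Scheme.{u}}

/-- The symmetry of fibre products as a morphism of the cartesian structure. -/
theorem sym_eq (B A : Over S) : (pullbackSymmetry B.hom A.hom).hom = (lift (snd B A) (fst B A)).left := by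
  apply pullback.hom_ext
  · rw [pullbackSymmetry_hom_comp_fst]
    exact (congrArg (fun z => Over.Hom.left z) (lift_fst (snd B A) (fst B A))).symm
  · rw [pullbackSymmetry_hom_comp_snd]
    exact (congrArg (fun z => Over.Hom.left z) (lift_snd (snd B A) (fst B A))).symm

/-- A class on `A ×_S B` evaluated at a pair of points. -/
noncomputable def ev {A B V : Over S} (c : PicM (A ⊗ B).left) (x : V ⟶ A) (y : V ⟶ B) : PicM V.left :=
  PicM.pull (lift x y).left c

theorem pull_ev {A B V W : Over S} (c : PicM (A ⊗ B).left) (x : V ⟶ A) (y : V ⟶ B) (g : W ⟶ V) :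
    PicM.pull g.left (ev c x y) = ev c (g ≫ x) (g ≫ y) := by
  rw [ev, ev, PicM.pull_pull, ← Over.comp_left, comp_lift]

theorem ev_id {A B : Over S} (c : PicM (A ⊗ B).left) : ev c (fst A B) (snd A B) = c := by
  rw [ev, lift_fst_snd, Over.id_left, PicM.pull_id]

theorem pullCl_sym {A B : Over S} (c : PicM (A ⊗ B).left) :
    PicF.pullCl (pullbackSymmetry B.hom A.hom).hom c.val = (ev c (snd B A) (fst B A)).val := by
  rw [sym_eq]; rfl

variable {A At : Over S} [GrpObj A] [GrpObj At]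
  {φ : ∀ T : Over S, PicF.Cl (PicF.XT A.hom T) → (T ⟶ At)}

/-- A Poincaré class in cartesian notation. -/
theorem exists_poincare {ξ : PicF.Cl (PicF.XT A.hom At)} (hξ : AbDual.IsPoincareCl A At φ ξ) :
    ∃ P : PicM (A ⊗ At).left, ξ = P.val ∧ AbDual.IsPicZeroCl A.hom At P.val ∧ φ At P.val = 𝟙 At ∧
      ev P (1 : At ⟶ A) (𝟙 At) = 1 := by
  obtain ⟨h0, hid, hrig⟩ := hξ
  obtain ⟨L, hcL, hL, -⟩ := id h0
  subst hcL
  refine ⟨PicM.of hL, rfl, h0, hid, PicM.ext ((congrArg (fun m => PicF.pullCl m (PicF.cl L)) ?_).trans hrig)⟩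
  apply pullback.hom_ext
  · rw [PicF.secT, pullback.lift_fst]
    refine (congrArg (fun t => Over.Hom.left t) (lift_fst (1 : At ⟶ A) (𝟙 At))).trans ?_
    rw [show (1 : At ⟶ A) = toUnit At ≫ η[A] from rfl, Over.comp_left]
    exact congrArg (· ≫ η[A].left) (Over.w (toUnit At) |> fun h => (Category.comp_id _).symm.trans h)
  · rw [PicF.secT, pullback.lift_snd]
    exact congrArg (fun t => Over.Hom.left t) (lift_snd (1 : At ⟶ A) (𝟙 At))

/-- Pullbacks of the Poincaré class are Pic⁰, rigidified, with the expected point. -/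
theorem poincare_point (hφ : AbDual.IsDualAV Scheme.fppfPrecoverage A At φ) {P : PicM (A ⊗ At).left}
    (h0 : AbDual.IsPicZeroCl A.hom At P.val) (hid : φ At P.val = 𝟙 At) (hrig : ev P (1 : At ⟶ A) (𝟙 At) = 1)
    {T : Over S} (g : T ⟶ At) :
    AbDual.IsPicZeroCl A.hom T (ev P (fst A T) (snd A T ≫ g)).val ∧
      φ T (ev P (fst A T) (snd A T ≫ g)).val = g ∧
      PicM.pull (lift (1 : T ⟶ A) (𝟙 T)).left (ev P (fst A T) (snd A T ≫ g)) = 1 := by
  refine ⟨isPicZeroCl_pb g _ (lift_snd _ _) h0, (phi_pb hφ g P h0).trans ?_, ?_⟩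
  · rw [hid, Category.comp_id]
  · rw [pull_ev, show lift (1 : T ⟶ A) (𝟙 T) ≫ fst A T = g ≫ (1 : At ⟶ A) by simp,
      show lift (1 : T ⟶ A) (𝟙 T) ≫ snd A T ≫ g = g ≫ 𝟙 At by simp, ← pull_ev, hrig, map_one]

/-- Inverse images along homomorphisms of the first factor. -/
theorem pull_bcMap {B : Over S} (f : B ⟶ A) {T : Over S} (c : PicM (A ⊗ T).left) :
    PicM.pull (AbDual.bcMap f T) c = ev c (fst B T ≫ f) (snd B T) := by
  rw [AbCubeLib.bcMap_eq]; rfl

theorem isPicZeroCl_bcMap {B : Over S} (f : B ⟶ A) {T : Over S} {c : PicM (A ⊗ T).left}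
    (hc : AbDual.IsPicZeroCl A.hom T c.val) :
    AbDual.IsPicZeroCl B.hom T (ev c (fst B T ≫ f) (snd B T)).val :=
  isPicZeroCl_pull (𝟙 T) (lift (fst B T ≫ f) (snd B T)).left (by
    refine (congrArg (fun t => Over.Hom.left t) (lift_snd (fst B T ≫ f) (snd B T))).trans ?_
    exact (Category.comp_id _).symm) hc

end Groth.Agent.AbDualLib
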