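import Groth.Agent.AbDualLib.Basic
import Groth.Agent.S12008
import Mathlib.AlgebraicGeometry.Group.Abelian
import Mathlib.CategoryTheory.Monoidal.Cartesian.Over

/-!
# Pic⁰ classes on geometric fibres of abelian schemes are translation invariant
-/

set_option autoImplicit false

universe u

open CategoryTheory CategoryTheory.Limits MonoidalCategory CartesianMonoidalCategory MonObj GrpObj AlgebraicGeometry
open Groth.Agent.PicLib

namespace Groth.Agent.AbDualLib

variable {S S' : Scheme.{u}} (s : S' ⟶ S) {A : Over S} [GrpObj A]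

/-- Products of morphisms into a base change, computed after projecting. -/
theorem mul_left_pullback_fst {V : Over S'} :
    letI : GrpObj ((Over.pullback s).obj A) := Functor.grpObjObj
    ∀ (f g : V ⟶ (Over.pullback s).obj A) (f' g' : Over.mk (V.hom ≫ s) ⟶ A),
      f.left ≫ pullback.fst A.hom s = f'.left → g.left ≫ pullback.fst A.hom s = g'.left →
        (f * g).left ≫ pullback.fst A.hom s = (f' * g').left := by
  letI : GrpObj ((Over.pullback s).obj A) := Functor.grpObjObj
  intro f g f' g' hf hg
  let F := Over.pullback s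
  let V' : Over S := Over.mk (V.hom ≫ s)
  let θ : V ⟶ F.obj V' := Over.homMk (pullback.lift (𝟙 _) V.hom (by simp [V'])) (pullback.lift_snd _ _ _)
  have hfact : ∀ (h : V ⟶ F.obj A) (h' : V' ⟶ A), h.left ≫ pullback.fst A.hom s = h'.left → h = θ ≫ F.map h' := by
    intro h h' e
    refine Over.OverMorphism.ext (pullback.hom_ext ?_ ?_)
    · refine e.trans ?_
      show h'.left = (θ.left ≫ (F.map h').left) ≫ pullback.fst A.hom s
      rw [Category.assoc, show (F.map h').left ≫ pullback.fst A.hom s = pullback.fst V'.hom s ≫ h'.left from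
        pullback.lift_fst _ _ _]
      exact ((pullback.lift_fst_assoc _ _ _ _).trans (Category.id_comp _)).symm
    · exact (Over.w h).trans (Over.w (θ ≫ F.map h')).symm
  rw [hfact f f' hf, hfact g g' hg, ← MonObj.comp_mul, ← Functor.map_mul]
  show (θ.left ≫ (F.map (f' * g')).left) ≫ pullback.fst A.hom s = _
  rw [Category.assoc, show (F.map (f' * g')).left ≫ pullback.fst A.hom s = pullback.fst V'.hom s ≫ (f' * g').left from
    pullback.lift_fst _ _ _]
  exact (pullback.lift_fst_assoc _ _ _ _).trans (Category.id_comp _)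

/-- **Translation invariance** of a Pic⁰ class on a geometric fibre. -/
theorem pb_transl_eq [IsProper A.hom] [Smooth A.hom] [GeometricallyConnected A.hom] {Ω : Type u} [Field Ω]
    [IsAlgClosed Ω] (s : Spec (CommRingCat.of Ω) ⟶ S) (a : Over.mk s ⟶ A) (c : PicM (A ⊗ Over.mk s).left)
    (hc : AbDual.IsPicZeroCl A.hom (Over.mk s) c.val) :
    PicM.pull (lift (fst A (Over.mk s) * (snd A (Over.mk s) ≫ a)) (snd A (Over.mk s))).left c = c := by
  let F := Over.pullback s
  let A' := F.obj A
  letI : GrpObj A' := Functor.grpObjObj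
  haveI : GeometricallyIntegral A.hom := AbVarLib.geometricallyIntegral_of_smooth A.hom
  haveI : IsProper A'.hom := inferInstanceAs (IsProper (pullback.snd A.hom s))
  haveI : Smooth A'.hom := inferInstanceAs (Smooth (pullback.snd A.hom s))
  haveI : GeometricallyIntegral A'.hom := inferInstanceAs (GeometricallyIntegral (pullback.snd A.hom s))
  haveI : IsCommMonObj A' := isCommMonObj_of_isProper_of_geometricallyIntegral A'
  obtain ⟨L, hcL, hL, hfib⟩ := hc
  have hcof : c = PicM.of hL := PicM.ext hcL.symm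
  let pr : PicF.XT A.hom (Over.mk s) ⟶ Spec (CommRingCat.of Ω) := PicF.XTproj A.hom (Over.mk s)
  letI : (pullback pr (𝟙 _)).Over (Spec (CommRingCat.of Ω)) := ⟨pullback.snd _ _⟩
  have halg0 := hfib (IsLocalRing.closedPoint Ω) Ω (𝟙 _)
    (Set.eq_singleton_iff_unique_mem.2 ⟨⟨_, rfl⟩, fun y _ => Subsingleton.elim (α := PrimeSpectrum Ω) _ _⟩)
  let e : A'.left ⟶ pullback pr (𝟙 _) := pullback.lift (𝟙 _) pr (by rw [Category.id_comp, Category.comp_id])
  have halg : Pic13.IsAlgEquivZero Ω A'.left L := by
    refine isAlgEquivZero_congr (Nonempty.some ?_) (AbCubeLib.isAlgEquivZero_pullback (X := pullback pr (𝟙 _)) e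
      (pullback.lift_snd _ _ _) halg0)
    refine (PicM.of_eq_iff (PicLoc.isInvertible_pullback _ (PicLoc.isInvertible_pullback _ hL)) hL).1 ?_
    rw [← PicM.pull_of e (PicLoc.isInvertible_pullback _ hL), ← PicM.pull_of (pullback.fst pr (𝟙 _)) hL,
      PicM.pull_pull, pullback.lift_fst]
    exact PicM.pull_id _
  let a' : 𝟙_ (Over (Spec (CommRingCat.of Ω))) ⟶ A' := Over.homMk
    (pullback.lift a.left (𝟙 _) (by rw [Category.id_comp]; exact Over.w a)) (pullback.lift_snd _ _ _)
  obtain ⟨i⟩ := S12008.result Ω A' L hL halg a'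
  have h := (PicM.of_eq_iff (PicLoc.isInvertible_pullback _ hL) hL).2 ⟨i⟩
  rw [← PicM.pull_of _ hL] at h
  rw [hcof]
  refine Eq.trans (congrArg (fun m => PicM.pull m (PicM.of hL)) ?_) h
  let V₀ : Over S := Over.mk (A'.hom ≫ s)
  let j : V₀ ⟶ A ⊗ Over.mk s := Over.homMk (𝟙 (pullback A.hom s))
    ((Category.id_comp _).trans pullback.condition)
  refine pullback.hom_ext ?_ ?_
  · refine ((congrArg (fun φ => Over.Hom.left φ) (lift_fst (fst A (Over.mk s) * (snd A (Over.mk s) ≫ a))
      (snd A (Over.mk s))))).trans ?_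
    refine Eq.trans ?_ (mul_left_pullback_fst s (V := A') (𝟙 A') (toUnit A' ≫ a') (j ≫ fst A (Over.mk s))
      (j ≫ snd A (Over.mk s) ≫ a) ?_ ?_).symm
    · rw [← MonObj.comp_mul]
      exact (Category.id_comp _).symm
    · rw [Over.id_left, Category.id_comp]
      exact (Category.id_comp _).symm
    · rw [Over.comp_left, Category.assoc]
      erw [pullback.lift_fst]
      exact (congrArg (· ≫ a.left) (CubeLib.toUnit_left A')).trans
        ((Category.id_comp _).symm.trans (congrArg (𝟙 (pullback A.hom s) ≫ ·) rfl))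
  · exact ((congrArg (fun φ => Over.Hom.left φ) (lift_snd (fst A (Over.mk s) * (snd A (Over.mk s) ≫ a))
      (snd A (Over.mk s))))).trans (Over.w (𝟙 A' * (toUnit A' ≫ a'))).symm

end Groth.Agent.AbDualLib
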