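import Groth.Agent.AbDualLib.Additive
import Mathlib.CategoryTheory.Sites.Canonical

/-!
# Universal property of duals of abelian schemes on rigidified classes

Rigidified Pic⁰ classes are determined by their points of the dual; morphisms out of the dual are determined by
their composites with the points of Pic⁰ classes.
-/

set_option autoImplicit false

universe u

open CategoryTheory CategoryTheory.Limits MonoidalCategory CartesianMonoidalCategory MonObj GrpObj AlgebraicGeometry
open Groth.Agent.PicLib

namespace Groth.Agent.AbDualLib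

variable {S : Scheme.{u}} {A At : Over S} [GrpObj A] [GrpObj At]
  {φ : ∀ T : Over S, PicF.Cl (PicF.XT A.hom T) → (T ⟶ At)}

/-- **Rigidified Pic⁰ classes with the same point are equal.** -/
theorem eq_of_phi_eq [IsProper A.hom] [Smooth A.hom] [GeometricallyConnected A.hom]
    (hφ : AbDual.IsDualAV Scheme.fppfPrecoverage A At φ) {T : Over S} (c d : PicM (A ⊗ T).left)
    (hc : AbDual.IsPicZeroCl A.hom T c.val) (hd : AbDual.IsPicZeroCl A.hom T d.val)
    (hrc : PicM.pull (lift (1 : T ⟶ A) (𝟙 T)).left c = 1) (hrd : PicM.pull (lift (1 : T ⟶ A) (𝟙 T)).left d = 1)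
    (h : φ T c.val = φ T d.val) : c = d := by
  haveI : GeometricallyIntegral A.hom := AbVarLib.geometricallyIntegral_of_smooth A.hom
  obtain ⟨R, hR, hRu⟩ := hφ.relPic.locallyInjective T c.val d.val hc hd h
  obtain ⟨d', hd'⟩ := PicM.exists_mul_eq_one d
  let g : (A ⊗ T).left ⟶ T.left := (snd A T).left
  haveI : IsProper g := inferInstanceAs (IsProper (pullback.snd A.hom T.hom))
  haveI : Flat g := inferInstanceAs (Flat (pullback.snd A.hom T.hom))
  haveI : LocallyOfFinitePresentation g := inferInstanceAs (LocallyOfFinitePresentation (pullback.snd A.hom T.hom))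
  haveI : GeometricallyConnected g := inferInstanceAs (GeometricallyConnected (pullback.snd A.hom T.hom))
  haveI : GeometricallyReduced g := inferInstanceAs (GeometricallyReduced (pullback.snd A.hom T.hom))
  have hQ := eq_pull_of_trivial_on_cover g (lift (1 : T ⟶ A) (𝟙 T)).left
    (congrArg (fun z => Over.Hom.left z) (lift_snd (1 : T ⟶ A) (𝟙 T))) hR (c * d') (fun U u hu => by
      let n : pullback g u ⟶ PicF.XT A.hom (AbDual.ovr T u) :=
        pullback.lift (pullback.fst g u ≫ (fst A T).left) (pullback.snd g u) (by
          rw [Category.assoc, Over.w (fst A T), ← Over.w (snd A T)]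
          simp only [AbDual.ovr, Over.mk_hom]
          rw [← Category.assoc, ← Category.assoc]
          exact congrArg (· ≫ T.hom) pullback.condition)
      have hn : n ≫ PicF.XTmap A.hom (AbDual.ovrHom T u) = pullback.fst g u := by
        simp only [n, PicF.XTmap, pullback.map]
        apply pullback.hom_ext
        · rw [Category.assoc, pullback.lift_fst, pullback.lift_fst_assoc, Category.assoc, Category.comp_id]
          rfl
        · rw [Category.assoc, pullback.lift_snd, pullback.lift_snd_assoc]
          exact pullback.condition.symm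
      have hcd : PicM.pull (PicF.XTmap A.hom (AbDual.ovrHom T u)) c =
          PicM.pull (PicF.XTmap A.hom (AbDual.ovrHom T u)) d := PicM.ext (hRu u hu)
      rw [← hn, ← PicM.pull_pull, map_mul, hcd, ← map_mul, hd', map_one, map_one])
  have hrd' : PicM.pull (lift (1 : T ⟶ A) (𝟙 T)).left d' = 1 := by
    have := congrArg (PicM.pull (lift (1 : T ⟶ A) (𝟙 T)).left) hd'
    rwa [map_mul, hrd, _root_.one_mul, map_one] at this
  rw [map_mul, hrc, hrd', _root_.one_mul, map_one] at hQ
  exact PicM.eq_of_mul_inv hd' hQ

omit [GrpObj A] in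
/-- **Morphisms out of the dual are determined on points of classes.** -/
theorem hom_ext_of_phi (hφ : AbDual.IsDualAV Scheme.fppfPrecoverage A At φ) {Y : Over S} (a b : At ⟶ Y)
    (h : ∀ (T : Over S) (c : PicF.Cl (PicF.XT A.hom T)), AbDual.IsPicZeroCl A.hom T c → φ T c ≫ a = φ T c ≫ b) :
    a = b := by
  obtain ⟨R, hR, hRu⟩ := hφ.relPic.locallySurjective At (𝟙 At)
  refine Over.OverMorphism.ext ?_
  have hmem : Sieve.generate R ∈ Scheme.fppfTopology At.left := Precoverage.generate_mem_toGrothendieck hR
  refine ((GrothendieckTopology.Subcanonical.isSheaf_of_isRepresentable (J := Scheme.fppfTopology)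
    (yoneda.obj Y.left)) _ hmem).isSeparatedFor.ext ?_
  intro U u hu
  obtain ⟨V, v, w, hw, rfl⟩ := hu
  obtain ⟨c, hc, hφc⟩ := hRu w hw
  have e := h _ c hc
  rw [hφc, Category.comp_id] at e
  show (v ≫ w) ≫ a.left = (v ≫ w) ≫ b.left
  rw [Category.assoc, Category.assoc]
  exact congrArg (v ≫ ·) (congrArg (fun z => Over.Hom.left z) e)

end Groth.Agent.AbDualLib
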