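import Groth.Agent.AbCubeLib.Poincare
import Groth.Agent.AbSchLib.RigidityGeneral
import Groth.Agent.AbVarLib.GeomIntegralSmooth
import Groth.Prelude

/-!
# Pic⁰ classes: inverse images, descent along fppf covers

Tools for duals of abelian schemes over an arbitrary base.
-/

set_option autoImplicit false

universe u

open CategoryTheory CategoryTheory.Limits MonoidalCategory CartesianMonoidalCategory MonObj GrpObj AlgebraicGeometry
open Groth.Agent.PicLib Groth.Agent.AmpleLib

namespace Groth.Agent.AbDualLib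

/-- Modules isomorphic to algebraically trivial ones are algebraically trivial. -/
theorem isAlgEquivZero_congr {K : Type u} [Field K] {Y : Scheme.{u}} [Y.Over (Spec (CommRingCat.of K))]
    {L M : Y.Modules} (e : L ≅ M) (h : Pic13.IsAlgEquivZero K Y L) : Pic13.IsAlgEquivZero K Y M :=
  AbCubeLib.isPicZeroCl_one.isAlgEquivZero_congr e h

variable {S X X' : Scheme.{u}} {f : X ⟶ S} {f' : X' ⟶ S}

/-- Pic⁰ classes stay Pic⁰ under any morphism lying over a morphism of the parameter schemes. -/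
theorem isPicZeroCl_pull {T T' : Over S} (g : T' ⟶ T) (h : PicF.XT f' T' ⟶ PicF.XT f T)
    (hh : h ≫ PicF.XTproj f T = PicF.XTproj f' T' ≫ g.left) {c : PicF.Cl (PicF.XT f T)}
    (hc : AbDual.IsPicZeroCl f T c) : AbDual.IsPicZeroCl f' T' (PicF.pullCl h c) := by
  obtain ⟨L, rfl, hL, hfib⟩ := hc
  refine ⟨_, rfl, PicLoc.isInvertible_pullback _ hL, fun t Ω _ _ σ hσ => ?_⟩
  let σ' : Spec (CommRingCat.of Ω) ⟶ T.left := σ ≫ g.left
  have hσ' : Set.range σ'.base = {g.left t} := by
    rw [show (σ'.base : _ → _) = g.left.base ∘ σ.base from rfl, Set.range_comp, hσ, Set.image_singleton]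
  letI : (pullback (PicF.XTproj f T) σ').Over (Spec (CommRingCat.of Ω)) := ⟨pullback.snd _ _⟩
  letI : (pullback (PicF.XTproj f' T') σ).Over (Spec (CommRingCat.of Ω)) := ⟨pullback.snd _ _⟩
  let e : pullback (PicF.XTproj f' T') σ ⟶ pullback (PicF.XTproj f T) σ' :=
    pullback.lift (pullback.fst _ _ ≫ h) (pullback.snd _ _) (by
      simp only [Category.assoc, hh, σ']
      rw [← Category.assoc, pullback.condition, Category.assoc])
  have h' := AbCubeLib.isAlgEquivZero_pullback e (pullback.lift_snd _ _ _) (hfib (g.left t) Ω σ' hσ')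
  refine isAlgEquivZero_congr (Nonempty.some ?_) h'
  refine (PicM.of_eq_iff (PicLoc.isInvertible_pullback _ (PicLoc.isInvertible_pullback _ hL))
    (PicLoc.isInvertible_pullback _ (PicLoc.isInvertible_pullback _ hL))).1 ?_
  rw [← PicM.pull_of e (PicLoc.isInvertible_pullback _ hL), ← PicM.pull_of _ hL, PicM.pull_pull,
    ← PicM.pull_of (pullback.fst (PicF.XTproj f' T') σ) (PicLoc.isInvertible_pullback _ hL), ← PicM.pull_of _ hL,
    PicM.pull_pull, pullback.lift_fst]

/-- With a section, a proper flat morphism with geometrically connected and reduced fibres has `O = f_*O`. -/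
theorem bijective_app_of_section {T Y : Scheme.{u}} (g : Y ⟶ T) [Flat g] [LocallyOfFinitePresentation g]
    [UniversallyClosed g] [IsSeparated g] [GeometricallyConnected g] [GeometricallyReduced g]
    (e : T ⟶ Y) (he : e ≫ g = 𝟙 T) (V : T.Opens) : Function.Bijective (g.app V) := by
  have hle : V ≤ e ⁻¹ᵁ (g ⁻¹ᵁ V) := fun x hx => by
    show g (e x) ∈ V
    rw [← Scheme.Hom.comp_apply, he]
    exact hx
  have hret : ∀ a, e.appLE (g ⁻¹ᵁ V) V hle (g.app V a) = a := fun a => by
    have h : g.app V ≫ e.appLE (g ⁻¹ᵁ V) V hle = 𝟙 _ := by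
      rw [Scheme.Hom.appLE, ← Category.assoc, ← Scheme.Hom.comp_app, Scheme.Hom.congr_app he V]
      erw [Category.assoc, Scheme.Hom.id_app, Category.id_comp, ← Functor.map_comp]
      exact (congrArg T.presheaf.map (Subsingleton.elim _ _)).trans (T.presheaf.map_id _)
    exact congr($h a)
  refine ⟨Function.LeftInverse.injective hret, fun s => ⟨e.appLE (g ⁻¹ᵁ V) V hle s, ?_⟩⟩
  rw [← sub_eq_zero]
  refine TopCat.Presheaf.section_ext Y.sheaf _ _ _ fun x hx => ?_
  exact (AbSchLib.germ_eq_zero_of_sectionG g e he V hle _ (by rw [map_sub, hret, sub_self]) x hx).trans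
    (map_zero _).symm

/-- A class trivial on an fppf cover of the base comes from the base. -/
theorem eq_pull_of_trivial_on_cover {T Y : Scheme.{u}} (g : Y ⟶ T) [IsProper g] [Flat g]
    [LocallyOfFinitePresentation g] [GeometricallyConnected g] [GeometricallyReduced g]
    (e : T ⟶ Y) (he : e ≫ g = 𝟙 T) {R : Presieve T} (hR : R ∈ Scheme.fppfPrecoverage T) (Q : PicM Y)
    (h : ∀ ⦃U : Scheme.{u}⦄ (u : U ⟶ T), R u → PicM.pull (pullback.fst g u) Q = 1) :
    Q = PicM.pull g (PicM.pull e Q) := by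
  obtain ⟨L, hL, rfl⟩ := PicM.exists_eq_of Q
  let J := Σ U : Scheme.{u}, {u : U ⟶ T // R u}
  have hpt : ∀ y : T, ∃ (j : J), y ∈ Set.range j.2.1 := fun y => by
    obtain ⟨_, _, ⟨hu⟩, hy⟩ := hR.1 y
    exact ⟨⟨_, _, hu⟩, hy⟩
  have hP : ∀ j : J, (@Flat ⊓ @LocallyOfFinitePresentation : MorphismProperty Scheme.{u}) j.2.1 :=
    fun j => hR.2 j.2.2
  haveI : ∀ j : J, Flat j.2.1 := fun j => (hP j).1
  have hopen : ∀ j : J, IsOpenMap j.2.1 := fun j => by
    haveI := (hP j).2
    exact Scheme.Hom.isOpenMap _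
  obtain ⟨hN, hiso⟩ := exists_descend_of_flat_cover g (bijective_app_of_section g e he) hL
    (fun j : J => j.1) (fun j => j.2.1) hpt
    (fun Z hZ => by
      have hZe : Z = ⋃ j : J, j.2.1 '' (j.2.1 ⁻¹' Z) := by
        refine Set.ext fun y => ⟨fun hy => ?_, fun hy => ?_⟩
        · obtain ⟨j, z, rfl⟩ := hpt y
          exact Set.mem_iUnion.2 ⟨j, z, hy, rfl⟩
        · obtain ⟨j, z, hz, rfl⟩ := Set.mem_iUnion.1 hy
          exact hz
      rw [hZe]
      exact isOpen_iUnion fun j => hopen j _ (hZ j))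
    (fun _ => 1) (fun j => by rw [map_one]; exact h j.2.1 j.2.2)
  have e1 : PicM.of hL = PicM.pull g (PicM.of hN) := by
    rw [PicM.pull_of, PicM.of_eq_iff]
    exact ⟨(asIso ((Scheme.Modules.pullbackPushforwardAdjunction g).counit.app L)).symm⟩
  conv_rhs => rw [e1, PicM.pull_pull g e, he, PicM.pull_id]
  exact e1

end Groth.Agent.AbDualLib
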