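import Groth.Agent.AbDualLib.Universal
import Mathlib.CategoryTheory.Sites.Canonical
import Mathlib.AlgebraicGeometry.Sites.Fpqc
import Mathlib.Algebra.Polynomial.Eval.Defs

/-!
# Glueing morphisms and functions along fppf covering sieves
-/

set_option autoImplicit false
set_option backward.isDefEq.respectTransparency.types false

universe u

open CategoryTheory CategoryTheory.Limits AlgebraicGeometry

namespace Groth.Agent.AbDualLib

variable {S : Scheme.{u}} {T P : Over S}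

/-- Morphisms over the base glue along covering sieves. -/
theorem exists_hom_glue (C : Sieve T.left) (hC : C ∈ Scheme.fppfTopology T.left)
    (x : ∀ ⦃V : Scheme.{u}⦄ (v : V ⟶ T.left), C v → (V ⟶ P.left))
    (hx : ∀ ⦃V : Scheme.{u}⦄ (v : V ⟶ T.left) (h : C v), x v h ≫ P.hom = v ≫ T.hom)
    (hnat : ∀ ⦃V V' : Scheme.{u}⦄ (w : V' ⟶ V) (v : V ⟶ T.left) (h : C v),
      x (w ≫ v) (C.downward_closed h w) = w ≫ x v h) :
    ∃ ψ : T ⟶ P, ∀ ⦃V : Scheme.{u}⦄ (v : V ⟶ T.left) (h : C v), v ≫ ψ.left = x v h := by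
  let fam : Presieve.FamilyOfElements (yoneda.obj P.left) C.arrows := fun V v h => x v h
  have hf : fam.Compatible := by
    rw [Presieve.compatible_iff_sieveCompatible]
    exact fun V V' v w h => hnat w v h
  have hsf := (GrothendieckTopology.Subcanonical.isSheaf_of_isRepresentable (J := Scheme.fppfTopology)
    (yoneda.obj P.left)) C hC
  obtain ⟨ψ, hψ, -⟩ := hsf fam hf
  have hw : (show T.left ⟶ P.left from ψ) ≫ P.hom = T.hom := by
    refine ((GrothendieckTopology.Subcanonical.isSheaf_of_isRepresentable (J := Scheme.fppfTopology)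
      (yoneda.obj S)) C hC).isSeparatedFor.ext fun V v h => ?_
    show v ≫ _ ≫ P.hom = v ≫ T.hom
    rw [← Category.assoc, show v ≫ (show T.left ⟶ P.left from ψ) = x v h from hψ v h]
    exact hx v h
  exact ⟨Over.homMk ψ hw, fun V v h => hψ v h⟩

/-- Functions with equal restrictions to a covering sieve are equal, and compatible ones glue. -/
theorem fn_glue (X : Scheme.{u}) (C : Sieve X) (hC : C ∈ Scheme.fppfTopology X) :
    (∀ s t : Γ(X, ⊤), (∀ ⦃V : Scheme.{u}⦄ (v : V ⟶ X), C v → v.appTop s = v.appTop t) → s = t) ∧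
      ∀ (x : ∀ ⦃V : Scheme.{u}⦄ (v : V ⟶ X), C v → Γ(V, ⊤)),
        (∀ ⦃V V' : Scheme.{u}⦄ (w : V' ⟶ V) (v : V ⟶ X) (h : C v),
          x (w ≫ v) (C.downward_closed h w) = w.appTop (x v h)) →
        ∃ s : Γ(X, ⊤), ∀ ⦃V : Scheme.{u}⦄ (v : V ⟶ X) (h : C v), v.appTop s = x v h := by
  let A := CommRingCat.of (Polynomial (ULift.{u} ℤ))
  let Λ : ∀ (Z : Scheme.{u}) (s : Γ(Z, ⊤)), Z ⟶ Spec A := fun Z s =>
    Z.toSpecΓ ≫ Spec.map (CommRingCat.ofHom (Polynomial.eval₂RingHom ((Int.castRingHom _).comp ULift.ringEquiv.toRingHom) s))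
  let τ : Γ(Spec A, ⊤) := (Scheme.ΓSpecIso A).inv Polynomial.X
  have hΛ : ∀ Z s, (Λ Z s).appTop τ = s := by
    intro Z s
    simp only [Λ, τ, Scheme.Hom.comp_appTop, CommRingCat.comp_apply, Scheme.toSpecΓ_appTop]
    rw [← CommRingCat.comp_apply (Scheme.ΓSpecIso A).inv, ← Scheme.ΓSpecIso_inv_naturality, CommRingCat.comp_apply,
      ← CommRingCat.comp_apply (Scheme.ΓSpecIso Γ(Z, ⊤)).inv, Iso.inv_hom_id, CommRingCat.id_apply]
    exact Polynomial.eval₂_X _ _
  have hext : ∀ {Z : Scheme.{u}} (u v : Z ⟶ Spec A), u.appTop τ = v.appTop τ → u = v := by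
    intro Z u v h
    refine ext_of_isAffine ?_
    rw [← cancel_epi (Scheme.ΓSpecIso A).inv]
    refine CommRingCat.hom_ext (Polynomial.ringHom_ext' ?_ h)
    exact RingHom.ext fun z => by
      obtain ⟨z⟩ := z
      have h0 : (⟨z⟩ : ULift.{u} ℤ) = (z : ULift.{u} ℤ) := by ext; simp
      rw [h0, map_intCast, map_intCast]
  have hΛn : ∀ {V W : Scheme.{u}} (w : V ⟶ W) (s : Γ(W, ⊤)), Λ V (w.appTop s) = w ≫ Λ W s := fun w s => by
    refine hext _ _ ?_
    rw [hΛ, Scheme.Hom.comp_appTop, CommRingCat.comp_apply, hΛ]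
  have hsf := (GrothendieckTopology.Subcanonical.isSheaf_of_isRepresentable (J := Scheme.fppfTopology)
    (yoneda.obj (Spec A))) C hC
  refine ⟨fun s t h => ?_, fun x hnat => ?_⟩
  · have e : Λ X s = Λ X t := hsf.isSeparatedFor.ext fun V v hv => by
      show v ≫ Λ X s = v ≫ Λ X t
      rw [← hΛn, ← hΛn, h v hv]
    rw [← hΛ X s, e, hΛ]
  · let fam : Presieve.FamilyOfElements (yoneda.obj (Spec A)) C.arrows := fun V v h => Λ V (x v h)
    have hf : fam.Compatible := by
      rw [Presieve.compatible_iff_sieveCompatible]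
      intro V V' v w h
      show Λ V' (x (w ≫ v) _) = w ≫ Λ V (x v h)
      rw [hnat w v h, hΛn]
    obtain ⟨ψ, hψ, -⟩ := hsf fam hf
    refine ⟨(show X ⟶ Spec A from ψ).appTop τ, fun V v h => ?_⟩
    have e : v ≫ (show X ⟶ Spec A from ψ) = Λ V (x v h) := hψ v h
    rw [← CommRingCat.comp_apply, ← Scheme.Hom.comp_appTop, e, hΛ]

end Groth.Agent.AbDualLib
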