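import Groth.Agent.AbDualLib.Points
import Groth.Agent.AbCubeLib.DeligneKills
import Groth.Agent.AbCubeLib.Torsion
import Groth.Agent.AbVarLib.HomFibre
import Groth.Agent.AbVarLib.HomDim
import Groth.Agent.UnipStruct.Group

/-!
# The transpose of an isogeny of abelian schemes is an isogeny

Points killed by the transpose of an isogeny with kernel of order `n` are killed by `n`, and every point of
the target becomes an image after raising it to the `n`-th power; so the transpose is quasi-finite and, counting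
`ℓ`-torsion on geometric fibres, preserves dimensions, hence is surjective and flat.
-/

set_option autoImplicit false
set_option linter.style.haveILetI false
set_option backward.isDefEq.respectTransparency.types false

universe u

open CategoryTheory CategoryTheory.Limits MonoidalCategory CartesianMonoidalCategory MonObj GrpObj AlgebraicGeometry
open Groth.Agent.PicLib Groth.Agent.AbVarLib

namespace Groth.Agent.AbDualLib

variable {S : Scheme.{u}}

/-- Deligne over a parameter: what a finite locally free homomorphism kills is killed by its rank at the origin. -/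
theorem pow_eq_one_of_comp_eq_one {X Y : Over S} [GrpObj X] [IsCommMonObj X] [GrpObj Y] (f : X ⟶ Y) [IsMonHom f]
    [IsFinite f.left] [Flat f.left] (n : ℕ) {V : Over S} (x : V ⟶ X)
    (hn : ∀ v : V.left, Scheme.Hom.finrank f.left (η[Y].left (V.hom v)) = n) (hx : x ≫ f = 1) : x ^ n = 1 := by
  have hK := UnipStruct.isKernel_kerι f
  haveI := AlgGrpLib.kernel_mono hK
  obtain ⟨y, rfl⟩ := AlgGrpLib.exists_lift_kernel hK hx
  have : IsCommMonObj (UnipStruct.kerObj f) := by
    refine ⟨(cancel_mono (UnipStruct.kerι f)).1 ?_⟩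
    rw [MonObj.mul_eq_mul, MonObj.comp_mul, braiding_hom_fst, braiding_hom_snd, UnipStruct.kerι_mul,
      UnipStruct.kerι_mul, mul_comm]
  have hsq := (hK.map (Over.forget S))
  have hsnd : (toUnit (UnipStruct.kerObj f)).left = (UnipStruct.kerObj f).hom :=
    (Category.comp_id _).symm.trans (Over.w (toUnit (UnipStruct.kerObj f)))
  have hsq' : IsPullback (UnipStruct.kerι f).left (UnipStruct.kerObj f).hom f.left η[Y].left := by
    rw [← hsnd]; exact hsq
  have : IsFinite (UnipStruct.kerObj f).hom := MorphismProperty.of_isPullback hsq' inferInstance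
  have : Flat (UnipStruct.kerObj f).hom := MorphismProperty.of_isPullback hsq' inferInstance
  have hk : y ^ n = 1 := by
    refine AbCubeLib.pow_eq_one_of_pullback (UnipStruct.kerObj f) V.hom (W := V.left) y n ?_
    letI : GrpObj ((Over.pullback V.hom).obj (UnipStruct.kerObj f)) := Functor.grpObjObj
    intro z
    have : IsFinite ((Over.pullback V.hom).obj (UnipStruct.kerObj f)).hom :=
      inferInstanceAs (IsFinite (pullback.snd (UnipStruct.kerObj f).hom V.hom))
    have : Flat ((Over.pullback V.hom).obj (UnipStruct.kerObj f)).hom :=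
      inferInstanceAs (Flat (pullback.snd (UnipStruct.kerObj f).hom V.hom))
    refine AbCubeLib.pow_eq_one_of_finrank _ n (fun v => ?_) z
    show Scheme.Hom.finrank (pullback.snd (UnipStruct.kerObj f).hom V.hom) v = n
    rw [Scheme.Hom.finrank_pullback_snd]
    exact (Scheme.Hom.finrank_of_isPullback _ _ _ _ hsq' (V.hom v)).trans (hn v)
  rw [← MonObj.pow_comp, hk, MonObj.one_comp]

variable {X Y Xt Yt : Over S} [GrpObj X] [IsCommMonObj X] [GrpObj Y] [IsCommMonObj Y]

/-- An isogeny factors multiplication by its rank. -/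
theorem exists_factor (φ : X ⟶ Y) [IsMonHom φ] [IsFinite φ.left] [Flat φ.left] [Surjective φ.left] (n : ℕ) (T : Over S)
    (hn : ∀ t : T.left, Scheme.Hom.finrank φ.left (η[Y].left (T.hom t)) = n) :
    ∃ ψ : Y ⊗ T ⟶ X, lift (fst X T ≫ φ) (snd X T) ≫ ψ = fst X T ^ n ∧ ψ ≫ φ = fst Y T ^ n := by
  let e : X ⊗ T ⟶ Y ⊗ T := lift (fst X T ≫ φ) (snd X T)
  have hsq : IsPullback (fst X T).left e.left φ.left (fst Y T).left := by
    refine (IsPullback.of_right ?_ (congrArg (fun z => Over.Hom.left z) (lift_fst (fst X T ≫ φ) (snd X T)))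
      (IsPullback.of_hasPullback Y.hom T.hom).flip).flip
    have e2 : e.left ≫ pullback.snd Y.hom T.hom = pullback.snd X.hom T.hom :=
      congrArg (fun z => Over.Hom.left z) (lift_snd (fst X T ≫ φ) (snd X T))
    rw [e2, Over.w φ]
    exact (IsPullback.of_hasPullback X.hom T.hom).flip
  haveI : IsFinite e.left := MorphismProperty.of_isPullback hsq inferInstance
  haveI : Flat e.left := MorphismProperty.of_isPullback hsq inferInstance
  haveI : Surjective e.left := MorphismProperty.of_isPullback hsq inferInstance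
  let a : X ⊗ T ⟶ X := fst X T ^ n
  have hd : ∀ {W : Scheme.{u}} (g₁ g₂ : W ⟶ (X ⊗ T).left), g₁ ≫ e.left = g₂ ≫ e.left →
      g₁ ≫ a.left = g₂ ≫ a.left := by
    intro W g₁ g₂ h
    let V : Over S := Over.mk (g₁ ≫ (X ⊗ T).hom)
    let x₁ : V ⟶ X ⊗ T := Over.homMk g₁ rfl
    let x₂ : V ⟶ X ⊗ T := Over.homMk g₂ (by
      show g₂ ≫ (X ⊗ T).hom = g₁ ≫ (X ⊗ T).hom
      rw [← Over.w e, ← Category.assoc, ← Category.assoc, h])
    have h12 : x₁ ≫ e = x₂ ≫ e := Over.OverMorphism.ext h
    have hf : (x₁ ≫ fst X T) ≫ φ = (x₂ ≫ fst X T) ≫ φ := by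
      have h' := congrArg (· ≫ fst Y T) h12
      simpa [e, Category.assoc] using h'
    have hdiv : ((x₁ ≫ fst X T)⁻¹ * (x₂ ≫ fst X T)) ≫ φ = 1 := by
      rw [MonObj.mul_comp, GrpObj.inv_comp, hf, inv_mul_cancel]
    have hk := pow_eq_one_of_comp_eq_one φ n ((x₁ ≫ fst X T)⁻¹ * (x₂ ≫ fst X T)) (fun v => by
      rw [show V.hom v = T.hom ((x₁ ≫ snd X T).left v) from by
        rw [← Scheme.Hom.comp_apply, Over.w]]
      exact hn _) hdiv
    rw [mul_pow, inv_pow, inv_mul_eq_one] at hk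
    have hp : x₁ ≫ a = x₂ ≫ a := by rw [MonObj.comp_pow, MonObj.comp_pow, hk]
    exact congrArg (fun z => Over.Hom.left z) hp
  let r : (Y ⊗ T).left ⟶ X.left := EffectiveEpi.desc e.left a.left hd
  have hr : e.left ≫ r = a.left := EffectiveEpi.fac e.left a.left hd
  have hw : r ≫ X.hom = (Y ⊗ T).hom := by
    rw [← cancel_epi e.left, reassoc_of% hr, Over.w a, Over.w e]
  let ψ : Y ⊗ T ⟶ X := Over.homMk r hw
  have hψ : e ≫ ψ = a := Over.OverMorphism.ext hr
  haveI : Epi e := Over.epi_of_epi_left _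
  refine ⟨ψ, hψ, ?_⟩
  rw [← cancel_epi e, ← Category.assoc, hψ, MonObj.comp_pow, lift_fst, MonObj.pow_comp]

variable [GrpObj Xt] [GrpObj Yt]
  {φX : ∀ T : Over S, PicF.Cl (PicF.XT X.hom T) → (T ⟶ Xt)}
  {φY : ∀ T : Over S, PicF.Cl (PicF.XT Y.hom T) → (T ⟶ Yt)}

/-- Over an algebraically closed field every point of the dual is the point of a rigidified class. -/
theorem exists_class (hX : AbDual.IsDualAV Scheme.fppfPrecoverage X Xt φX) {Ω : Type u} [Field Ω] [IsAlgClosed Ω]
    (σ : Spec (CommRingCat.of Ω) ⟶ S) (x : Over.mk σ ⟶ Xt) :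
    ∃ c : PicM (X ⊗ Over.mk σ).left, AbDual.IsPicZeroCl X.hom (Over.mk σ) c.val ∧
      PicM.pull (lift (1 : Over.mk σ ⟶ X) (𝟙 _)).left c = 1 ∧ φX (Over.mk σ) c.val = x := by
  obtain ⟨R, hR, hRu⟩ := hX.relPic.locallySurjective (Over.mk σ) x
  obtain ⟨hjs, hP⟩ := hR
  rw [Presieve.mem_comap_jointlySurjectivePrecoverage_iff] at hjs
  obtain ⟨U, u, hu, z, hz⟩ := hjs (IsLocalRing.closedPoint Ω)
  obtain ⟨hflat, hlfp⟩ := hP hu
  let u' : U ⟶ Spec (CommRingCat.of Ω) := u
  haveI : LocallyOfFinitePresentation u' := hlfp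
  haveI : LocallyOfFiniteType u' := inferInstance
  haveI : JacobsonSpace ↥(Spec (CommRingCat.of Ω)) := inferInstanceAs (JacobsonSpace (PrimeSpectrum Ω))
  haveI : JacobsonSpace ↥U := LocallyOfFiniteType.jacobsonSpace u'
  haveI : Nonempty ↥U := ⟨z⟩
  obtain ⟨z', -, hz'⟩ := nonempty_inter_closedPoints (Set.univ_nonempty (α := ↥U))
    isOpen_univ.isLocallyClosed
  let w := pointOfClosedPoint u' z' (mem_closedPoints_iff.1 hz')
  have hw : w ≫ u = 𝟙 _ := pointOfClosedPoint_comp u' z' _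
  obtain ⟨c₀, hc₀, hφc⟩ := hRu u hu
  obtain ⟨L, hcl, hL, -⟩ := id hc₀
  subst hcl
  let w' : Over.mk σ ⟶ AbDual.ovr (Over.mk σ) u := Over.homMk w (by
    show w ≫ u ≫ σ = σ
    rw [← Category.assoc, hw, Category.id_comp])
  let c := PicM.pull (lift (fst X (Over.mk σ)) (snd X (Over.mk σ) ≫ w')).left (PicM.of hL)
  have hc : AbDual.IsPicZeroCl X.hom (Over.mk σ) c.val := isPicZeroCl_pb w' _ (lift_snd _ _) hc₀
  have hcx : φX (Over.mk σ) c.val = x := by
    rw [phi_pb hX w' (PicM.of hL) hc₀]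
    refine (congrArg (w' ≫ ·) hφc).trans ?_
    rw [← Category.assoc, show w' ≫ AbDual.ovrHom (Over.mk σ) u = 𝟙 _ from Over.OverMorphism.ext hw,
      Category.id_comp]
  obtain ⟨r, -, hr0, hr1, -, hr2⟩ := exists_rigidify hX c hc
  exact ⟨r, hr0, hr1, hr2.symm.trans hcx⟩

/-- Powers of rigidified classes. -/
theorem pow_class [IsProper X.hom] [Smooth X.hom] [GeometricallyConnected X.hom] [IsSeparated Xt.hom]
    [LocallyOfFiniteType Xt.hom] (hX : AbDual.IsDualAV Scheme.fppfPrecoverage X Xt φX) {T : Over S}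
    (c : PicM (X ⊗ T).left) (h0 : AbDual.IsPicZeroCl X.hom T c.val)
    (hrig : PicM.pull (lift (1 : T ⟶ X) (𝟙 T)).left c = 1) :
    ∀ j : ℕ, AbDual.IsPicZeroCl X.hom T (ev c (fst X T ^ j) (snd X T)).val ∧
      φX T (ev c (fst X T ^ j) (snd X T)).val = φX T c.val ^ j ∧
      ev c (fst X T ^ j) (snd X T) = c ^ j := by
  have hz : ∀ j : ℕ, AbDual.IsPicZeroCl X.hom T (ev c (fst X T ^ j) (snd X T)).val := fun j =>
    isPicZeroCl_pb (𝟙 T) (lift (fst X T ^ j) (snd X T)) (by rw [lift_snd, Category.comp_id]) h0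
  have he : ∀ j : ℕ, ev c (fst X T ^ j) (snd X T) = c ^ j := by
    intro j
    induction j with
    | zero =>
      rw [pow_zero, pow_zero]
      have := congrArg (PicM.pull (snd X T).left) hrig
      rw [PicM.pull_pull, ← Over.comp_left, comp_lift, MonObj.comp_one, Category.comp_id, map_one] at this
      exact this
    | succ j ih =>
      rw [pow_succ (fst X T) j, ev, pull_mul_points hX c h0 hrig, pow_succ]
      exact congrArg₂ (· * ·) ih (ev_id c)
  refine fun j => ⟨hz j, ?_, he j⟩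
  rw [he]
  induction j with
  | zero => rw [pow_zero, pow_zero]; exact phi_one hX T
  | succ j ih =>
    rw [pow_succ, pow_succ, phi_mul hX _ _ (by rw [← he]; exact hz j) h0, ih]

variable [IsProper X.hom] [Smooth X.hom] [GeometricallyConnected X.hom]
  [IsProper Y.hom] [Smooth Y.hom] [GeometricallyConnected Y.hom]
  [IsSeparated Xt.hom] [LocallyOfFiniteType Xt.hom] [IsSeparated Yt.hom] [LocallyOfFiniteType Yt.hom]
  (hX : AbDual.IsDualAV Scheme.fppfPrecoverage X Xt φX) (hY : AbDual.IsDualAV Scheme.fppfPrecoverage Y Yt φY)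
  (φ : X ⟶ Y) [IsMonHom φ] [IsFinite φ.left] [Flat φ.left] [Surjective φ.left]
  (ft : Yt ⟶ Xt) (hft : AbDual.IsTranspose φ φX φY ft)
  {Ω : Type u} [Field Ω] [IsAlgClosed Ω] (σ : Spec (CommRingCat.of Ω) ⟶ S) (n : ℕ)
  (hn : ∀ t, Scheme.Hom.finrank φ.left (η[Y].left (σ t)) = n)

include hX hY hft hn

/-- Points killed by the transpose are killed by the rank. -/
theorem pow_eq_one_of_transpose (t : Over.mk σ ⟶ Yt) (ht : t ≫ ft = 1) : t ^ n = 1 := by
  obtain ⟨c, hc, hrig, rfl⟩ := exists_class hY σ t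
  obtain ⟨ψ, hψ, hψφ⟩ := exists_factor φ n (Over.mk σ) hn
  let T := Over.mk σ
  let d := ev c (fst X T ≫ φ) (snd X T)
  have hd : AbDual.IsPicZeroCl X.hom T d.val := isPicZeroCl_bcMap φ hc
  have hdr : PicM.pull (lift (1 : T ⟶ X) (𝟙 T)).left d = 1 := by
    rw [pull_ev, ← Category.assoc, lift_fst, MonObj.one_comp, lift_snd]
    exact hrig
  have hd1 : φX T d.val = 1 := by
    rw [← ht, ← hft T c.val hc]
    exact congrArg (φX T) (congrArg PicM.val (pull_bcMap φ c)).symm
  have hd2 : d = 1 := eq_of_phi_eq hX d 1 hd (AbCubeLib.isPicZeroCl_one T) hdr (map_one _)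
    (hd1.trans (phi_one hX T).symm)
  have h1 : ev c (fst Y T ^ n) (snd Y T) = 1 := by
    have h := congrArg (PicM.pull (lift ψ (snd Y T)).left) hd2
    rw [map_one, pull_ev, ← Category.assoc, lift_fst, lift_snd, hψφ] at h
    exact h
  obtain ⟨-, hp, -⟩ := pow_class hY c hc hrig n
  rw [← hp, h1]
  exact phi_one hY T

/-- The `n`-th power of every point is in the image of the transpose. -/
theorem exists_transpose_eq_pow (x : Over.mk σ ⟶ Xt) : ∃ t : Over.mk σ ⟶ Yt, t ≫ ft = x ^ n := by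
  obtain ⟨c, hc, hrig, rfl⟩ := exists_class hX σ x
  obtain ⟨ψ, hψ, hψφ⟩ := exists_factor φ n (Over.mk σ) hn
  let T := Over.mk σ
  let d := ev c ψ (snd Y T)
  have hd : AbDual.IsPicZeroCl Y.hom T d.val :=
    isPicZeroCl_pull (𝟙 T) (lift ψ (snd Y T)).left (by
      refine (congrArg (fun z => Over.Hom.left z) (lift_snd ψ (snd Y T))).trans ?_
      exact (Category.comp_id _).symm) hc
  refine ⟨φY T d.val, ?_⟩
  rw [← hft T d.val hd]
  obtain ⟨-, hp, -⟩ := pow_class hX c hc hrig n
  rw [← hp]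
  refine congrArg (φX T) (congrArg PicM.val ((pull_bcMap φ d).trans ?_))
  show PicM.pull _ (PicM.pull (lift ψ (snd Y T)).left c) = _
  rw [PicM.pull_pull, ← Over.comp_left, comp_lift, hψ, lift_snd]
  rfl

end Groth.Agent.AbDualLib
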