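import Groth.Agent.AbDualLib.Twist
import Groth.Agent.AbDualLib.Basic
import Groth.Agent.AbDualLib.Points
import Groth.Agent.UnipStruct.Group

/-!
# The function on the kernel attached to a class killed by an isogeny

For a faithfully flat quasi-compact homomorphism `f : X ⟶ Y` with kernel `K`, a class on `Y ×_S T` with trivial inverse
image on `X ×_S T` gives a function on `K ×_S T`; it determines the class, is multiplicative in the class and in the point
of `K`, and commutes with change of `T`.
-/

set_option autoImplicit false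
set_option linter.style.haveILetI false
set_option backward.isDefEq.respectTransparency.types false

universe u

open CategoryTheory CategoryTheory.Limits MonoidalCategory CartesianMonoidalCategory MonObj GrpObj AlgebraicGeometry
open Groth.Agent.PicLib Groth.Agent.AmpleLib Groth.Agent.Coherent

namespace Groth.Agent.AbDualLib

variable {S : Scheme.{u}} {X Y K : Over S} [GrpObj X] [GrpObj Y] [GrpObj K] (i : K ⟶ X) (f : X ⟶ Y) (T : Over S)

/-- The homomorphism over `T`. -/
noncomputable def overT : X ⊗ T ⟶ Y ⊗ T := lift (fst X T ≫ f) (snd X T)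

/-- Translation by a point of the kernel. -/
noncomputable def actT : X ⊗ (K ⊗ T) ⟶ X ⊗ T :=
  lift (fst X (K ⊗ T) * (snd X (K ⊗ T) ≫ fst K T ≫ i)) (snd X (K ⊗ T) ≫ snd K T)

/-- Forgetting the point of the kernel. -/
noncomputable def forT : X ⊗ (K ⊗ T) ⟶ X ⊗ T := lift (fst X (K ⊗ T)) (snd X (K ⊗ T) ≫ snd K T)

variable [IsMonHom i] [IsMonHom f] (hK : AlgGrp.IsKernel i f)

include hK in
theorem actT_overT : actT i T ≫ overT f T = forT T ≫ overT f T := by
  have h : i ≫ f = 1 := hK.w.trans (by rw [Hom.one_def])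
  simp only [actT, forT, overT, comp_lift, lift_fst_assoc, lift_snd, MonObj.mul_comp, Category.assoc, h,
    MonObj.comp_one, _root_.mul_one]

/-- `u` is the function of the class `c` on the kernel. -/
def KerRatio (c : PicM (Y ⊗ T).left) (u : Γ((K ⊗ T).left, ⊤)) : Prop :=
  ∃ (L : (Y ⊗ T).left.Modules) (hL : PicF.IsInvertible L), PicM.of hL = c ∧
    ∃ D : Twist (overT f T).left L, D.HasRatio (actT i T).left (forT T).left ((snd X (K ⊗ T)).left.appTop u)

variable [IsProper X.hom] [Flat X.hom] [LocallyOfFinitePresentation X.hom] [GeometricallyConnected X.hom]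
  [GeometricallyReduced X.hom]

omit [IsMonHom i] [IsMonHom f] [GrpObj Y] [GrpObj K] in
theorem bijective_appTop_snd (W : Over S) : Function.Bijective (snd X W).left.appTop := by
  haveI : Flat (snd X W).left := inferInstanceAs (Flat (pullback.snd X.hom W.hom))
  haveI : LocallyOfFinitePresentation (snd X W).left :=
    inferInstanceAs (LocallyOfFinitePresentation (pullback.snd X.hom W.hom))
  haveI : IsProper (snd X W).left := inferInstanceAs (IsProper (pullback.snd X.hom W.hom))
  haveI : GeometricallyConnected (snd X W).left := inferInstanceAs (GeometricallyConnected (pullback.snd X.hom W.hom))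
  haveI : GeometricallyReduced (snd X W).left := inferInstanceAs (GeometricallyReduced (pullback.snd X.hom W.hom))
  exact bijective_app_of_section (snd X W).left (lift (1 : W ⟶ X) (𝟙 W)).left
    (congrArg (fun z => Over.Hom.left z) (lift_snd _ _)) ⊤

omit [IsMonHom i] [IsMonHom f] [GrpObj Y] in
theorem actT_forT_inv (v : Γ((X ⊗ T).left, ⊤)) : (actT i T).left.appTop v = (forT (K := K) T).left.appTop v := by
  obtain ⟨t, rfl⟩ := (bijective_appTop_snd (X := X) T).2 v
  rw [← CommRingCat.comp_apply, ← CommRingCat.comp_apply, ← Scheme.Hom.comp_appTop, ← Scheme.Hom.comp_appTop,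
    ← Over.comp_left, ← Over.comp_left, show actT i T ≫ snd X T = forT (K := K) T ≫ snd X T by simp [actT, forT]]

variable {T}

include hK in
/-- Killed classes have functions on the kernel. -/
theorem exists_kerRatio (c : PicM (Y ⊗ T).left) (hc : PicM.pull (overT f T).left c = 1) :
    ∃ u, KerRatio i f T c u ∧ IsUnit u := by
  obtain ⟨L, hL, rfl⟩ := PicM.exists_eq_of c
  obtain ⟨D⟩ := Twist.nonempty_of_pull_eq_one hL hc
  obtain ⟨v, hv, hD⟩ := D.exists_ratio (actT i T).left (forT T).left
    (congrArg (fun z => Over.Hom.left z) (actT_overT i f T hK))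
  obtain ⟨u, rfl⟩ := (bijective_appTop_snd (X := X) (K ⊗ T)).2 v
  refine ⟨u, ⟨L, hL, rfl, D, hD⟩, ?_⟩
  obtain ⟨w, hw⟩ := (bijective_appTop_snd (X := X) (K ⊗ T)).2 (hv.unit⁻¹).val
  refine IsUnit.of_mul_eq_one w ((bijective_appTop_snd (X := X) (K ⊗ T)).1 ?_)
  rw [map_mul, map_one, hw]
  exact hv.mul_val_inv

include hK in
/-- The function is determined by the class. -/
theorem KerRatio.unique {c : PicM (Y ⊗ T).left} {u u' : Γ((K ⊗ T).left, ⊤)} (h : KerRatio i f T c u)
    (h' : KerRatio i f T c u') : u = u' := by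
  obtain ⟨L, hL, hc, D, hD⟩ := h
  obtain ⟨L', hL', hc', D', hD'⟩ := h'
  obtain ⟨e⟩ := (PicM.of_eq_iff hL' hL).1 (hc'.trans hc.symm)
  refine (bijective_appTop_snd (X := X) (K ⊗ T)).1 ?_
  exact Twist.HasRatio.congr (D := D) (D' := D'.map e)
    (congrArg (fun z => Over.Hom.left z) (actT_overT i f T hK)) (fun v => actT_forT_inv i T v) hD hD'

omit [IsMonHom i] [IsMonHom f] [GrpObj Y] [IsProper X.hom] [Flat X.hom] [LocallyOfFinitePresentation X.hom]
  [GeometricallyConnected X.hom] [GeometricallyReduced X.hom] in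
theorem kerRatio_one : KerRatio i f T (1 : PicM (Y ⊗ T).left) 1 := by
  obtain ⟨D, hD⟩ := Twist.exists_one (overT f T).left (actT i T).left (forT T).left
  refine ⟨Coh.structureModule _, isInvertible_structureModule, (PicM.of_eq_one_iff _).2 ⟨Iso.refl _⟩, D, ?_⟩
  rw [map_one]
  exact hD

omit [IsMonHom i] [IsMonHom f] [GrpObj Y] [IsProper X.hom] [Flat X.hom] [LocallyOfFinitePresentation X.hom]
  [GeometricallyConnected X.hom] [GeometricallyReduced X.hom] in
theorem KerRatio.mul {c c' : PicM (Y ⊗ T).left} {u u' : Γ((K ⊗ T).left, ⊤)} (h : KerRatio i f T c u)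
    (h' : KerRatio i f T c' u') : KerRatio i f T (c * c') (u * u') := by
  obtain ⟨L, hL, rfl, D, hD⟩ := h
  obtain ⟨L', hL', rfl, D', hD'⟩ := h'
  refine ⟨_, isInvertible_tensorMod hL hL', (PicM.of_mul hL hL').symm, D.mul D', ?_⟩
  rw [map_mul]
  exact hD.mul hD'

include hK in
omit [IsProper X.hom] [Flat X.hom] [LocallyOfFinitePresentation X.hom]
  [GeometricallyConnected X.hom] [GeometricallyReduced X.hom] in
/-- Functions commute with change of the parameter. -/
theorem KerRatio.pull {c : PicM (Y ⊗ T).left} {u : Γ((K ⊗ T).left, ⊤)} (h : KerRatio i f T c u) {T' : Over S}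
    (g : T' ⟶ T) :
    KerRatio i f T' (PicM.pull (lift (fst Y T') (snd Y T' ≫ g)).left c)
      ((lift (fst K T') (snd K T' ≫ g)).left.appTop u) := by
  obtain ⟨L, hL, rfl, D, hD⟩ := h
  let gX : X ⊗ T' ⟶ X ⊗ T := lift (fst X T') (snd X T' ≫ g)
  let gK : K ⊗ T' ⟶ K ⊗ T := lift (fst K T') (snd K T' ≫ g)
  let gY : Y ⊗ T' ⟶ Y ⊗ T := lift (fst Y T') (snd Y T' ≫ g)
  let w : X ⊗ (K ⊗ T') ⟶ X ⊗ (K ⊗ T) := lift (fst X (K ⊗ T')) (snd X (K ⊗ T') ≫ gK)
  have hsq : overT f T' ≫ gY = gX ≫ overT f T := by simp [overT, gY, gX]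
  have ha : w ≫ actT i T = actT i T' ≫ gX := by
    simp [actT, w, gK, gX, MonObj.comp_mul]
  have hb : w ≫ forT (K := K) T = forT (K := K) T' ≫ gX := by
    simp [forT, w, gK, gX]
  refine ⟨_, PicLoc.isInvertible_pullback gY.left hL, (PicM.pull_of gY.left hL).symm,
    D.pull hL (q' := (overT f T').left) (g' := gX.left) (congrArg (fun z => Over.Hom.left z) hsq), ?_⟩
  have e : (snd X (K ⊗ T')).left.appTop (gK.left.appTop u) = w.left.appTop ((snd X (K ⊗ T)).left.appTop u) := by
    rw [← CommRingCat.comp_apply, ← CommRingCat.comp_apply, ← Scheme.Hom.comp_appTop, ← Scheme.Hom.comp_appTop,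
      ← Over.comp_left, ← Over.comp_left, show w ≫ snd X (K ⊗ T) = snd X (K ⊗ T') ≫ gK from lift_snd _ _]
  rw [e]
  exact hD.pull w.left (congrArg (fun z => Over.Hom.left z) ha) (congrArg (fun z => Over.Hom.left z) hb)
    (congrArg (fun z => Over.Hom.left z) (actT_overT i f T hK))

variable [Flat f.left] [Surjective f.left] [QuasiCompact f.left]

include hK in
omit [IsProper X.hom] [Flat X.hom] [LocallyOfFinitePresentation X.hom]
  [GeometricallyConnected X.hom] [GeometricallyReduced X.hom] in
/-- The function determines the class. -/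
theorem KerRatio.injective {c c' : PicM (Y ⊗ T).left} {u : Γ((K ⊗ T).left, ⊤)} (h : KerRatio i f T c u)
    (h' : KerRatio i f T c' u) : c = c' := by
  obtain ⟨L, hL, rfl, D, hD⟩ := h
  obtain ⟨L', hL', rfl, D', hD'⟩ := h'
  let q := overT f T
  have hsqf : IsPullback (fst X T).left q.left f.left (fst Y T).left := by
    refine (IsPullback.of_right ?_ (congrArg (fun z => Over.Hom.left z) (lift_fst (fst X T ≫ f) (snd X T)))
      (IsPullback.of_hasPullback Y.hom T.hom).flip).flip
    rw [show (lift (fst X T ≫ f) (snd X T)).left ≫ pullback.snd Y.hom T.hom = pullback.snd X.hom T.hom from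
      congrArg (fun z => Over.Hom.left z) (lift_snd (fst X T ≫ f) (snd X T)), Over.w f]
    exact (IsPullback.of_hasPullback X.hom T.hom).flip
  haveI : Flat q.left := MorphismProperty.of_isPullback hsqf inferInstance
  haveI : Surjective q.left := MorphismProperty.of_isPullback hsqf inferInstance
  haveI : QuasiCompact q.left := MorphismProperty.of_isPullback hsqf inferInstance
  let R : Over S := Over.mk (pullback.fst q.left q.left ≫ (X ⊗ T).hom)
  let p : R ⟶ X ⊗ T := Over.homMk (pullback.fst q.left q.left) rfl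
  let p' : R ⟶ X ⊗ T := Over.homMk (pullback.snd q.left q.left) (by
    show pullback.snd q.left q.left ≫ (X ⊗ T).hom = pullback.fst q.left q.left ≫ (X ⊗ T).hom
    rw [← Over.w q, ← Category.assoc, ← Category.assoc, pullback.condition])
  have hpq : p ≫ q = p' ≫ q := Over.OverMorphism.ext pullback.condition
  have hT : p ≫ snd X T = p' ≫ snd X T := by
    have := congrArg (· ≫ snd Y T) hpq
    simpa [q, overT] using this
  have hX : ((p ≫ fst X T)⁻¹ * (p' ≫ fst X T)) ≫ f = 1 := by
    have := congrArg (· ≫ fst Y T) hpq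
    simp only [q, overT, Category.assoc, lift_fst] at this
    rw [MonObj.mul_comp, GrpObj.inv_comp, Category.assoc, Category.assoc, this, inv_mul_cancel]
  obtain ⟨kk, hkk⟩ := AlgGrpLib.exists_lift_kernel hK hX
  let w : R ⟶ X ⊗ (K ⊗ T) := lift (p ≫ fst X T) (lift kk (p ≫ snd X T))
  have hwa : w ≫ actT i T = p' := by
    simp only [actT, w, comp_lift, MonObj.comp_mul, lift_fst, lift_snd_assoc, lift_fst_assoc, hkk, mul_inv_cancel_left,
      lift_snd, hT]
    exact (hom_ext _ _ (by simp) (by simp))
  have hwb : w ≫ forT (K := K) T = p := by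
    simp only [forT, w, comp_lift, lift_fst, lift_snd_assoc, lift_snd]
    exact (hom_ext _ _ (by simp) (by simp))
  have hab := congrArg (fun z => Over.Hom.left z) (actT_overT i f T hK)
  have e1 := hD.comp hab w.left
  have e2 := hD'.comp hab w.left
  rw [← Over.comp_left, ← Over.comp_left, hwa, hwb] at e1 e2
  exact (PicM.of_eq_iff hL hL').2 (Twist.nonempty_iso_of_ratio
    (p₁ := pullback.snd q.left q.left) (p₂ := pullback.fst q.left q.left)
    (IsPullback.of_hasPullback q.left q.left).flip D D' e1 e2)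

omit [Flat f.left] [Surjective f.left] [QuasiCompact f.left]

include hK in
/-- The function is multiplicative in the point of the kernel. -/
theorem KerRatio.mul_point {c : PicM (Y ⊗ T).left} {u : Γ((K ⊗ T).left, ⊤)} (h : KerRatio i f T c u)
    {V : Over S} (v v' : V ⟶ K) (m : V ⟶ T) :
    (lift (v * v') m).left.appTop u = (lift v m).left.appTop u * (lift v' m).left.appTop u := by
  obtain ⟨L, hL, rfl, D, hD⟩ := h
  have hab := congrArg (fun z => Over.Hom.left z) (actT_overT i f T hK)
  have key : ∀ (x : V ⟶ X) (k : V ⟶ K),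
      D.HasRatio (lift (x * (k ≫ i)) m).left (lift x m).left ((lift k m).left.appTop u) := fun x k => by
    let z : V ⟶ X ⊗ (K ⊗ T) := lift x (lift k m)
    have e := hD.comp hab z.left
    rw [← Over.comp_left, ← Over.comp_left, ← CommRingCat.comp_apply, ← Scheme.Hom.comp_appTop, ← Over.comp_left,
      show z ≫ snd X (K ⊗ T) = lift k m from lift_snd _ _,
      show z ≫ actT i T = lift (x * (k ≫ i)) m by simp [z, actT, MonObj.comp_mul],
      show z ≫ forT (K := K) T = lift x m by simp [z, forT]] at e
    exact e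
  have hf : i ≫ f = 1 := hK.w.trans (by rw [Hom.one_def])
  have hq : ∀ (x : V ⟶ X) (k : V ⟶ K), (lift (x * (k ≫ i)) m).left ≫ (overT f T).left =
      (lift x m).left ≫ (overT f T).left := fun x k => by
    refine congrArg (fun z => Over.Hom.left z) (?_ : lift (x * (k ≫ i)) m ≫ overT f T = lift x m ≫ overT f T)
    simp [overT, MonObj.mul_comp, hf, MonObj.comp_one]
  have h1 := key 1 (v * v')
  have h2 := key (1 * (v ≫ i)) v'
  have h3 := key 1 v
  have h23 := h2.trans (hq 1 v) h3 (hq _ v')
  rw [show (1 : V ⟶ X) * (v ≫ i) * (v' ≫ i) = 1 * ((v * v') ≫ i) by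
    rw [MonObj.mul_comp, _root_.one_mul, _root_.one_mul]] at h23
  exact (h1.unique (hq 1 (v * v')) h23).trans (_root_.mul_comm _ _)

include hK in
/-- The function is one at the origin of the kernel. -/
theorem KerRatio.one_point {c : PicM (Y ⊗ T).left} {u : Γ((K ⊗ T).left, ⊤)} (h : KerRatio i f T c u) (hu : IsUnit u)
    {V : Over S} (m : V ⟶ T) : (lift (1 : V ⟶ K) m).left.appTop u = 1 := by
  have e := h.mul_point i f hK (1 : V ⟶ K) 1 m
  rw [_root_.one_mul] at e
  exact ((hu.map (lift (1 : V ⟶ K) m).left.appTop.hom).mul_eq_left.1 e.symm)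

end Groth.Agent.AbDualLib
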