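import Groth.Agent.AbDualLib.KernelPairing
import Groth.Agent.HopfLib.SpPoints
import Groth.Prelude.Def_CartDual
import Mathlib.Algebra.Algebra.Epi

/-!
# The Cartier dual of the kernel of an isogeny maps onto the kernel of the transpose

Over a field the function of the universal killed point is a bicharacter in `A ⊗ B`; contraction with it is a
surjective map of bialgebras from the dual of `A` to `B`.
-/

set_option autoImplicit false
set_option linter.style.haveILetI false
set_option linter.unusedSectionVars false
set_option backward.isDefEq.respectTransparency.types false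

universe u

open CategoryTheory CategoryTheory.Limits MonoidalCategory CartesianMonoidalCategory MonObj AlgebraicGeometry
open scoped TensorProduct

noncomputable section

namespace Groth.Agent.AbDualLib

section Algebra

variable {k : Type u} [Field k] {A B : Type u} [CommRing A] [CommRing B] [Bialgebra k A] [Bialgebra k B]

/-- A bicharacter of two bialgebras. -/
structure IsBichar (U : A ⊗[k] B) : Prop where
  comul_left : Algebra.TensorProduct.map (Bialgebra.comulAlgHom k A) (AlgHom.id k B) U =
    Algebra.TensorProduct.map (Algebra.TensorProduct.includeLeft : A →ₐ[k] A ⊗[k] A) (AlgHom.id k B) U *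
      Algebra.TensorProduct.map (Algebra.TensorProduct.includeRight : A →ₐ[k] A ⊗[k] A) (AlgHom.id k B) U
  counit_left : Algebra.TensorProduct.map (Bialgebra.counitAlgHom k A) (AlgHom.id k B) U = 1
  comul_right : Algebra.TensorProduct.map (AlgHom.id k A) (Bialgebra.comulAlgHom k B) U =
    Algebra.TensorProduct.map (AlgHom.id k A) (Algebra.TensorProduct.includeLeft : B →ₐ[k] B ⊗[k] B) U *
      Algebra.TensorProduct.map (AlgHom.id k A) (Algebra.TensorProduct.includeRight : B →ₐ[k] B ⊗[k] B) U
  counit_right : Algebra.TensorProduct.map (AlgHom.id k A) (Bialgebra.counitAlgHom k B) U = 1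

/-- Contraction of the first factor with a linear form. -/
def du {M N : Type u} [AddCommGroup M] [AddCommGroup N] [Module k M] [Module k N] (a : M →ₗ[k] k) :
    M ⊗[k] N →ₗ[k] N :=
  (TensorProduct.lid k N).toLinearMap ∘ₗ a.rTensor N

@[simp] theorem du_tmul {M N : Type u} [AddCommGroup M] [AddCommGroup N] [Module k M] [Module k N] (a : M →ₗ[k] k)
    (x : M) (y : N) : du a (x ⊗ₜ y) = a x • y := by
  simp [du]

theorem du_map_left {A' : Type u} [CommRing A'] [Algebra k A'] (φ : A →ₐ[k] A') (a : A' →ₗ[k] k) (V : A ⊗[k] B) :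
    du a (Algebra.TensorProduct.map φ (AlgHom.id k B) V) = du (a ∘ₗ φ.toLinearMap) V := by
  induction V using TensorProduct.induction_on with
  | zero => simp
  | add x y hx hy => simp only [map_add, hx, hy]
  | tmul x y => simp

theorem du_map_right {B' : Type u} [CommRing B'] [Algebra k B'] (g : B →ₐ[k] B') (a : A →ₗ[k] k) (V : A ⊗[k] B) :
    du a (Algebra.TensorProduct.map (AlgHom.id k A) g V) = g (du a V) := by
  induction V using TensorProduct.induction_on with
  | zero => simp
  | add x y hx hy => simp only [map_add, hx, hy]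
  | tmul x y => simp

theorem du_map_mul_map (a b : A →ₗ[k] k) (V W : A ⊗[k] B) :
    du (LinearMap.mul' k k ∘ₗ TensorProduct.map a b)
        (Algebra.TensorProduct.map (Algebra.TensorProduct.includeLeft : A →ₐ[k] A ⊗[k] A) (AlgHom.id k B) V *
          Algebra.TensorProduct.map (Algebra.TensorProduct.includeRight : A →ₐ[k] A ⊗[k] A) (AlgHom.id k B) W) =
      du a V * du b W := by
  induction V using TensorProduct.induction_on with
  | zero => simp
  | add x y hx hy => simp only [map_add, add_mul, hx, hy]
  | tmul x y =>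
    induction W using TensorProduct.induction_on with
    | zero => simp
    | add z w hz hw => simp only [map_add, mul_add, hz, hw]
    | tmul z w => simp [smul_smul, mul_comm]

/-- Contraction of a fixed element, linear in the form. -/
def duLin (V : A ⊗[k] B) : CartDual.D k A →ₗ[k] B where
  toFun a := du a.ofConv V
  map_add' a b := by simp [du, LinearMap.rTensor_add]
  map_smul' c a := by simp [du, LinearMap.rTensor_smul]

@[simp] theorem duLin_apply (V : A ⊗[k] B) (a : CartDual.D k A) : duLin V a = du a.ofConv V := rfl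

theorem map_du_du [FiniteDimensional k A] (y : CartDual.D k A ⊗[k] CartDual.D k A) (V W : A ⊗[k] B) :
    TensorProduct.map (duLin V) (duLin W) y =
      du (CartDual.ev₂ k A y) (TensorProduct.tensorTensorTensorComm k A B A B (V ⊗ₜ W)) := by
  induction y using TensorProduct.induction_on with
  | zero => simp [du]
  | add x z hx hz => simp only [map_add, hx, hz]; simp [du, LinearMap.rTensor_add]
  | tmul a b =>
    induction V using TensorProduct.induction_on with
    | zero => simp
    | add x z hx hz =>
      simp only [TensorProduct.map_tmul, duLin_apply, map_add, TensorProduct.add_tmul] at hx hz ⊢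
      rw [hx, hz]
    | tmul x z =>
      induction W using TensorProduct.induction_on with
      | zero => simp
      | add p q hp hq =>
        simp only [TensorProduct.map_tmul, duLin_apply, map_add, TensorProduct.tmul_add] at hp hq ⊢
        rw [hp, hq]
      | tmul p q => simp [CartDual.coe_apply, ← TensorProduct.smul_tmul', smul_smul, mul_comm]

theorem rTensor_mul'_tttc (V W : A ⊗[k] B) :
    (LinearMap.mul' k A).rTensor (B ⊗[k] B) (TensorProduct.tensorTensorTensorComm k A B A B (V ⊗ₜ W)) =
      Algebra.TensorProduct.map (AlgHom.id k A) (Algebra.TensorProduct.includeLeft : B →ₐ[k] B ⊗[k] B) V *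
        Algebra.TensorProduct.map (AlgHom.id k A) (Algebra.TensorProduct.includeRight : B →ₐ[k] B ⊗[k] B) W := by
  induction V using TensorProduct.induction_on with
  | zero => simp
  | add x y hx hy => simp only [map_add, TensorProduct.add_tmul, add_mul, hx, hy]
  | tmul x y =>
    induction W using TensorProduct.induction_on with
    | zero => simp
    | add z w hz hw => simp only [map_add, TensorProduct.tmul_add, mul_add, hz, hw]
    | tmul z w => simp

/-- **The bialgebra map of a bicharacter.** -/
def IsBichar.toDual [FiniteDimensional k A] {U : A ⊗[k] B} (hU : IsBichar U) : CartDual.D k A →ₐc[k] B :=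
  BialgHom.ofAlgHom
    (AlgHom.ofLinearMap (duLin U)
      (by
        show du (1 : CartDual.D k A).ofConv U = 1
        have h1 : (1 : CartDual.D k A).ofConv = (Bialgebra.counitAlgHom k A).toLinearMap := by
          ext x
          simp [LinearMap.convOne_def]
        rw [h1]
        have e := congrArg (du (LinearMap.id : k →ₗ[k] k)) hU.counit_left
        rw [du_map_left, LinearMap.id_comp] at e
        rw [e, Algebra.TensorProduct.one_def, du_tmul]
        simp)
      (fun a b => by
        show du (a * b).ofConv U = du a.ofConv U * du b.ofConv U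
        have h1 : (a * b).ofConv =
            (LinearMap.mul' k k ∘ₗ TensorProduct.map a.ofConv b.ofConv) ∘ₗ (Bialgebra.comulAlgHom k A).toLinearMap := by
          rw [LinearMap.convMul_def]
          rfl
        rw [h1, ← du_map_left, hU.comul_left, du_map_mul_map]))
    (AlgHom.ext fun a => by
      show Coalgebra.counit (R := k) (du a.ofConv U) = Coalgebra.counit (R := k) a
      rw [CartDual.coalgebra_counit_apply,
        show Coalgebra.counit (R := k) (du a.ofConv U) = Bialgebra.counitAlgHom k B (du a.ofConv U) from rfl,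
        ← du_map_right, hU.counit_right, Algebra.TensorProduct.one_def, du_tmul]
      simp [CartDual.coe_apply])
    (AlgHom.ext fun a => by
      show TensorProduct.map _ _ (Coalgebra.comul (R := k) a) = Bialgebra.comulAlgHom k B (du a.ofConv U)
      rw [← du_map_right, hU.comul_right, ← rTensor_mul'_tttc]
      refine Eq.trans ?_ ((map_du_du (Coalgebra.comul (R := k) a) U U).trans ?_)
      · rfl
      · rw [CartDual.comul_def, CartDual.ev₂_comul]
        simp only [du, LinearMap.rTensor_comp, LinearMap.comp_apply])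

theorem IsBichar.toDual_apply [FiniteDimensional k A] {U : A ⊗[k] B} (hU : IsBichar U) (a : CartDual.D k A) :
    hU.toDual a = du a.ofConv U := rfl

/-- The element is recovered from its contractions with the coordinates of a basis. -/
theorem map_eq_sum_du {m : Type} [Fintype m] (e : Module.Basis m k A) {B' : Type u} [CommRing B'] [Algebra k B']
    (g : B →ₐ[k] B') (U : A ⊗[k] B) :
    Algebra.TensorProduct.map (AlgHom.id k A) g U = ∑ j, e j ⊗ₜ g (du (e.coord j) U) := by
  induction U using TensorProduct.induction_on with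
  | zero => simp
  | add x y hx hy => simp only [map_add, hx, hy, TensorProduct.tmul_add, Finset.sum_add_distrib]
  | tmul x y =>
    simp only [Algebra.TensorProduct.map_tmul, AlgHom.id_apply, du_tmul, map_smul, TensorProduct.tmul_smul,
      TensorProduct.smul_tmul', ← TensorProduct.sum_tmul]
    exact congrArg (· ⊗ₜ g y) (e.sum_repr x).symm

/-- A bicharacter which separates maps out of `B` contracts onto `B`. -/
theorem IsBichar.toDual_surjective [FiniteDimensional k A] [FiniteDimensional k B] {U : A ⊗[k] B} (hU : IsBichar U)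
    (hinj : ∀ (L : Type u) [CommRing L] [Algebra k L] (g g' : B →ₐ[k] L),
      Algebra.TensorProduct.map (AlgHom.id k A) g U = Algebra.TensorProduct.map (AlgHom.id k A) g' U → g = g') :
    Function.Surjective hU.toDual := by
  let S : Subalgebra k B := (hU.toDual : CartDual.D k A →ₐ[k] B).range
  have hmem : ∀ a : A →ₗ[k] k, du a U ∈ S := fun a => ⟨WithConv.toConv a, rfl⟩
  haveI : Module.Finite S B := Module.Finite.of_restrictScalars_finite k S B
  haveI : Algebra.IsEpi S B := by
    rw [Algebra.isEpi_iff_forall_one_tmul_eq]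
    intro b
    let g : B →ₐ[k] B ⊗[S] B := (Algebra.TensorProduct.includeLeft : B →ₐ[S] B ⊗[S] B).restrictScalars k
    let g' : B →ₐ[k] B ⊗[S] B := (Algebra.TensorProduct.includeRight : B →ₐ[S] B ⊗[S] B).restrictScalars k
    have e : g = g' := by
      refine hinj _ g g' ?_
      rw [map_eq_sum_du (Module.finBasis k A), map_eq_sum_du (Module.finBasis k A)]
      refine Finset.sum_congr rfl fun j _ => congrArg _ ?_
      show du _ U ⊗ₜ[S] (1 : B) = (1 : B) ⊗ₜ[S] du _ U
      have := TensorProduct.smul_tmul (R := S) (⟨_, hmem ((Module.finBasis k A).coord j)⟩ : S) (1 : B) (1 : B)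
      simp only [Subalgebra.smul_def, smul_eq_mul, _root_.mul_one] at this
      exact this
    exact (DFunLike.congr_fun e b).symm
  intro b
  obtain ⟨⟨c, a, rfl⟩, rfl⟩ := (Algebra.isEpi_iff_surjective_algebraMap_of_finite (R := S) (A := B)).1 ‹_› b
  exact ⟨a, rfl⟩

end Algebra

section Scheme

variable {k : Type u} [Field k]

/-- The ring of functions of `Spec L` over the base. -/
abbrev evSp (L : Type u) [CommRing L] [Algebra k L] : Γ((CoactBr.sp k L).left, ⊤) →+* L :=
  (Scheme.ΓSpecIso (CommRingCat.of L)).hom.hom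

theorem evSp_pt {K L : Type u} [CommRing K] [CommRing L] [Algebra k K] [Algebra k L] (φ : K →ₐ[k] L)
    (x : Γ((CoactBr.sp k K).left, ⊤)) :
    evSp (k := k) L ((CoactBr.pt φ).left.appTop x) = φ (evSp (k := k) K x) := by
  rw [CoactBr.pt_left]
  exact congrArg (fun h => h.hom x) (Scheme.ΓSpecIso_naturality (CommRingCat.ofHom φ.toRingHom))

theorem evSp_injective (L : Type u) [CommRing L] [Algebra k L] : Function.Injective (evSp (k := k) L) :=
  (Scheme.ΓSpecIso (CommRingCat.of L)).commRingCatIsoToRingEquiv.injective

variable {A B : Type u} [CommRing A] [CommRing B] [Algebra k A] [Algebra k B]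

/-- The value of a function on a pair of points. -/
abbrev pairVal (w : Γ((CoactBr.sp k A ⊗ CoactBr.sp k B).left, ⊤)) {L : Type u} [CommRing L] [Algebra k L]
    (φ : A →ₐ[k] L) (ψ : B →ₐ[k] L) : L :=
  evSp (k := k) L ((lift (CoactBr.pt φ) (CoactBr.pt ψ)).left.appTop w)

/-- The element of the tensor product of a function. -/
abbrev coordEl (w : Γ((CoactBr.sp k A ⊗ CoactBr.sp k B).left, ⊤)) : A ⊗[k] B :=
  pairVal w Algebra.TensorProduct.includeLeft Algebra.TensorProduct.includeRight

theorem pairVal_eq (w : Γ((CoactBr.sp k A ⊗ CoactBr.sp k B).left, ⊤)) {L : Type u} [CommRing L] [Algebra k L]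
    (φ : A →ₐ[k] L) (ψ : B →ₐ[k] L) : pairVal w φ ψ = Algebra.TensorProduct.productMap φ ψ (coordEl w) := by
  have e : lift (CoactBr.pt φ) (CoactBr.pt ψ) = CoactBr.pt (Algebra.TensorProduct.productMap φ ψ) ≫
      lift (CoactBr.pt Algebra.TensorProduct.includeLeft) (CoactBr.pt Algebra.TensorProduct.includeRight) := by
    rw [comp_lift, ← CoactBr.pt_comp, ← CoactBr.pt_comp, Algebra.TensorProduct.productMap_left,
      Algebra.TensorProduct.productMap_right]
  rw [pairVal, e, Over.comp_left, Scheme.Hom.comp_appTop, CommRingCat.comp_apply]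
  exact evSp_pt _ _

theorem map_eq_productMap {A' B' : Type u} [CommRing A'] [CommRing B'] [Algebra k A'] [Algebra k B'] (φ : A →ₐ[k] A')
    (ψ : B →ₐ[k] B') : Algebra.TensorProduct.map φ ψ = Algebra.TensorProduct.productMap
      (Algebra.TensorProduct.includeLeft.comp φ) (Algebra.TensorProduct.includeRight.comp ψ) := by
  ext <;> simp

end Scheme

section Kernel

open Groth.Agent.PicLib

variable {k : Type u} [Field k] {X Y Xt Yt : Over (Spec (CommRingCat.of k))} [GrpObj X] [GrpObj Y] [GrpObj Xt]
  [GrpObj Yt] [IsProper X.hom] [Smooth X.hom] [GeometricallyConnected X.hom]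
  [IsProper Y.hom] [Smooth Y.hom] [GeometricallyConnected Y.hom] [IsSeparated Yt.hom]
  {φX : ∀ T : Over (Spec (CommRingCat.of k)), PicF.Cl (PicF.XT X.hom T) → (T ⟶ Xt)}
  {φY : ∀ T : Over (Spec (CommRingCat.of k)), PicF.Cl (PicF.XT Y.hom T) → (T ⟶ Yt)}

/-- **The Cartier dual of the kernel of an isogeny maps onto the kernel of the transpose.** -/
theorem exists_surjective_bialgHom (hX : AbDual.IsDualAV Scheme.fppfPrecoverage X Xt φX)
    (hY : AbDual.IsDualAV Scheme.fppfPrecoverage Y Yt φY) (f : X ⟶ Y) [IsMonHom f] [Flat f.left] [Surjective f.left]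
    [QuasiCompact f.left] {A : Type u} [CommRing A] [HopfAlgebra k A] [FiniteDimensional k A]
    (i : CoactBr.sp k A ⟶ X) [IsMonHom i] (hA : AlgGrp.IsKernel i f) {ft : Yt ⟶ Xt} [IsMonHom ft]
    (hft : AbDual.IsTranspose f φX φY ft) {B : Type u} [CommRing B] [HopfAlgebra k B] [FiniteDimensional k B]
    (j : CoactBr.sp k B ⟶ Yt) [IsMonHom j] (hB : AlgGrp.IsKernel j ft) :
    ∃ Φ : CartDual.D k A →ₐc[k] B, Function.Surjective Φ := by
  haveI := AlgGrpLib.kernel_mono hB
  have hm : j ≫ ft = 1 := by rw [hB.w, Hom.one_def]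
  obtain ⟨w, hw⟩ := exists_kerPair i f φY hX hY hft hA j hm
  have hwu := hw.isUnit i f φY hX hY hft hA hm
  -- restriction along a point of the parameter
  have hG : ∀ {L : Type u} [CommRing L] [Algebra k L] (φ : A →ₐ[k] L) (ψ : B →ₐ[k] L),
      evSp (k := k) L ((lift (CoactBr.pt φ) (𝟙 (CoactBr.sp k L))).left.appTop
        ((lift (fst (CoactBr.sp k A) (CoactBr.sp k L)) (snd _ _ ≫ CoactBr.pt ψ)).left.appTop w)) = pairVal w φ ψ := by
    intro L _ _ φ ψ
    rw [← CommRingCat.comp_apply, ← Scheme.Hom.comp_appTop, ← Over.comp_left, comp_lift, lift_fst, lift_snd_assoc,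
      Category.id_comp]
  have hleft : ∀ {L : Type u} [CommRing L] [Algebra k L] (φ φ' : A →ₐ[k] L) (ψ : B →ₐ[k] L),
      pairVal w ((Algebra.TensorProduct.lift φ φ' fun _ _ => .all _ _).comp (Bialgebra.comulAlgHom k A)) ψ =
        pairVal w φ ψ * pairVal w φ' ψ := by
    intro L _ _ φ φ' ψ
    have e := congrArg (evSp (k := k) L) (hw.mul_point i f φY hY hA (CoactBr.pt φ) (CoactBr.pt φ') (CoactBr.pt ψ))
    rw [CoactBr.pt_mul_pt, map_mul] at e
    exact e
  have hright : ∀ {L : Type u} [CommRing L] [Algebra k L] (φ : A →ₐ[k] L) (ψ ψ' : B →ₐ[k] L),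
      pairVal w φ ((Algebra.TensorProduct.lift ψ ψ' fun _ _ => .all _ _).comp (Bialgebra.comulAlgHom k B)) =
        pairVal w φ ψ * pairVal w φ ψ' := by
    intro L _ _ φ ψ ψ'
    have hc := hw.comp i f φY ((CoactBr.pt ψ : CoactBr.sp k L ⟶ CoactBr.sp k B) * CoactBr.pt ψ')
    rw [MonObj.mul_comp, CoactBr.pt_mul_pt] at hc
    have e := (hw.comp i f φY (CoactBr.pt ψ)).mul i f φY hY hA (hw.comp i f φY (CoactBr.pt ψ')) hc
    rw [← hG φ, ← hG φ ψ, ← hG φ ψ', e, map_mul, map_mul]
  have hbi : IsBichar (coordEl w) := by
    refine ⟨?_, ?_, ?_, ?_⟩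
    · rw [map_eq_productMap, map_eq_productMap, map_eq_productMap, ← pairVal_eq, ← pairVal_eq, ← pairVal_eq,
        ← hleft]
      congr 2
      exact Algebra.TensorProduct.ext' fun a b => by simp
    · rw [map_eq_productMap, ← pairVal_eq, AlgHom.comp_id]
      have e := congrArg (evSp (k := k) _) (hw.mul_point i f φY hY hA
        (1 : CoactBr.sp k (k ⊗[k] B) ⟶ CoactBr.sp k A) 1 (CoactBr.pt Algebra.TensorProduct.includeRight))
      rw [_root_.one_mul, map_mul] at e
      have h1 : pairVal w (Algebra.TensorProduct.includeLeft.comp (Bialgebra.counitAlgHom k A))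
          (Algebra.TensorProduct.includeRight : B →ₐ[k] k ⊗[k] B) =
            evSp (k := k) (k ⊗[k] B) ((lift (1 : CoactBr.sp k (k ⊗[k] B) ⟶ CoactBr.sp k A)
              (CoactBr.pt Algebra.TensorProduct.includeRight)).left.appTop w) := by
        rw [CoactBr.one_eq_pt]
        congr 4
      rw [h1]
      have hu := (hwu.map (lift (1 : CoactBr.sp k (k ⊗[k] B) ⟶ CoactBr.sp k A)
        (CoactBr.pt Algebra.TensorProduct.includeRight)).left.appTop.hom).map (evSp (k := k) (k ⊗[k] B))
      exact hu.mul_left_cancel (e.symm.trans (_root_.mul_one _).symm)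
    · rw [map_eq_productMap, map_eq_productMap, map_eq_productMap, ← pairVal_eq, ← pairVal_eq, ← pairVal_eq,
        ← hright]
      congr 2
      exact Algebra.TensorProduct.ext' fun a b => by simp
    · rw [map_eq_productMap, ← pairVal_eq, AlgHom.comp_id, ← hG]
      have hc := hw.comp i f φY (1 : CoactBr.sp k (A ⊗[k] k) ⟶ CoactBr.sp k B)
      rw [MonObj.one_comp] at hc
      have e := hc.unique i f φY hY hA (kerPair_one i f φY hY _)
      rw [CoactBr.one_eq_pt] at e
      have h2 : (Algebra.TensorProduct.includeRight : k →ₐ[k] A ⊗[k] k).comp (Bialgebra.counitAlgHom k B) =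
          (Algebra.ofId k (A ⊗[k] k)).comp (Bialgebra.counitAlgHom k B) :=
        congrArg (fun h => AlgHom.comp h (Bialgebra.counitAlgHom k B)) (Subsingleton.elim _ _)
      rw [h2, e, map_one, map_one]
  refine ⟨hbi.toDual, hbi.toDual_surjective fun L _ _ g g' hgg => ?_⟩
  have key : ∀ h : B →ₐ[k] L, Algebra.TensorProduct.map (AlgHom.id k A) h (coordEl w) =
      evSp (k := k) (A ⊗[k] L) ((Misc15.AffinePoints.Q A L).left.appTop
        ((lift (fst (CoactBr.sp k A) (CoactBr.sp k L)) (snd _ _ ≫ CoactBr.pt h)).left.appTop w)) := by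
    intro h
    rw [map_eq_productMap, ← pairVal_eq, AlgHom.comp_id, ← CommRingCat.comp_apply, ← Scheme.Hom.comp_appTop,
      ← Over.comp_left, comp_lift, lift_fst, lift_snd_assoc, ← CoactBr.pt_comp]
  rw [key, key] at hgg
  haveI := Misc15.AffinePoints.isIso_Q (R := k) A L
  haveI : IsIso (Misc15.AffinePoints.Q (R := k) A L).left :=
    inferInstanceAs (IsIso ((Over.forget _).map (Misc15.AffinePoints.Q (R := k) A L)))
  let F := Scheme.Γ.mapIso (asIso (Misc15.AffinePoints.Q (R := k) A L).left).op
  have e := F.commRingCatIsoToRingEquiv.injective (evSp_injective _ hgg)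
  have hc := hw.comp i f φY (CoactBr.pt g)
  rw [e] at hc
  exact CoactBr.pt_injective ((cancel_mono j).1 (hc.injective i f φY hY hA (hw.comp i f φY (CoactBr.pt g'))))

end Kernel

end Groth.Agent.AbDualLib
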