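import Groth.Agent.AbDualLib.Rigidify
import Groth.Agent.VarietyLib.GeomComponents

/-!
# Pic⁰ classes are closed under products
-/

set_option autoImplicit false
set_option linter.style.haveILetI false
set_option backward.isDefEq.respectTransparency.types false

universe u

open CategoryTheory CategoryTheory.Limits MonoidalCategory CartesianMonoidalCategory MonObj GrpObj AlgebraicGeometry
open Groth.Agent.PicLib Groth.Agent.AmpleLib

namespace Groth.Agent.AbDualLib

/-- Connected schemes over an algebraically closed field are geometrically connected. -/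
theorem geometricallyConnected_of_algClosed {K : Type u} [Field K] [IsAlgClosed K] {T : Scheme.{u}}
    (q : T ⟶ Spec (CommRingCat.of K)) [ConnectedSpace T] : GeometricallyConnected q := by
  haveI : IsIso (CommRingCat.ofHom (algebraMap K (SeparableClosure K))) := by
    rw [ConcreteCategory.isIso_iff_bijective]
    exact IsSepClosed.algebraMap_bijective K (SeparableClosure K)
  haveI : IsIso (VarietyLib.sK K (SeparableClosure K)) :=
    inferInstanceAs (IsIso (Spec.map (CommRingCat.ofHom (algebraMap K (SeparableClosure K)))))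
  haveI : ConnectedSpace ↥(pullback q (VarietyLib.sK K (SeparableClosure K))) :=
    (asIso (pullback.fst q (VarietyLib.sK K (SeparableClosure K)))).hom.homeomorph.symm.surjective.connectedSpace
      (asIso (pullback.fst q (VarietyLib.sK K (SeparableClosure K)))).hom.homeomorph.symm.continuous
  exact VarietyLib.geometricallyConnected_of_connectedSpace K q

/-- Algebraic equivalence to zero is stable under tensor products over an algebraically closed field. -/
theorem isAlgEquivZero_tensorMod {K : Type u} [Field K] [IsAlgClosed K] {X : Scheme.{u}}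
    [X.Over (Spec (CommRingCat.of K))] {L L' : X.Modules} (hLi : PicF.IsInvertible L) (hLi' : PicF.IsInvertible L')
    (h : Pic13.IsAlgEquivZero K X L) (h' : Pic13.IsAlgEquivZero K X L') :
    Pic13.IsAlgEquivZero K X (CohB1.tensorMod L L') := by
  obtain ⟨T, q, hT, hlft, hqc, M, hM, t, t₀, ht, ht₀, ⟨e⟩, ⟨e₀⟩⟩ := h
  obtain ⟨T', q', hT', hlft', hqc', M', hM', t', t₀', ht', ht₀', ⟨e'⟩, ⟨e₀'⟩⟩ := h'
  haveI := geometricallyConnected_of_algClosed q'
  haveI : ConnectedSpace ↥(pullback q q') := inferInstance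
  let Q : pullback q q' ⟶ Spec (CommRingCat.of K) := pullback.fst q q' ≫ q
  let P₁ : Pic13.prodK K X Q ⟶ Pic13.prodK K X q :=
    pullback.map _ _ _ _ (𝟙 X) (pullback.fst q q') (𝟙 _) (by simp) (by simp [Q])
  let P₂ : Pic13.prodK K X Q ⟶ Pic13.prodK K X q' :=
    pullback.map _ _ _ _ (𝟙 X) (pullback.snd q q') (𝟙 _) (by simp) (by simp [Q, pullback.condition])
  have hM1 := PicLoc.isInvertible_pullback P₁ hM
  have hM2 := PicLoc.isInvertible_pullback P₂ hM'
  have key : ∀ (s : Spec (CommRingCat.of K) ⟶ T) (s' : Spec (CommRingCat.of K) ⟶ T') (hs : s ≫ q = 𝟙 _)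
      (hs' : s' ≫ q' = 𝟙 _) (N N' : X.Modules) (hN : PicF.IsInvertible N) (hN' : PicF.IsInvertible N'),
      Nonempty (Pic13.fibreMod K X q s hs M ≅ N) → Nonempty (Pic13.fibreMod K X q' s' hs' M' ≅ N') →
      Nonempty (Pic13.fibreMod K X Q (pullback.lift s s' (hs.trans hs'.symm))
        (by simp only [Q]; rw [pullback.lift_fst_assoc, hs]) (CohB1.tensorMod ((Scheme.Modules.pullback P₁).obj M) ((Scheme.Modules.pullback P₂).obj M')) ≅
          CohB1.tensorMod N N') := by
    intro s s' hs hs' N N' hN hN' he he'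
    refine (PicM.of_eq_iff (PicLoc.isInvertible_pullback _ (isInvertible_tensorMod hM1 hM2))
      (isInvertible_tensorMod hN hN')).1 ?_
    rw [← PicM.pull_of _ (isInvertible_tensorMod hM1 hM2), ← PicM.of_mul hM1 hM2, ← PicM.of_mul hN hN', map_mul,
      ← PicM.pull_of P₁ hM, ← PicM.pull_of P₂ hM', PicM.pull_pull, PicM.pull_pull]
    have e1 : Pic13.sliceAt K X Q (pullback.lift s s' (hs.trans hs'.symm)) (by simp only [Q]; rw [pullback.lift_fst_assoc, hs]) ≫ P₁ =
        Pic13.sliceAt K X q s hs := by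
      apply pullback.hom_ext
      · simp only [Pic13.sliceAt, P₁, pullback.map, Category.assoc]
        erw [pullback.lift_fst, pullback.lift_fst_assoc, pullback.lift_fst]
        simp
      · simp only [Pic13.sliceAt, P₁, pullback.map, Category.assoc]
        erw [pullback.lift_snd, pullback.lift_snd_assoc, pullback.lift_snd]
        rw [Category.assoc, pullback.lift_fst]
    have e2 : Pic13.sliceAt K X Q (pullback.lift s s' (hs.trans hs'.symm)) (by simp only [Q]; rw [pullback.lift_fst_assoc, hs]) ≫ P₂ =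
        Pic13.sliceAt K X q' s' hs' := by
      apply pullback.hom_ext
      · simp only [Pic13.sliceAt, P₂, pullback.map, Category.assoc]
        erw [pullback.lift_fst, pullback.lift_fst_assoc, pullback.lift_fst]
        simp
      · simp only [Pic13.sliceAt, P₂, pullback.map, Category.assoc]
        erw [pullback.lift_snd, pullback.lift_snd_assoc, pullback.lift_snd]
        rw [Category.assoc, pullback.lift_snd]
    rw [e1, e2, PicM.pull_of _ hM, PicM.pull_of _ hM']
    exact congrArg₂ (· * ·) ((PicM.of_eq_iff _ _).2 he) ((PicM.of_eq_iff _ _).2 he')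
  have hO := PicLoc.isInvertible_structureModule (Y := X)
  obtain ⟨k0⟩ := key t₀ t₀' ht₀ ht₀' _ _ hO hO ⟨e₀⟩ ⟨e₀'⟩
  obtain ⟨kk⟩ := key t t' ht ht' _ _ hLi hLi' ⟨e⟩ ⟨e'⟩
  refine ⟨_, Q, inferInstance, inferInstance, inferInstance, _, isInvertible_tensorMod hM1 hM2, _, _, _, _, ⟨kk⟩, ⟨k0 ≪≫ ?_⟩⟩
  exact ((PicM.of_eq_one_iff (isInvertible_tensorMod hO hO)).1 (by
    rw [← PicM.of_mul hO hO, (PicM.of_eq_one_iff hO).2 ⟨Iso.refl _⟩, _root_.mul_one])).some

variable {S : Scheme.{u}} {A : Over S} {T : Over S}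

/-- **Pic⁰ classes are closed under products.** -/
theorem isPicZeroCl_mul {c c' : PicM (A ⊗ T).left} (hc : AbDual.IsPicZeroCl A.hom T c.val)
    (hc' : AbDual.IsPicZeroCl A.hom T c'.val) : AbDual.IsPicZeroCl A.hom T (c * c').val := by
  obtain ⟨L, hcL, hL, hfib⟩ := hc
  obtain ⟨L', hcL', hL', hfib'⟩ := hc'
  obtain rfl : PicM.of (L := L) hL = c := PicM.ext hcL
  obtain rfl : PicM.of (L := L') hL' = c' := PicM.ext hcL'
  refine ⟨CohB1.tensorMod L L', (congrArg PicM.val (PicM.of_mul hL hL')).symm, isInvertible_tensorMod hL hL',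
    fun t Ω _ _ σ hσ => ?_⟩
  letI : (pullback (PicF.XTproj A.hom T) σ).Over (Spec (CommRingCat.of Ω)) := ⟨pullback.snd _ _⟩
  have h := isAlgEquivZero_tensorMod (PicLoc.isInvertible_pullback _ hL) (PicLoc.isInvertible_pullback _ hL')
    (hfib t Ω σ hσ) (hfib' t Ω σ hσ)
  refine isAlgEquivZero_congr (Nonempty.some ?_) h
  refine (PicM.of_eq_iff (isInvertible_tensorMod (PicLoc.isInvertible_pullback _ hL) (PicLoc.isInvertible_pullback _ hL'))
    (PicLoc.isInvertible_pullback _ (isInvertible_tensorMod hL hL'))).1 ?_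
  rw [← PicM.of_mul (PicLoc.isInvertible_pullback _ hL) (PicLoc.isInvertible_pullback _ hL'), ← PicM.pull_of _ hL,
    ← PicM.pull_of _ hL', ← map_mul, PicM.of_mul hL hL', PicM.pull_of]

end Groth.Agent.AbDualLib
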