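import Groth.Agent.AbDualLib.KernelChar
import Groth.Agent.AbDualLib.IsogenyKernel
import Groth.Agent.AbDualLib.PicZeroMul
import Groth.Agent.AbDualLib.FppfGlue
import Groth.Agent.AbSchLib.SmoothReduced

/-!
# The pairing between the kernel of an isogeny and the kernel of its transpose

A point of the dual killed by the transpose gives a function on the kernel of the isogeny over the parameter scheme. It
commutes with change of parameter, is multiplicative in both points and determines the point.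
-/

set_option autoImplicit false
set_option linter.style.haveILetI false
set_option linter.unusedSectionVars false
set_option backward.isDefEq.respectTransparency.types false

universe u

open CategoryTheory CategoryTheory.Limits MonoidalCategory CartesianMonoidalCategory MonObj GrpObj AlgebraicGeometry
open Groth.Agent.PicLib

namespace Groth.Agent.AbDualLib

variable {S : Scheme.{u}} {X Y Xt Yt K : Over S} [GrpObj X] [GrpObj Y] [GrpObj Xt] [GrpObj Yt] [GrpObj K]
  (i : K ⟶ X) (f : X ⟶ Y) [IsMonHom i] [IsMonHom f]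
  (φY : ∀ T : Over S, PicF.Cl (PicF.XT Y.hom T) → (T ⟶ Yt))

/-- `u` is the function on the kernel of the point `m` of the dual. -/
def KerPair (T : Over S) (m : T ⟶ Yt) (u : Γ((K ⊗ T).left, ⊤)) : Prop :=
  ∀ (T' : Over S) (g : T' ⟶ T) (c : PicM (Y ⊗ T').left), AbDual.IsPicZeroCl Y.hom T' c.val →
    PicM.pull (lift (1 : T' ⟶ Y) (𝟙 T')).left c = 1 → φY T' c.val = g ≫ m →
      KerRatio i f T' c ((lift (fst K T') (snd K T' ≫ g)).left.appTop u)

/-- Functions of points commute with change of parameter. -/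
theorem KerPair.comp {T : Over S} {m : T ⟶ Yt} {u : Γ((K ⊗ T).left, ⊤)} (h : KerPair i f φY T m u) {T' : Over S}
    (g : T' ⟶ T) : KerPair i f φY T' (g ≫ m) ((lift (fst K T') (snd K T' ≫ g)).left.appTop u) := by
  intro T'' g' c hc hr hφ
  have e := h T'' (g' ≫ g) c hc hr (hφ.trans (Category.assoc _ _ _).symm)
  rw [← CommRingCat.comp_apply, ← Scheme.Hom.comp_appTop, ← Over.comp_left, comp_lift, lift_fst, lift_snd_assoc,
    Category.assoc]
  exact e

variable [IsProper X.hom] [Smooth X.hom] [GeometricallyConnected X.hom]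
  [IsProper Y.hom] [Smooth Y.hom] [GeometricallyConnected Y.hom] [IsSeparated Yt.hom]
  {φX : ∀ T : Over S, PicF.Cl (PicF.XT X.hom T) → (T ⟶ Xt)}
  (hX : AbDual.IsDualAV Scheme.fppfPrecoverage X Xt φX) (hY : AbDual.IsDualAV Scheme.fppfPrecoverage Y Yt φY)
  {ft : Yt ⟶ Xt} (hft : AbDual.IsTranspose f φX φY ft) (hK : AlgGrp.IsKernel i f)

include hY in
/-- Points are locally points of rigidified Pic⁰ classes. -/
theorem exists_rigid_cover {T : Over S} (m : T ⟶ Yt) :
    ∃ C : Sieve T.left, C ∈ Scheme.fppfTopology T.left ∧ ∀ ⦃V : Scheme.{u}⦄ (v : V ⟶ T.left), C v →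
      ∃ c : PicM (Y ⊗ AbDual.ovr T v).left, AbDual.IsPicZeroCl Y.hom (AbDual.ovr T v) c.val ∧
        PicM.pull (lift (1 : AbDual.ovr T v ⟶ Y) (𝟙 _)).left c = 1 ∧
          φY (AbDual.ovr T v) c.val = AbDual.ovrHom T v ≫ m := by
  obtain ⟨R, hR, hRu⟩ := hY.relPic.locallySurjective T m
  refine ⟨Sieve.generate R, Precoverage.generate_mem_toGrothendieck hR, ?_⟩
  rintro V _ ⟨W, w, p, hp, rfl⟩
  obtain ⟨c₀, hc₀, hφ⟩ := hRu p hp
  obtain ⟨L, hcl, hL, -⟩ := id hc₀
  subst hcl
  obtain ⟨r, -, hr0, hr1, -, hr2⟩ := exists_rigidify hY (PicM.of hL) hc₀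
  let g : AbDual.ovr T (w ≫ p) ⟶ AbDual.ovr T p := Over.homMk w (by
    show w ≫ p ≫ T.hom = (w ≫ p) ≫ T.hom
    rw [Category.assoc])
  refine ⟨PicM.pull (lift (fst Y (AbDual.ovr T (w ≫ p))) (snd Y (AbDual.ovr T (w ≫ p)) ≫ g)).left r,
    isPicZeroCl_pb g _ (lift_snd _ _) hr0, ?_, ?_⟩
  · rw [PicM.pull_pull, ← Over.comp_left,
      show lift (1 : AbDual.ovr T (w ≫ p) ⟶ Y) (𝟙 _) ≫ lift (fst Y (AbDual.ovr T (w ≫ p))) (snd Y _ ≫ g) =
        g ≫ lift (1 : AbDual.ovr T p ⟶ Y) (𝟙 _) by simp, Over.comp_left, ← PicM.pull_pull, hr1, map_one]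
  · rw [phi_pb hY g r hr0, show φY _ r.val = AbDual.ovrHom T p ≫ m from hr2.symm.trans hφ, ← Category.assoc,
      show g ≫ AbDual.ovrHom T p = AbDual.ovrHom T (w ≫ p) from Over.OverMorphism.ext rfl]

include hX hft in
/-- Rigidified classes of killed points have trivial inverse image. -/
theorem pull_overT_eq_one {T : Over S} {m : T ⟶ Yt} (hm : m ≫ ft = 1) {T' : Over S} (g : T' ⟶ T)
    (c : PicM (Y ⊗ T').left) (hc : AbDual.IsPicZeroCl Y.hom T' c.val)
    (hr : PicM.pull (lift (1 : T' ⟶ Y) (𝟙 T')).left c = 1) (hφ : φY T' c.val = g ≫ m) :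
    PicM.pull (overT f T').left c = 1 := by
  refine eq_of_phi_eq hX _ _ (isPicZeroCl_bcMap f hc) (AbCubeLib.isPicZeroCl_one _) ?_ (map_one _) ?_
  · rw [overT, PicM.pull_pull, ← Over.comp_left,
      show lift (1 : T' ⟶ X) (𝟙 T') ≫ lift (fst X T' ≫ f) (snd X T') = lift (1 : T' ⟶ Y) (𝟙 T') by
        rw [comp_lift, lift_fst_assoc, lift_snd, MonObj.one_comp]]
    exact hr
  · rw [phi_one hX]
    refine Eq.trans ?_ ((hft T' c.val hc).trans (by rw [hφ, Category.assoc, hm, MonObj.comp_one]))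
    exact congrArg (φX T') (congrArg PicM.val (pull_bcMap f c)).symm

include hY hK in
/-- The function is unique. -/
theorem KerPair.unique {T : Over S} {m : T ⟶ Yt} {u u' : Γ((K ⊗ T).left, ⊤)} (h : KerPair i f φY T m u)
    (h' : KerPair i f φY T m u') : u = u' := by
  haveI : GeometricallyReduced X.hom := AbSchLib.geometricallyReduced_of_smooth X.hom
  obtain ⟨C, hC, hc⟩ := exists_rigid_cover φY hY m
  have hC' := GrothendieckTopology.pullback_stable _ (snd K T).left hC
  refine (fn_glue _ _ hC').1 _ _ fun W v hv => ?_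
  obtain ⟨c, h0, hr, hφ⟩ := hc _ hv
  let g := AbDual.ovrHom T (v ≫ (snd K T).left)
  have e := (h _ g c h0 hr hφ).unique i f hK (h' _ g c h0 hr hφ)
  let vv : AbDual.ovr T (v ≫ (snd K T).left) ⟶ K ⊗ T := Over.homMk v (by
    show v ≫ (K ⊗ T).hom = (v ≫ (snd K T).left) ≫ T.hom
    rw [Category.assoc, Over.w])
  have hvv : lift (vv ≫ fst K T) (𝟙 _) ≫ lift (fst K _) (snd K _ ≫ g) = vv := by
    have hg : vv ≫ snd K T = g := Over.OverMorphism.ext rfl
    rw [comp_lift, lift_fst, lift_snd_assoc, Category.id_comp, ← hg, ← comp_lift, lift_fst_snd, Category.comp_id]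
  have e' := congrArg (lift (vv ≫ fst K T) (𝟙 _)).left.appTop e
  rw [← CommRingCat.comp_apply, ← CommRingCat.comp_apply, ← Scheme.Hom.comp_appTop, ← Over.comp_left, hvv] at e'
  exact e'

include hX hY hft hK in
/-- **Killed points have functions on the kernel.** -/
theorem exists_kerPair {T : Over S} (m : T ⟶ Yt) (hm : m ≫ ft = 1) : ∃ u, KerPair i f φY T m u := by
  haveI : GeometricallyReduced X.hom := AbSchLib.geometricallyReduced_of_smooth X.hom
  obtain ⟨C, hC, hc⟩ := exists_rigid_cover φY hY m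
  choose c h0 hr hφ using hc
  have hex : ∀ ⦃V : Scheme.{u}⦄ (v : V ⟶ T.left) (hv : C v), ∃ u, KerRatio i f (AbDual.ovr T v) (c v hv) u ∧ IsUnit u :=
    fun V v hv => exists_kerRatio i f hK _
      (pull_overT_eq_one f φY hX hft hm (AbDual.ovrHom T v) _ (h0 v hv) (hr v hv) (hφ v hv))
  choose w hw _hwu using hex
  -- the values on the sieve
  have hC' := GrothendieckTopology.pullback_stable _ (snd K T).left hC
  let vv : ∀ {W : Scheme.{u}} (v : W ⟶ (K ⊗ T).left), AbDual.ovr T (v ≫ (snd K T).left) ⟶ K ⊗ T := fun {W} v =>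
    Over.homMk v (by
      show v ≫ (K ⊗ T).hom = (v ≫ (snd K T).left) ≫ T.hom
      rw [Category.assoc, Over.w])
  let val : ∀ ⦃W : Scheme.{u}⦄ (v : W ⟶ (K ⊗ T).left), Sieve.pullback (snd K T).left C v → Γ(W, ⊤) :=
    fun W v hv => (lift (vv v ≫ fst K T) (𝟙 _)).left.appTop (w _ hv)
  -- comparison through a common refinement
  have hcmp : ∀ ⦃V : Scheme.{u}⦄ (v : V ⟶ T.left) (hv : C v) (T' : Over S) (g : T' ⟶ T) (a : T' ⟶ AbDual.ovr T v)
      (_ : a ≫ AbDual.ovrHom T v = g) (d : PicM (Y ⊗ T').left) (_ : AbDual.IsPicZeroCl Y.hom T' d.val)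
      (_ : PicM.pull (lift (1 : T' ⟶ Y) (𝟙 T')).left d = 1) (_ : φY T' d.val = g ≫ m),
      KerRatio i f T' d ((lift (fst K T') (snd K T' ≫ a)).left.appTop (w v hv)) := by
    intro V v hv T' g a ha d hd hdr hdφ
    have hp := (hw v hv).pull i f hK a
    have e : PicM.pull (lift (fst Y T') (snd Y T' ≫ a)).left (c v hv) = d := by
      refine eq_of_phi_eq hY _ _ (isPicZeroCl_pb a _ (lift_snd _ _) (h0 v hv)) hd ?_ hdr ?_
      · rw [PicM.pull_pull, ← Over.comp_left,
          show lift (1 : T' ⟶ Y) (𝟙 T') ≫ lift (fst Y T') (snd Y T' ≫ a) = a ≫ lift (1 : AbDual.ovr T v ⟶ Y) (𝟙 _) by simp,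
          Over.comp_left, ← PicM.pull_pull, hr v hv, map_one]
      · rw [phi_pb hY a _ (h0 v hv), hφ v hv, ← Category.assoc, ha, hdφ]
    exact e ▸ hp
  have hnat : ∀ ⦃W W' : Scheme.{u}⦄ (z : W' ⟶ W) (v : W ⟶ (K ⊗ T).left) (h : Sieve.pullback (snd K T).left C v),
      val (z ≫ v) (Sieve.downward_closed _ h z) = z.appTop (val v h) := by
    intro W W' z v h
    let T' := AbDual.ovr T ((z ≫ v) ≫ (snd K T).left)
    have hv' : C ((z ≫ v) ≫ (snd K T).left) := Sieve.downward_closed _ h z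
    let a : T' ⟶ AbDual.ovr T (v ≫ (snd K T).left) := Over.homMk z (by
      show z ≫ (v ≫ (snd K T).left) ≫ T.hom = ((z ≫ v) ≫ (snd K T).left) ≫ T.hom
      simp only [Category.assoc])
    have e := (hw _ hv').unique i f hK (hcmp _ h T' (AbDual.ovrHom T _) a
      (Over.OverMorphism.ext (by simp [a])) (c _ hv') (h0 _ hv') (hr _ hv') (hφ _ hv'))
    show (lift (vv (z ≫ v) ≫ fst K T) (𝟙 T')).left.appTop (w _ hv') =
      a.left.appTop ((lift (vv v ≫ fst K T) (𝟙 _)).left.appTop (w _ h))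
    rw [e, ← CommRingCat.comp_apply, ← CommRingCat.comp_apply, ← Scheme.Hom.comp_appTop, ← Scheme.Hom.comp_appTop,
      ← Over.comp_left, ← Over.comp_left, comp_lift, comp_lift, lift_fst, lift_snd_assoc, Category.id_comp,
      Category.comp_id, ← Category.assoc a, show a ≫ vv v = vv (z ≫ v) from Over.OverMorphism.ext rfl]
  obtain ⟨u, hu⟩ := (fn_glue _ _ hC').2 val hnat
  refine ⟨u, fun T' g d hd hdr hdφ => ?_⟩
  obtain ⟨u', hu', -⟩ := exists_kerRatio i f hK d (pull_overT_eq_one f φY hX hft hm g d hd hdr hdφ)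
  let G : K ⊗ T' ⟶ K ⊗ T := lift (fst K T') (snd K T' ≫ g)
  suffices hGu : G.left.appTop u = u' by
    show KerRatio i f T' d (G.left.appTop u)
    rw [hGu]
    exact hu'
  refine (fn_glue _ _ (GrothendieckTopology.pullback_stable _ G.left hC')).1 _ _ fun W z hz => ?_
  have hv : C ((z ≫ G.left) ≫ (snd K T).left) := hz
  let P := AbDual.ovr T ((z ≫ G.left) ≫ (snd K T).left)
  let zz : P ⟶ K ⊗ T' := Over.homMk z (by
    show z ≫ (K ⊗ T').hom = ((z ≫ G.left) ≫ (snd K T).left) ≫ T.hom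
    rw [Category.assoc, Category.assoc, Over.w, Over.w])
  let b : P ⟶ T' := zz ≫ snd K T'
  have hvz : zz ≫ G = vv (z ≫ G.left) := Over.OverMorphism.ext rfl
  have hb : b ≫ g = AbDual.ovrHom T _ := by
    rw [Category.assoc, show snd K T' ≫ g = G ≫ snd K T from (lift_snd _ _).symm, ← Category.assoc, hvz]
    exact Over.OverMorphism.ext rfl
  have e0 := (hu'.pull i f hK b).unique i f hK (hcmp _ hv P (AbDual.ovrHom T _) (𝟙 P) (Category.id_comp _)
    (PicM.pull (lift (fst Y P) (snd Y P ≫ b)).left d) (isPicZeroCl_pb b _ (lift_snd _ _) hd) (by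
      rw [PicM.pull_pull, ← Over.comp_left,
        show lift (1 : P ⟶ Y) (𝟙 P) ≫ lift (fst Y P) (snd Y P ≫ b) = b ≫ lift (1 : T' ⟶ Y) (𝟙 T') by simp,
        Over.comp_left, ← PicM.pull_pull, hdr, map_one]) (by
      rw [phi_pb hY b d hd, hdφ, ← Category.assoc, hb]))
  rw [← CommRingCat.comp_apply, ← Scheme.Hom.comp_appTop]
  refine (hu (z ≫ G.left) hz).trans ?_
  show (lift (vv (z ≫ G.left) ≫ fst K T) (𝟙 P)).left.appTop (w _ hv) = zz.left.appTop u'
  have e1 := congrArg (lift (zz ≫ fst K T') (𝟙 P)).left.appTop e0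
  rw [← CommRingCat.comp_apply, ← CommRingCat.comp_apply, ← Scheme.Hom.comp_appTop, ← Scheme.Hom.comp_appTop,
    ← Over.comp_left, ← Over.comp_left, comp_lift, comp_lift, lift_fst, lift_snd_assoc, Category.id_comp,
    lift_snd_assoc, Category.id_comp, ← comp_lift, lift_fst_snd, Category.comp_id] at e1
  have hz' : vv (z ≫ G.left) ≫ fst K T = zz ≫ fst K T' :=
    (congrArg (· ≫ fst K T) hvz).symm.trans ((Category.assoc _ _ _).trans (congrArg (zz ≫ ·) (lift_fst _ _)))
  exact (congrArg (fun x => (lift x (𝟙 P)).left.appTop (w _ hv)) hz').trans e1.symm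

include hY hK in
/-- The function of the product of points is the product. -/
theorem KerPair.mul {T : Over S} {m m' : T ⟶ Yt} {u u' w : Γ((K ⊗ T).left, ⊤)} (h : KerPair i f φY T m u)
    (h' : KerPair i f φY T m' u') (hw : KerPair i f φY T (m * m') w) : w = u * u' := by
  haveI : GeometricallyReduced X.hom := AbSchLib.geometricallyReduced_of_smooth X.hom
  obtain ⟨C, hC, hc⟩ := exists_rigid_cover φY hY m
  obtain ⟨C', hC'', hc'⟩ := exists_rigid_cover φY hY m'
  have hCC := GrothendieckTopology.pullback_stable _ (snd K T).left (GrothendieckTopology.intersection_covering _ hC hC'')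
  refine (fn_glue _ _ hCC).1 _ _ fun W v hv => ?_
  obtain ⟨c, h0, hr, hφ⟩ := hc _ hv.1
  obtain ⟨c', h0', hr', hφ'⟩ := hc' _ hv.2
  let g := AbDual.ovrHom T (v ≫ (snd K T).left)
  have hprod := hw _ g (c * c') (isPicZeroCl_mul h0 h0') (by rw [map_mul, hr, hr', _root_.mul_one])
    (by rw [phi_mul hY c c' h0 h0', hφ, hφ', MonObj.comp_mul])
  have e := hprod.unique i f hK ((h _ g c h0 hr hφ).mul i f (h' _ g c' h0' hr' hφ'))
  let vv : AbDual.ovr T (v ≫ (snd K T).left) ⟶ K ⊗ T := Over.homMk v (by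
    show v ≫ (K ⊗ T).hom = (v ≫ (snd K T).left) ≫ T.hom
    rw [Category.assoc, Over.w])
  have hvv : lift (vv ≫ fst K T) (𝟙 _) ≫ lift (fst K _) (snd K _ ≫ g) = vv := by
    have hg : vv ≫ snd K T = g := Over.OverMorphism.ext rfl
    rw [comp_lift, lift_fst, lift_snd_assoc, Category.id_comp, ← hg, ← comp_lift, lift_fst_snd, Category.comp_id]
  rw [← map_mul] at e
  have e' := congrArg (lift (vv ≫ fst K T) (𝟙 _)).left.appTop e
  rw [← CommRingCat.comp_apply, ← CommRingCat.comp_apply, ← Scheme.Hom.comp_appTop, ← Over.comp_left, hvv] at e'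
  exact e'

include hY in
/-- The function of the origin is one. -/
theorem kerPair_one (T : Over S) : KerPair i f φY T 1 1 := by
  intro T' g c hc hr hφ
  rw [map_one, eq_of_phi_eq hY c 1 hc (AbCubeLib.isPicZeroCl_one _) hr (map_one _)
    (by rw [hφ, MonObj.comp_one, phi_one hY])]
  exact kerRatio_one i f

include hX hY hft hK in
/-- The functions are units. -/
theorem KerPair.isUnit {T : Over S} {m : T ⟶ Yt} (hm : m ≫ ft = 1) [IsMonHom ft] {u : Γ((K ⊗ T).left, ⊤)}
    (h : KerPair i f φY T m u) : IsUnit u := by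
  obtain ⟨u', hu'⟩ := exists_kerPair i f φY hX hY hft hK m⁻¹ (by rw [GrpObj.inv_comp, hm, inv_one])
  have h1 := kerPair_one i f φY hY T
  exact IsUnit.of_mul_eq_one u' (h.mul i f φY hY hK hu' (by rw [mul_inv_cancel]; exact h1)).symm

include hY hK in
/-- The function is multiplicative in the point of the kernel. -/
theorem KerPair.mul_point {T : Over S} {m : T ⟶ Yt} {u : Γ((K ⊗ T).left, ⊤)} (h : KerPair i f φY T m u) {V : Over S}
    (v v' : V ⟶ K) (a : V ⟶ T) :
    (lift (v * v') a).left.appTop u = (lift v a).left.appTop u * (lift v' a).left.appTop u := by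
  haveI : GeometricallyReduced X.hom := AbSchLib.geometricallyReduced_of_smooth X.hom
  obtain ⟨C, hC, hc⟩ := exists_rigid_cover φY hY m
  refine (fn_glue _ _ (GrothendieckTopology.pullback_stable _ a.left hC)).1 _ _ fun W z hz => ?_
  obtain ⟨c, h0, hr, hφ⟩ := hc _ hz
  let P := AbDual.ovr T (z ≫ a.left)
  let zz : P ⟶ V := Over.homMk z (by
    show z ≫ V.hom = (z ≫ a.left) ≫ T.hom
    rw [Category.assoc, Over.w])
  let g := AbDual.ovrHom T (z ≫ a.left)
  have hg : zz ≫ a = g := Over.OverMorphism.ext rfl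
  have e := (h _ g c h0 hr hφ).mul_point i f hK (zz ≫ v) (zz ≫ v') (𝟙 P)
  have hl : ∀ y : V ⟶ K, lift (zz ≫ y) (𝟙 P) ≫ lift (fst K P) (snd K P ≫ g) = zz ≫ lift y a := fun y => by
    rw [comp_lift, comp_lift, lift_fst, lift_snd_assoc, Category.id_comp, hg]
  rw [← MonObj.comp_mul, ← CommRingCat.comp_apply, ← CommRingCat.comp_apply, ← CommRingCat.comp_apply,
    ← Scheme.Hom.comp_appTop, ← Scheme.Hom.comp_appTop, ← Scheme.Hom.comp_appTop, ← Over.comp_left, ← Over.comp_left,
    ← Over.comp_left, hl, hl, hl] at e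
  show zz.left.appTop _ = zz.left.appTop (_ * _)
  rw [map_mul]
  simp only [← CommRingCat.comp_apply, ← Scheme.Hom.comp_appTop, ← Over.comp_left]
  exact e

include hY hK in
/-- **The function determines the point.** -/
theorem KerPair.injective [Flat f.left] [Surjective f.left] [QuasiCompact f.left] {T : Over S} {m m' : T ⟶ Yt}
    {u : Γ((K ⊗ T).left, ⊤)} (h : KerPair i f φY T m u) (h' : KerPair i f φY T m' u) : m = m' := by
  haveI : GeometricallyReduced X.hom := AbSchLib.geometricallyReduced_of_smooth X.hom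
  obtain ⟨C, hC, hc⟩ := exists_rigid_cover φY hY m
  obtain ⟨C', hC'', hc'⟩ := exists_rigid_cover φY hY m'
  refine Over.OverMorphism.ext ?_
  refine ((GrothendieckTopology.Subcanonical.isSheaf_of_isRepresentable (J := Scheme.fppfTopology)
    (yoneda.obj Yt.left)) _ (GrothendieckTopology.intersection_covering _ hC hC'')).isSeparatedFor.ext fun W v hv => ?_
  obtain ⟨c, h0, hr, hφ⟩ := hc v hv.1
  obtain ⟨c', h0', hr', hφ'⟩ := hc' v hv.2
  have e : c = c' := (h _ _ c h0 hr hφ).injective i f hK (h' _ _ c' h0' hr' hφ')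
  have e' : AbDual.ovrHom T v ≫ m = AbDual.ovrHom T v ≫ m' := by rw [← hφ, ← hφ', e]
  exact congrArg (fun z => Over.Hom.left z) e'

end Groth.Agent.AbDualLib
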