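import Groth.Agent.AbDualLib.DegreeDual

/-!
# The homomorphism of an inverse image along a homomorphism
-/

set_option autoImplicit false
set_option linter.style.haveILetI false
set_option backward.isDefEq.respectTransparency.types false

universe u

open CategoryTheory CategoryTheory.Limits MonoidalCategory CartesianMonoidalCategory MonObj GrpObj AlgebraicGeometry
open Groth.Agent.PicLib Groth.Agent.AmpleLib

namespace Groth.Agent.AbDualLib

variable {k : Type u} [Field k] {X Y Xt Yt : Over (Spec (CommRingCat.of k))} [GrpObj X] [GrpObj Y] [GrpObj Xt] [GrpObj Yt]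
  [IsProper Y.hom] [GeometricallyIntegral Y.hom] [IsProper Yt.hom] [GeometricallyIntegral Yt.hom]
  {φX : AgPol.DualMap X Xt} {φY : AgPol.DualMap Y Yt}
  (hX : AbDual.IsDualAV Scheme.fppfPrecoverage X Xt φX) (hY : AbDual.IsDualAV Scheme.fppfPrecoverage Y Yt φY)

include hX hY in
/-- **`λ_{f^*L} = f^t λ_L f`.** -/
theorem isLambda_pullback (f : X ⟶ Y) [IsMonHom f] {ft : Yt ⟶ Xt} (hft : AbDual.IsTranspose f φX φY ft)
    {L : Y.left.Modules} (hL : PicF.IsInvertible L) {lam : Y ⟶ Yt} (hlam : AgPol.IsLambda Y Yt φY L lam) :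
    AgPol.IsLambda X Xt φX ((Scheme.Modules.pullback f.left).obj L) (f ≫ lam ≫ ft) := by
  obtain ⟨Nc, h0, -, hN, hmul⟩ := exists_mumford hY hL hlam
  let Nf : PicM (Y ⊗ X).left := PicM.pull (lift (fst Y X) (snd Y X ≫ f)).left Nc
  have hNf : AbDual.IsPicZeroCl Y.hom X Nf.val := isPicZeroCl_pb f _ (lift_snd _ _) h0
  let N' : PicM (X ⊗ X).left := pullAlong f Nf
  obtain ⟨N, hNi, hNcl⟩ := PicM.exists_eq_of N'
  have hφ : φX X N'.val = f ≫ lam ≫ ft := by
    rw [pullAlong_val, hft X _ hNf, phi_pb hY f Nc h0, hN, Category.assoc]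
  refine ⟨N, hNi, ?_, ?_⟩
  · refine (PicM.of_eq_iff (isInvertible_tensorMod
      (isInvertible_tensorMod hNi (PicLoc.isInvertible_pullback (fst X X).left (PicLoc.isInvertible_pullback f.left hL)))
      (PicLoc.isInvertible_pullback (snd X X).left (PicLoc.isInvertible_pullback f.left hL)))
      (PicLoc.isInvertible_pullback μ[X].left (PicLoc.isInvertible_pullback f.left hL))).1 ?_
    show PicM.of hNi * PicM.pull (fst X X).left (PicM.pull f.left (PicM.of hL)) *
      PicM.pull (snd X X).left (PicM.pull f.left (PicM.of hL)) = PicM.pull μ[X].left (PicM.pull f.left (PicM.of hL))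
    rw [← hNcl]
    show pullAlong f Nf * _ * _ = _
    simp only [Nf, pullAlong, PicM.pull_pull, ← Over.comp_left]
    rw [show lift (fst X X ≫ f) (snd X X) ≫ lift (fst Y X) (snd Y X ≫ f) = lift (fst X X ≫ f) (snd X X ≫ f) by
        ext1 <;> simp,
      show μ[X] ≫ f = (fst X X ≫ f) * (snd X X ≫ f) by
        rw [← MonObj.mul_comp, Hom.mul_def, lift_fst_snd, Category.id_comp]]
    exact (hmul _ _ _).symm
  · have e : PicF.cl N = N'.val := (congrArg PicM.val hNcl).symm
    rw [e]
    exact hφ

end Groth.Agent.AbDualLib
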