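import Groth.Agent.AbDualLib.Translation

/-!
# Rigidified Pic⁰ classes on an abelian scheme are primitive

For a dual `(At, φ)` of `A`: the classes `m^*c` and `p₁₃^*c` on `A ×_S (A ×_S T)` define two morphisms
`A ×_S T ⟶ At` equal on geometric points, hence equal by rigidity; so they differ by a class from the base.
-/

set_option autoImplicit false

universe u

open CategoryTheory CategoryTheory.Limits MonoidalCategory CartesianMonoidalCategory MonObj GrpObj AlgebraicGeometry
open Groth.Agent.PicLib

namespace Groth.Agent.AbDualLib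

variable {S : Scheme.{u}} {A At : Over S} [GrpObj A] [GrpObj At]
  {φ : ∀ T : Over S, PicF.Cl (PicF.XT A.hom T) → (T ⟶ At)}

/-- Naturality in the form of the cartesian structure. -/
theorem phi_pb (hφ : AbDual.IsDualAV Scheme.fppfPrecoverage A At φ) {T T' : Over S} (g : T' ⟶ T)
    (c : PicM (A ⊗ T).left) (hc : AbDual.IsPicZeroCl A.hom T c.val) :
    φ T' (PicM.pull (lift (fst A T') (snd A T' ≫ g)).left c).val = g ≫ φ T c.val := by
  rw [← AbCubeLib.XTmap_eq]
  exact hφ.relPic.natural T T' g c.val hc

/-- `A ◁ g` preserves Pic⁰. -/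
theorem isPicZeroCl_pb {T T' : Over S} (g : T' ⟶ T) (h : A ⊗ T' ⟶ A ⊗ T) (hh : h ≫ snd A T = snd A T' ≫ g)
    {c : PicM (A ⊗ T).left} (hc : AbDual.IsPicZeroCl A.hom T c.val) :
    AbDual.IsPicZeroCl A.hom T' (PicM.pull h.left c).val :=
  isPicZeroCl_pull g h.left (congrArg (fun t => Over.Hom.left t) hh) hc

/-- **A rigidified Pic⁰ class is primitive.** -/
theorem primitive [IsProper A.hom] [Smooth A.hom] [GeometricallyConnected A.hom]
    [IsSeparated At.hom] [LocallyOfFiniteType At.hom]
    (hφ : AbDual.IsDualAV Scheme.fppfPrecoverage A At φ) {T : Over S} (c : PicM (A ⊗ T).left)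
    (h0 : AbDual.IsPicZeroCl A.hom T c.val) (hrig : PicM.pull (lift (1 : T ⟶ A) (𝟙 T)).left c = 1) :
    PicM.pull (lift (fst A (A ⊗ T) * (snd A (A ⊗ T) ≫ fst A T)) (snd A (A ⊗ T) ≫ snd A T)).left c =
      PicM.pull (lift (fst A (A ⊗ T)) (snd A (A ⊗ T) ≫ snd A T)).left c * PicM.pull (snd A (A ⊗ T)).left c := by
  haveI : GeometricallyIntegral A.hom := AbVarLib.geometricallyIntegral_of_smooth A.hom
  let B := A ⊗ T
  let p₁ : A ⊗ B ⟶ A := fst A B
  let m : A ⊗ B ⟶ A ⊗ T := lift (p₁ * (snd A B ≫ fst A T)) (snd A B ≫ snd A T)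
  let q : A ⊗ B ⟶ A ⊗ T := lift p₁ (snd A B ≫ snd A T)
  let D := PicM.pull m.left c
  let E := PicM.pull q.left c
  have hD : AbDual.IsPicZeroCl A.hom B D.val := isPicZeroCl_pb (snd A T) m (lift_snd _ _) h0
  have hE : AbDual.IsPicZeroCl A.hom B E.val := isPicZeroCl_pb (snd A T) q (lift_snd _ _) h0
  have hEφ : φ B E.val = snd A T ≫ φ T c.val := phi_pb hφ (snd A T) c h0
  let e : T ⟶ B := lift (1 : T ⟶ A) (𝟙 T)
  have heφ : e ≫ φ B D.val = φ T c.val := by
    rw [← phi_pb hφ e D hD]
    show φ T (PicM.pull _ (PicM.pull m.left c)).val = _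
    rw [PicM.pull_pull, ← Over.comp_left,
      show lift (fst A T) (snd A T ≫ e) ≫ m = 𝟙 (A ⊗ T) by
        ext1 <;> simp [m, p₁, e, comp_lift, MonObj.comp_mul], Over.id_left, PicM.pull_id]
  -- equality on geometric points
  have hpt : ∀ (Ω : Type u) [Field Ω] [IsAlgClosed Ω] (x : Spec (CommRingCat.of Ω) ⟶ B.left),
      x ≫ (φ B D.val).left = x ≫ (snd A T ≫ φ T c.val).left := by
    intro Ω _ _ x
    let O : Over S := Over.mk (x ≫ B.hom)
    let xb : O ⟶ B := Over.homMk x rfl
    let a : O ⟶ A := xb ≫ fst A T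
    let t : O ⟶ T := xb ≫ snd A T
    let ct := PicM.pull (lift (fst A O) (snd A O ≫ t)).left c
    have hct : AbDual.IsPicZeroCl A.hom O ct.val := isPicZeroCl_pb t _ (lift_snd _ _) h0
    have key : PicM.pull (lift (fst A O) (snd A O ≫ xb)).left D = ct := by
      refine Eq.trans ?_ (pb_transl_eq (x ≫ B.hom) a ct hct)
      show PicM.pull _ (PicM.pull m.left c) = PicM.pull _ (PicM.pull _ c)
      rw [PicM.pull_pull, PicM.pull_pull, ← Over.comp_left, ← Over.comp_left]
      congr 3
      show lift (fst A O) (snd A O ≫ xb) ≫ m =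
        lift (fst A O * (snd A O ≫ a)) (snd A O) ≫ lift (fst A O) (snd A O ≫ t)
      ext1 <;> simp [m, p₁, a, t, comp_lift, MonObj.comp_mul]
    have h2 : xb ≫ φ B D.val = xb ≫ snd A T ≫ φ T c.val := by
      rw [← phi_pb hφ xb D hD, key]
      exact (phi_pb hφ t c h0).trans (Category.assoc _ _ _)
    exact congrArg (fun z => Over.Hom.left z) h2
  -- rigidity
  have hrigid : φ B D.val = snd A T ≫ φ T c.val := by
    let g : B.left ⟶ T.left := (snd A T).left
    haveI : IsProper g := inferInstanceAs (IsProper (pullback.snd A.hom T.hom))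
    haveI : Flat g := inferInstanceAs (Flat (pullback.snd A.hom T.hom))
    haveI : LocallyOfFinitePresentation g :=
      inferInstanceAs (LocallyOfFinitePresentation (pullback.snd A.hom T.hom))
    haveI : GeometricallyConnected g := inferInstanceAs (GeometricallyConnected (pullback.snd A.hom T.hom))
    haveI : GeometricallyReduced g := inferInstanceAs (GeometricallyReduced (pullback.snd A.hom T.hom))
    have he : e.left ≫ g = 𝟙 T.left := congrArg (fun z => Over.Hom.left z) (lift_snd (1 : T ⟶ A) (𝟙 T))
    have hf : (φ B D.val).left ≫ At.hom = g ≫ T.hom := (Over.w _).trans (Over.w (snd A T)).symm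
    have hr := (AbSchLib.isClopen_collapsedLocus_and_eq_section T.hom At.hom g (φ B D.val).left e.left he hf).2 ⊤
    have hsub : ((⊤ : T.left.Opens) : Set T.left) ⊆ AbSchLib.collapsedLocus g (φ B D.val).left := by
      rintro y -
      refine Set.Subsingleton.anti (t := {(φ T c.val).left y}) Set.subsingleton_singleton ?_
      rintro _ ⟨z, hz, rfl⟩
      let x : Spec (CommRingCat.of (AlgebraicClosure (B.left.residueField z))) ⟶ B.left :=
        Spec.map (CommRingCat.ofHom (algebraMap (B.left.residueField z) (AlgebraicClosure (B.left.residueField z)))) ≫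
          B.left.fromSpecResidueField z
      have hx : x (IsLocalRing.closedPoint _) = z := by
        rw [Scheme.Hom.comp_apply, Scheme.fromSpecResidueField_apply]
      have h3 : (φ B D.val).left (x (IsLocalRing.closedPoint _)) =
          (snd A T ≫ φ T c.val).left (x (IsLocalRing.closedPoint _)) := by
        rw [← Scheme.Hom.comp_apply, hpt _ x, Scheme.Hom.comp_apply]
      rw [hx] at h3
      rw [Set.mem_singleton_iff, h3, Over.comp_left, Scheme.Hom.comp_apply]
      exact congrArg (φ T c.val).left hz
    have h4 := hr hsub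
    refine Over.OverMorphism.ext ?_
    haveI : IsIso (⊤ : B.left.Opens).ι := inferInstanceAs (IsIso B.left.topIso.hom)
    rw [Scheme.Hom.preimage_top, cancel_epi] at h4
    rw [h4, Over.comp_left, ← heφ, Over.comp_left]
  -- descent
  obtain ⟨R, hR, hRu⟩ := hφ.relPic.locallyInjective B D.val E.val hD hE (hrigid.trans hEφ.symm)
  obtain ⟨E', hE'⟩ := PicM.exists_mul_eq_one E
  let g : (A ⊗ B).left ⟶ B.left := (snd A B).left
  haveI : IsProper g := inferInstanceAs (IsProper (pullback.snd A.hom B.hom))
  haveI : Flat g := inferInstanceAs (Flat (pullback.snd A.hom B.hom))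
  haveI : LocallyOfFinitePresentation g := inferInstanceAs (LocallyOfFinitePresentation (pullback.snd A.hom B.hom))
  haveI : GeometricallyConnected g := inferInstanceAs (GeometricallyConnected (pullback.snd A.hom B.hom))
  haveI : GeometricallyReduced g := inferInstanceAs (GeometricallyReduced (pullback.snd A.hom B.hom))
  let eB : B ⟶ A ⊗ B := lift (1 : B ⟶ A) (𝟙 B)
  have hQ := eq_pull_of_trivial_on_cover g eB.left
    (congrArg (fun z => Over.Hom.left z) (lift_snd (1 : B ⟶ A) (𝟙 B))) hR (D * E') (fun U u hu => by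
      let n : pullback g u ⟶ PicF.XT A.hom (AbDual.ovr B u) :=
        pullback.lift (pullback.fst g u ≫ (fst A B).left) (pullback.snd g u) (by
          rw [Category.assoc, Over.w (fst A B), ← Over.w (snd A B)]
          simp only [AbDual.ovr, Over.mk_hom]
          rw [← Category.assoc, ← Category.assoc]
          exact congrArg (· ≫ B.hom) pullback.condition)
      have hn : n ≫ PicF.XTmap A.hom (AbDual.ovrHom B u) = pullback.fst g u := by
        simp only [n, PicF.XTmap, pullback.map]
        apply pullback.hom_ext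
        · rw [Category.assoc, pullback.lift_fst, pullback.lift_fst_assoc, Category.assoc, Category.comp_id]
          rfl
        · rw [Category.assoc, pullback.lift_snd, pullback.lift_snd_assoc]
          exact pullback.condition.symm
      have hDE : PicM.pull (PicF.XTmap A.hom (AbDual.ovrHom B u)) D =
          PicM.pull (PicF.XTmap A.hom (AbDual.ovrHom B u)) E := PicM.ext (hRu u hu)
      rw [← hn, ← PicM.pull_pull, map_mul, hDE, ← map_mul, hE', map_one, map_one])
  have heD : PicM.pull eB.left D = c := by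
    show PicM.pull _ (PicM.pull m.left c) = c
    rw [PicM.pull_pull, ← Over.comp_left, show eB ≫ m = 𝟙 (A ⊗ T) by
      ext1 <;> simp [eB, m, p₁, comp_lift, MonObj.comp_mul], Over.id_left, PicM.pull_id]
  have heE : PicM.pull eB.left E = 1 := by
    show PicM.pull _ (PicM.pull q.left c) = 1
    rw [PicM.pull_pull, ← Over.comp_left, show eB ≫ q = snd A T ≫ lift (1 : T ⟶ A) (𝟙 T) by
      ext1 <;> simp [eB, q, p₁, comp_lift], Over.comp_left, ← PicM.pull_pull, hrig, map_one]
  have heE' : PicM.pull eB.left E' = 1 := by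
    have := congrArg (PicM.pull eB.left) hE'
    rwa [map_mul, heE, _root_.one_mul, map_one] at this
  rw [map_mul, heD, heE', _root_.mul_one] at hQ
  calc D = D * (E' * E) := by rw [_root_.mul_comm E', hE', _root_.mul_one]
    _ = (D * E') * E := (_root_.mul_assoc _ _ _).symm
    _ = E * PicM.pull g c := by rw [hQ, _root_.mul_comm]

end Groth.Agent.AbDualLib
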