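import Groth.Agent.AlgGrpLib.TorsorQuot
import Groth.Agent.AmpleLib.Power
import Groth.Agent.PicLib.PullbackGen
import Groth.Agent.PicLib.PicMonoid

/-!
# Trivialisations of inverse images of invertible modules and their ratios

For `q : X ⟶ Y` and an invertible module on `Y` with trivial inverse image, a trivialisation is recorded by the coordinates of
local generators; two morphisms `a b : Z ⟶ X` with the same composite to `Y` compare them by a function on `Z`, the ratio.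
Modules whose ratios on the kernel pair of a faithfully flat quasi-compact `q` agree are isomorphic.
-/

set_option autoImplicit false
set_option linter.style.haveILetI false
set_option backward.isDefEq.respectTransparency.types false

universe u

open CategoryTheory CategoryTheory.Limits AlgebraicGeometry TopologicalSpace Opposite
open Groth.Agent.PicLib Groth.Agent.AmpleLib Groth.Agent.Coherent

namespace Groth.Agent.AbDualLib

variable {X Y Z : Scheme.{u}}

theorem appLE_comp_apply {W : Scheme.{u}} (f : W ⟶ X) (g : X ⟶ Y) {U : Y.Opens} {V : X.Opens} {T : W.Opens}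
    (h₁ : V ≤ g ⁻¹ᵁ U) (h₂ : T ≤ f ⁻¹ᵁ V) (h₃ : T ≤ (f ≫ g) ⁻¹ᵁ U) (r : Γ(Y, U)) :
    f.appLE V T h₂ (g.appLE U V h₁ r) = (f ≫ g).appLE U T h₃ r := by
  rw [← CommRingCat.comp_apply, Scheme.Hom.appLE_comp_appLE]

theorem appLE_eq_of_eq {f g : X ⟶ Y} (e : f = g) {U : Y.Opens} {T : X.Opens} (h : T ≤ f ⁻¹ᵁ U) (h' : T ≤ g ⁻¹ᵁ U)
    (r : Γ(Y, U)) : f.appLE U T h r = g.appLE U T h' r := by
  subst e
  rfl

theorem res_appLE (f : X ⟶ Y) {U : Y.Opens} {V W : X.Opens} (h : V ≤ f ⁻¹ᵁ U) (h' : W ≤ V) (r : Γ(Y, U)) :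
    PicLib.res h' (f.appLE U V h r) = f.appLE U W (h'.trans h) r := by
  show (X.presheaf.map (homOfLE h').op) _ = _
  rw [← CommRingCat.comp_apply, Scheme.Hom.appLE_map]

theorem appLE_res (f : X ⟶ Y) {U U' : Y.Opens} {W : X.Opens} (h : U' ≤ U) (h' : W ≤ f ⁻¹ᵁ U') (r : Γ(Y, U)) :
    f.appLE U' W h' (PicLib.res h r) = f.appLE U W (h'.trans (f.preimage_mono h)) r := by
  show f.appLE U' W h' ((Y.presheaf.map (homOfLE h).op) r) = _
  rw [← CommRingCat.comp_apply, Scheme.Hom.map_appLE]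

variable (q : X ⟶ Y)

/-- Generators of `L` with coordinates of a trivialisation of its inverse image. -/
structure Twist (L : Y.Modules) where
  /-- the opens -/
  U : Y → Y.Opens
  mem : ∀ y, y ∈ U y
  /-- the generators -/
  s : ∀ y, Γ(L, U y)
  gen : ∀ y, IsGen L (U y) (s y)
  /-- the coordinates -/
  c : ∀ y, Γ(X, q ⁻¹ᵁ U y)
  unit : ∀ y, IsUnit (c y)
  compat : ∀ (y y' : Y) (V : Y.Opens) (h : V ≤ U y) (h' : V ≤ U y') (d : Γ(Y, V)),
    resM L h (s y) = d • resM L h' (s y') →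
      PicLib.res (q.preimage_mono h) (c y) = q.app V d * PicLib.res (q.preimage_mono h') (c y')

variable {q} {L L' : Y.Modules}

/-- `u` is the ratio of the trivialisation along `a` and `b`. -/
def Twist.HasRatio (D : Twist q L) (a b : Z ⟶ X) (u : Γ(Z, ⊤)) : Prop :=
  ∀ (y : Y) (W : Z.Opens) (ha : W ≤ a ⁻¹ᵁ (q ⁻¹ᵁ D.U y)) (hb : W ≤ b ⁻¹ᵁ (q ⁻¹ᵁ D.U y)),
    a.appLE _ W ha (D.c y) = PicLib.res (le_top : W ≤ ⊤) u * b.appLE _ W hb (D.c y)

theorem preimage_le_of_comp_eq {a b : Z ⟶ X} (hab : a ≫ q = b ≫ q) (U : Y.Opens) :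
    a ⁻¹ᵁ (q ⁻¹ᵁ U) ≤ b ⁻¹ᵁ (q ⁻¹ᵁ U) :=
  (show (a ≫ q) ⁻¹ᵁ U ≤ (b ≫ q) ⁻¹ᵁ U from (congrArg (fun f : Z ⟶ Y => f ⁻¹ᵁ U) hab).le)

theorem appLE_app_eq {a b : Z ⟶ X} (hab : a ≫ q = b ≫ q) {V : Y.Opens} {W : Z.Opens} (ha : W ≤ a ⁻¹ᵁ (q ⁻¹ᵁ V))
    (hb : W ≤ b ⁻¹ᵁ (q ⁻¹ᵁ V)) (d : Γ(Y, V)) :
    a.appLE _ W ha (q.app V d) = b.appLE _ W hb (q.app V d) := by
  rw [Scheme.Hom.app_eq_appLE, appLE_comp_apply a q le_rfl ha ha, appLE_comp_apply b q le_rfl hb hb]
  exact appLE_eq_of_eq hab _ _ d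

/-- The ratio exists. -/
theorem Twist.exists_ratio (D : Twist q L) (a b : Z ⟶ X) (hab : a ≫ q = b ≫ q) :
    ∃ u : Γ(Z, ⊤), IsUnit u ∧ D.HasRatio a b u := by
  let W : Y → Z.Opens := fun y => a ⁻¹ᵁ (q ⁻¹ᵁ D.U y)
  have hb : ∀ y, W y ≤ b ⁻¹ᵁ (q ⁻¹ᵁ D.U y) := fun y => preimage_le_of_comp_eq hab _
  have hcov : (⊤ : Z.Opens) ≤ iSup W := fun z _ => Opens.mem_iSup.2 ⟨q (a z), D.mem _⟩
  let v : ∀ y, Γ(Z, W y)ˣ := fun y =>
    ((D.unit y).map (a.appLE _ (W y) le_rfl).hom).unit * (((D.unit y).map (b.appLE _ (W y) (hb y)).hom).unit)⁻¹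
  have hv : ∀ y, (v y : Γ(Z, W y)) * b.appLE _ (W y) (hb y) (D.c y) = a.appLE _ (W y) le_rfl (D.c y) := fun y => by
    show ((_ : Γ(Z, W y)ˣ) * _⁻¹ : Γ(Z, W y)ˣ).val * _ = _
    rw [Units.val_mul, _root_.mul_assoc]
    erw [IsUnit.val_inv_mul, _root_.mul_one]
    rfl
  have hloc : ∀ y y' (T : Z.Opens) (h : T ≤ W y) (h' : T ≤ W y'),
      PicLib.res h (v y : Γ(Z, W y)) = PicLib.res h' (v y' : Γ(Z, W y')) := by
    intro y y' T h h'
    have e1 := D.compat y y' (D.U y ⊓ D.U y') inf_le_left inf_le_right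
      ((D.gen y').coef inf_le_right (resM L inf_le_left (D.s y))) ((D.gen y').coef_spec _ _).symm
    have hTa : T ≤ a ⁻¹ᵁ (q ⁻¹ᵁ (D.U y ⊓ D.U y')) := fun z hz => ⟨h hz, h' hz⟩
    have hTb : T ≤ b ⁻¹ᵁ (q ⁻¹ᵁ (D.U y ⊓ D.U y')) := hTa.trans (preimage_le_of_comp_eq hab _)
    have ea := congrArg (a.appLE _ T hTa).hom e1
    have eb := congrArg (b.appLE _ T hTb).hom e1
    rw [map_mul, appLE_res, appLE_res] at ea eb
    rw [appLE_app_eq hab hTa hTb] at ea
    have hy := congrArg (PicLib.res h) (hv y)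
    have hy' := congrArg (PicLib.res h') (hv y')
    rw [map_mul, res_appLE, res_appLE] at hy hy'
    refine (((D.unit y).map (b.appLE _ T (h.trans (hb y))).hom).mul_left_inj).1 ?_
    refine hy.trans ?_
    erw [ea, eb, ← hy']
    exact _root_.mul_left_comm _ _ _

  obtain ⟨u, hu, -⟩ := TopCat.Sheaf.existsUnique_gluing' Z.sheaf W ⊤ (fun y => homOfLE le_top) hcov
    (fun y => (v y : Γ(Z, W y))) (fun y y' => hloc y y' _ inf_le_left inf_le_right)
  refine ⟨u, ?_, fun y T ha hb' => ?_⟩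
  · obtain ⟨u', hu', -⟩ := TopCat.Sheaf.existsUnique_gluing' Z.sheaf W ⊤ (fun y => homOfLE le_top) hcov
      (fun y => ((v y)⁻¹ : Γ(Z, W y)ˣ).val) (fun y y' => by
        have h1 : Units.map (PicLib.res (inf_le_left : W y ⊓ W y' ≤ W y)).toMonoidHom (v y) =
            Units.map (PicLib.res (inf_le_right : W y ⊓ W y' ≤ W y')).toMonoidHom (v y') :=
          Units.ext (hloc y y' _ inf_le_left inf_le_right)
        exact congrArg Units.val (congrArg Inv.inv h1))
    refine IsUnit.of_mul_eq_one u' (TopCat.Sheaf.eq_of_locally_eq' Z.sheaf W ⊤ (fun y => homOfLE le_top) hcov _ _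
      fun y => ?_)
    exact (map_mul (Z.presheaf.map (homOfLE (le_top : W y ≤ ⊤)).op).hom u u').trans
      ((congrArg₂ (· * ·) (hu y) (hu' y)).trans ((v y).mul_inv.trans (map_one _).symm))
  · have e := congrArg (PicLib.res ha) (hv y)
    rw [map_mul, res_appLE, res_appLE] at e
    rw [← e]
    refine congrArg (· * _) ?_
    rw [← res_res (le_top : W y ≤ ⊤) ha u]
    exact congrArg (PicLib.res ha) (hu y).symm

/-- The ratio is unique. -/
theorem Twist.HasRatio.unique {D : Twist q L} {a b : Z ⟶ X} (hab : a ≫ q = b ≫ q) {u u' : Γ(Z, ⊤)}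
    (h : D.HasRatio a b u) (h' : D.HasRatio a b u') : u = u' := by
  refine TopCat.Sheaf.eq_of_locally_eq' Z.sheaf (fun y => a ⁻¹ᵁ (q ⁻¹ᵁ D.U y)) ⊤ (fun y => homOfLE le_top)
    (fun z _ => Opens.mem_iSup.2 ⟨q (a z), D.mem _⟩) _ _ fun y => ?_
  have hb := preimage_le_of_comp_eq hab (D.U y)
  exact (((D.unit y).map (b.appLE _ _ hb).hom).mul_left_inj).1 ((h y _ le_rfl hb).symm.trans (h' y _ le_rfl hb))

/-- Ratios multiply along three morphisms. -/
theorem Twist.HasRatio.trans {D : Twist q L} {a b e : Z ⟶ X} (hbe : b ≫ q = e ≫ q) {u u' : Γ(Z, ⊤)}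
    (h : D.HasRatio a b u) (h' : D.HasRatio b e u') (hab : a ≫ q = b ≫ q) : D.HasRatio a e (u * u') := by
  intro y W ha he
  have hb : W ≤ b ⁻¹ᵁ (q ⁻¹ᵁ D.U y) := ha.trans (preimage_le_of_comp_eq hab _)
  rw [h y W ha hb, h' y W hb he, map_mul, _root_.mul_assoc]

/-- A trivialisation of the inverse image gives coordinates. -/
noncomputable def Twist.ofTriv (hL : PicF.IsInvertible L) {σ : Γ((Scheme.Modules.pullback q).obj L, ⊤)}
    (hσ : IsGen _ ⊤ σ) : Twist q L where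
  U := (exists_cover hL).choose
  mem := (exists_cover hL).choose_spec.choose_spec.1
  s := (exists_cover hL).choose_spec.choose
  gen := (exists_cover hL).choose_spec.choose_spec.2
  c y := hσ.coef le_top (pullSec q ((exists_cover hL).choose_spec.choose y))
  unit y := by
    have hs := (exists_cover hL).choose_spec.choose_spec.2 y
    have h1 := (hσ.restrict (le_top : q ⁻¹ᵁ _ ≤ ⊤)).isUnit_coef (isGen_pullSec q hs hL)
    have e : (hσ.restrict (le_top : q ⁻¹ᵁ _ ≤ ⊤)).coef le_rfl (pullSec q ((exists_cover hL).choose_spec.choose y)) =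
        hσ.coef le_top (pullSec q ((exists_cover hL).choose_spec.choose y)) := by
      refine IsGen.coef_eq _ _ ?_
      rw [resM_self]
      exact hσ.coef_spec le_top _
    exact e ▸ h1
  compat y y' V h h' d hd := by
    rw [← hσ.coef_res le_top (q.preimage_mono h), ← hσ.coef_res le_top (q.preimage_mono h'), resM_pullSec q h,
      resM_pullSec q h', hd, pullSec_smul, hσ.coef_smul]

/-- An isomorphic module carries the same coordinates. -/
noncomputable def Twist.map (D : Twist q L) (e : L ≅ L') : Twist q L' where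
  U := D.U
  mem := D.mem
  s y := e.hom.app _ (D.s y)
  gen y := by
    intro V hV
    have hb := ConcreteCategory.bijective_of_isIso (e.hom.app V)
    convert hb.comp (D.gen y V hV) using 1
    funext r
    show r • resM L' hV (e.hom.app _ (D.s y)) = e.hom.app V (r • resM L hV (D.s y))
    rw [Scheme.Modules.Hom.app_smul, app_resM]
  c := D.c
  unit := D.unit
  compat y y' V h h' d hd := by
    refine D.compat y y' V h h' d ?_
    apply (ConcreteCategory.bijective_of_isIso (e.hom.app V)).1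
    rw [Scheme.Modules.Hom.app_smul, app_resM, app_resM]
    exact hd

/-- Coordinates of a tensor product. -/
noncomputable def Twist.mul (D : Twist q L) (D' : Twist q L') : Twist q (CohB1.tensorMod L L') where
  U y := D.U y ⊓ D'.U y
  mem y := ⟨D.mem y, D'.mem y⟩
  s y := tmul (resM L inf_le_left (D.s y)) (resM L' inf_le_right (D'.s y))
  gen y := isGen_tmul ((D.gen y).restrict _) ((D'.gen y).restrict _)
  c y := PicLib.res (q.preimage_mono inf_le_left) (D.c y) * PicLib.res (q.preimage_mono inf_le_right) (D'.c y)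
  unit y := ((D.unit y).map _).mul ((D'.unit y).map _)
  compat y y' V h h' d hd := by
    have h1 : V ≤ D.U y := h.trans inf_le_left
    have h2 : V ≤ D'.U y := h.trans inf_le_right
    have h1' : V ≤ D.U y' := h'.trans inf_le_left
    have h2' : V ≤ D'.U y' := h'.trans inf_le_right
    let e := (D.gen y').coef h1' (resM L h1 (D.s y))
    let e' := (D'.gen y').coef h2' (resM L' h2 (D'.s y))
    have he : resM L h1 (D.s y) = e • resM L h1' (D.s y') := ((D.gen y').coef_spec _ _).symm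
    have he' : resM L' h2 (D'.s y) = e' • resM L' h2' (D'.s y') := ((D'.gen y').coef_spec _ _).symm
    rw [resM_tmul, resM_tmul, resM_resM, resM_resM, resM_resM, resM_resM, he, he', tmul_smul_smul] at hd
    have hde : e * e' = d := by
      have hg := isGen_tmul ((D.gen y').restrict h1') ((D'.gen y').restrict h2')
      exact (hg V le_rfl).1 (a₁ := e * e') (a₂ := d) (by simpa only [resM_self] using hd)
    rw [map_mul, map_mul, res_res, res_res, res_res, res_res, D.compat y y' V h1 h1' e he,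
      D'.compat y y' V h2 h2' e' he', ← hde, map_mul]
    exact mul_mul_mul_comm _ _ _ _

theorem Twist.HasRatio.mul {D : Twist q L} {D' : Twist q L'} {a b : Z ⟶ X} {u u' : Γ(Z, ⊤)}
    (h : D.HasRatio a b u) (h' : D'.HasRatio a b u') : (D.mul D').HasRatio a b (u * u') := by
  intro y W ha hb
  have hal : W ≤ a ⁻¹ᵁ (q ⁻¹ᵁ D.U y) := ha.trans (a.preimage_mono (q.preimage_mono inf_le_left))
  have hbl : W ≤ b ⁻¹ᵁ (q ⁻¹ᵁ D.U y) := hb.trans (b.preimage_mono (q.preimage_mono inf_le_left))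
  have har : W ≤ a ⁻¹ᵁ (q ⁻¹ᵁ D'.U y) := ha.trans (a.preimage_mono (q.preimage_mono inf_le_right))
  have hbr : W ≤ b ⁻¹ᵁ (q ⁻¹ᵁ D'.U y) := hb.trans (b.preimage_mono (q.preimage_mono inf_le_right))
  have e : ∀ (f : Z ⟶ X) (h0 : W ≤ f ⁻¹ᵁ (q ⁻¹ᵁ (D.U y ⊓ D'.U y))),
      f.appLE _ W h0 (PicLib.res (q.preimage_mono inf_le_left) (D.c y) * PicLib.res (q.preimage_mono inf_le_right) (D'.c y)) =
        f.appLE _ W (h0.trans (f.preimage_mono (q.preimage_mono inf_le_left))) (D.c y) *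
          f.appLE _ W (h0.trans (f.preimage_mono (q.preimage_mono inf_le_right))) (D'.c y) := fun f h0 => by
    rw [map_mul, appLE_res, appLE_res]
  refine (e a ha).trans ?_
  refine Eq.trans ?_ (congrArg₂ (· * ·) (map_mul (PicLib.res (le_top : W ≤ ⊤)) u u').symm (e b hb).symm)
  rw [h y W hal hbl, h' y W har hbr]
  exact mul_mul_mul_comm _ _ _ _

section Pull

variable {X' Y' : Scheme.{u}} {q' : X' ⟶ Y'} {g' : X' ⟶ X} {g : Y' ⟶ Y}

/-- Coordinates of an inverse image. -/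
noncomputable def Twist.pull (D : Twist q L) (hL : PicF.IsInvertible L) (hsq : q' ≫ g = g' ≫ q) :
    Twist q' ((Scheme.Modules.pullback g).obj L) where
  U y := g ⁻¹ᵁ D.U (g y)
  mem y := D.mem (g y)
  s y := pullSec g (D.s (g y))
  gen y := isGen_pullSec g (D.gen _) hL
  c y := g'.appLE (q ⁻¹ᵁ D.U (g y)) _
    (show (q' ≫ g) ⁻¹ᵁ D.U (g y) ≤ (g' ≫ q) ⁻¹ᵁ D.U (g y) by rw [hsq]) (D.c (g y))
  unit y := (D.unit _).map _
  compat y y' V h h' d hd := by
    let U0 := D.U (g y) ⊓ D.U (g y')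
    have hV : V ≤ g ⁻¹ᵁ U0 := fun z hz => ⟨h hz, h' hz⟩
    let d0 := (D.gen (g y')).coef (inf_le_right : U0 ≤ D.U (g y')) (resM L inf_le_left (D.s (g y)))
    have hd0 : resM L (inf_le_left : U0 ≤ D.U (g y)) (D.s (g y)) = d0 • resM L inf_le_right (D.s (g y')) :=
      ((D.gen (g y')).coef_spec _ _).symm
    have hdd : d = g.appLE U0 V hV d0 := by
      have hp := congrArg (fun z => resM _ hV (pullSec g z)) hd0
      simp only [pullSec_smul, resM_smul, ← resM_pullSec, resM_resM] at hp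
      have e := (isGen_pullSec g (D.gen (g y')) hL V h').1 (a₁ := d) (a₂ := PicLib.res hV (g.app U0 d0))
        (by dsimp only; exact hd.symm.trans hp)
      rw [e, Scheme.Hom.app_eq_appLE]
      exact res_appLE g le_rfl hV d0
    have hT : q' ⁻¹ᵁ V ≤ g' ⁻¹ᵁ (q ⁻¹ᵁ U0) := (q'.preimage_mono hV).trans
      (show (q' ≫ g) ⁻¹ᵁ U0 ≤ (g' ≫ q) ⁻¹ᵁ U0 by rw [hsq])
    have ec := congrArg (g'.appLE _ _ hT).hom (D.compat (g y) (g y') U0 inf_le_left inf_le_right d0 hd0)
    rw [map_mul, appLE_res, appLE_res] at ec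
    have hl : ∀ (y : Y') (hh : V ≤ g ⁻¹ᵁ D.U (g y)) (hle : q' ⁻¹ᵁ (g ⁻¹ᵁ D.U (g y)) ≤ g' ⁻¹ᵁ (q ⁻¹ᵁ D.U (g y))),
        PicLib.res (q'.preimage_mono hh) (g'.appLE (q ⁻¹ᵁ D.U (g y)) _ hle (D.c (g y))) =
          g'.appLE (q ⁻¹ᵁ D.U (g y)) (q' ⁻¹ᵁ V) ((q'.preimage_mono hh).trans hle) (D.c (g y)) :=
      fun y hh hle => res_appLE g' hle _ _
    refine (hl y h _).trans (ec.trans ?_)
    refine congrArg₂ (· * ·) ?_ (hl y' h' _).symm
    rw [hdd, Scheme.Hom.app_eq_appLE, Scheme.Hom.app_eq_appLE]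
    refine (appLE_comp_apply g' q le_rfl hT hT d0).trans (Eq.trans ?_
      (appLE_comp_apply q' g hV le_rfl (q'.preimage_mono hV) d0).symm)
    exact appLE_eq_of_eq hsq.symm _ _ d0

theorem Twist.HasRatio.pull {D : Twist q L} {hL : PicF.IsInvertible L} {hsq : q' ≫ g = g' ≫ q} {Z' : Scheme.{u}}
    {a b : Z ⟶ X} {a' b' : Z' ⟶ X'} (w : Z' ⟶ Z) (ha : w ≫ a = a' ≫ g') (hb : w ≫ b = b' ≫ g') {u : Γ(Z, ⊤)}
    (h : D.HasRatio a b u) (hab : a ≫ q = b ≫ q) : (D.pull hL hsq).HasRatio a' b' (w.appTop u) := by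
  intro y W hWa hWb
  let T := a ⁻¹ᵁ (q ⁻¹ᵁ D.U (g y))
  have hle : q' ⁻¹ᵁ (g ⁻¹ᵁ D.U (g y)) ≤ g' ⁻¹ᵁ (q ⁻¹ᵁ D.U (g y)) :=
    show (q' ≫ g) ⁻¹ᵁ D.U (g y) ≤ (g' ≫ q) ⁻¹ᵁ D.U (g y) by rw [hsq]
  have hW : W ≤ w ⁻¹ᵁ T := by
    show W ≤ (w ≫ a) ⁻¹ᵁ (q ⁻¹ᵁ D.U (g y))
    rw [ha]
    exact hWa.trans (a'.preimage_mono hle)
  have hTb := preimage_le_of_comp_eq hab (D.U (g y))
  have e := congrArg (w.appLE T W hW).hom (h (g y) T le_rfl hTb)
  rw [map_mul, appLE_comp_apply w a le_rfl hW hW, appLE_comp_apply w b hTb hW (hW.trans (w.preimage_mono hTb)),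
    appLE_res] at e
  have hWa' : W ≤ (a' ≫ g') ⁻¹ᵁ (q ⁻¹ᵁ D.U (g y)) := hWa.trans (a'.preimage_mono hle)
  have hWb' : W ≤ (b' ≫ g') ⁻¹ᵁ (q ⁻¹ᵁ D.U (g y)) := hWb.trans (b'.preimage_mono hle)
  refine (appLE_comp_apply a' g' hle hWa hWa' _).trans (((appLE_eq_of_eq ha.symm hWa' hW _).trans e).trans ?_)
  refine congrArg₂ (· * ·) ?_ ?_
  · show _ = PicLib.res le_top (w.appTop u)
    rw [show w.appTop u = w.appLE ⊤ ⊤ le_top u by simp [Scheme.Hom.appTop, Scheme.Hom.app_eq_appLE], res_appLE]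
  · exact (appLE_eq_of_eq hb (show W ≤ (w ≫ b) ⁻¹ᵁ (q ⁻¹ᵁ D.U (g y)) from hW.trans (w.preimage_mono hTb)) hWb' _).trans (appLE_comp_apply b' g' hle hWb hWb' _).symm

end Pull

/-- Two trivialisations of one module have the same ratio when global functions do not see the difference. -/
theorem Twist.HasRatio.congr {D D' : Twist q L} {a b : Z ⟶ X} (hab : a ≫ q = b ≫ q)
    (hinv : ∀ v : Γ(X, ⊤), a.appTop v = b.appTop v) {u u' : Γ(Z, ⊤)} (h : D.HasRatio a b u)
    (h' : D'.HasRatio a b u') : u = u' := by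
  let U : Y → Y.Opens := fun y => D.U y ⊓ D'.U y
  let d : ∀ y, Γ(Y, U y) := fun y => (D'.gen y).coef inf_le_right (resM L inf_le_left (D.s y))
  have hd : ∀ y, resM L (inf_le_left : U y ≤ D.U y) (D.s y) = d y • resM L inf_le_right (D'.s y) :=
    fun y => ((D'.gen y).coef_spec _ _).symm
  let r : ∀ y, Γ(X, q ⁻¹ᵁ U y) := fun y => q.app _ (d y) * PicLib.res (q.preimage_mono inf_le_right) (D'.c y)
  have hdu : ∀ y, IsUnit (d y) := fun y => by
    have h0 := ((D'.gen y).restrict (inf_le_right : U y ≤ _)).isUnit_coef ((D.gen y).restrict inf_le_left)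
    have e2 : ((D'.gen y).restrict (inf_le_right : U y ≤ _)).coef le_rfl (resM L inf_le_left (D.s y)) = d y := by
      refine IsGen.coef_eq _ _ ?_
      rw [resM_self]
      exact (D'.gen y).coef_spec _ _
    exact e2 ▸ h0
  have hru : ∀ y, IsUnit (r y) := fun y => ((hdu y).map _).mul ((D'.unit y).map _)
  let v : ∀ y, Γ(X, q ⁻¹ᵁ U y) := fun y =>
    PicLib.res (q.preimage_mono (inf_le_left : U y ≤ D.U y)) (D.c y) * ((hru y).unit⁻¹).val
  have hv : ∀ y, v y * r y = PicLib.res (q.preimage_mono (inf_le_left : U y ≤ D.U y)) (D.c y) := fun y => by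
    exact (_root_.mul_assoc _ _ _).trans ((congrArg _ (IsUnit.val_inv_mul (hru y))).trans (_root_.mul_one _))
  have hcomp : ∀ y y', PicLib.res (q.preimage_mono (inf_le_left : U y ⊓ U y' ≤ U y)) (v y) =
      PicLib.res (q.preimage_mono (inf_le_right : U y ⊓ U y' ≤ U y')) (v y') := by
    intro y y'
    let V := U y ⊓ U y'
    have h1 : V ≤ D.U y := inf_le_left.trans inf_le_left
    have h2 : V ≤ D.U y' := inf_le_right.trans inf_le_left
    have h1' : V ≤ D'.U y := inf_le_left.trans inf_le_right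
    have h2' : V ≤ D'.U y' := inf_le_right.trans inf_le_right
    let t := (D.gen y').coef h2 (resM L h1 (D.s y))
    let t' := (D'.gen y').coef h2' (resM L h1' (D'.s y))
    have ht : resM L h1 (D.s y) = t • resM L h2 (D.s y') := ((D.gen y').coef_spec _ _).symm
    have ht' : resM L h1' (D'.s y) = t' • resM L h2' (D'.s y') := ((D'.gen y').coef_spec _ _).symm
    have e1 := D.compat y y' V h1 h2 t ht
    have e2 := D'.compat y y' V h1' h2' t' ht'
    have hdd : PicLib.res (inf_le_left : V ≤ U y) (d y) * t' = t * PicLib.res (inf_le_right : V ≤ U y') (d y') := by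
      refine (D'.gen y' V h2').1 ?_
      have a1 := congrArg (resM L (inf_le_left : V ≤ U y)) (hd y)
      have a2 := congrArg (resM L (inf_le_right : V ≤ U y')) (hd y')
      simp only [resM_smul, resM_resM] at a1 a2
      show (_ * t') • _ = (t * _) • _
      rw [mul_smul, mul_smul, ← ht', ← a1, ← a2, ← ht]
    have hnat : ∀ (y : Y) (h : V ≤ U y), PicLib.res (q.preimage_mono h) (q.app _ (d y)) =
        q.app V (PicLib.res h (d y)) := fun y h => by
      rw [Scheme.Hom.app_eq_appLE, Scheme.Hom.app_eq_appLE, res_appLE, appLE_res]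
    have hr : PicLib.res (q.preimage_mono (inf_le_left : V ≤ U y)) (r y) =
        q.app V t * PicLib.res (q.preimage_mono (inf_le_right : V ≤ U y')) (r y') := by
      simp only [r, map_mul, res_res]
      erw [hnat y inf_le_left, hnat y' inf_le_right]
      rw [e2, ← _root_.mul_assoc, ← map_mul, hdd, map_mul, _root_.mul_assoc]
    refine (((hru y).map (PicLib.res (q.preimage_mono (inf_le_left : V ≤ U y)))).mul_left_inj).1 ?_
    calc PicLib.res _ (v y) * PicLib.res _ (r y) = PicLib.res (q.preimage_mono h1) (D.c y) := by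
          rw [← map_mul, hv, res_res]
      _ = q.app V t * PicLib.res (q.preimage_mono h2) (D.c y') := e1
      _ = q.app V t * (PicLib.res _ (v y') * PicLib.res (q.preimage_mono (inf_le_right : V ≤ U y')) (r y')) := by
          rw [← map_mul, hv, res_res]
      _ = PicLib.res _ (v y') * PicLib.res (q.preimage_mono (inf_le_left : V ≤ U y)) (r y) := by
          rw [hr]
          exact _root_.mul_left_comm _ _ _
  have hcov : (⊤ : X.Opens) ≤ ⨆ y, q ⁻¹ᵁ U y := fun x _ => Opens.mem_iSup.2 ⟨q x, D.mem _, D'.mem _⟩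
  obtain ⟨w, hw, -⟩ := TopCat.Sheaf.existsUnique_gluing' X.sheaf (fun y => q ⁻¹ᵁ U y) ⊤ (fun y => homOfLE le_top) hcov v hcomp
  have hc : ∀ y, PicLib.res (q.preimage_mono (inf_le_left : U y ≤ D.U y)) (D.c y) =
      PicLib.res le_top w * r y := fun y => (hv y).symm.trans (congrArg (· * r y) (hw y).symm)
  refine TopCat.Sheaf.eq_of_locally_eq' Z.sheaf (fun y => a ⁻¹ᵁ (q ⁻¹ᵁ U y)) ⊤ (fun y => homOfLE le_top)
    (fun z _ => Opens.mem_iSup.2 ⟨q (a z), D.mem _, D'.mem _⟩) _ _ fun y => ?_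
  let T := a ⁻¹ᵁ (q ⁻¹ᵁ U y)
  have ha : T ≤ a ⁻¹ᵁ (q ⁻¹ᵁ U y) := le_rfl
  have hb := preimage_le_of_comp_eq hab (U y)
  have hbl := hb.trans (b.preimage_mono (q.preimage_mono (inf_le_left : U y ≤ D.U y)))
  have hbr := hb.trans (b.preimage_mono (q.preimage_mono (inf_le_right : U y ≤ D'.U y)))
  have e1 := h y T (a.preimage_mono (q.preimage_mono inf_le_left)) hbl
  have e2 := h' y T (a.preimage_mono (q.preimage_mono inf_le_right)) hbr
  have ea := congrArg (a.appLE _ T ha).hom (hc y)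
  have eb := congrArg (b.appLE _ T hb).hom (hc y)
  simp only [r, map_mul, appLE_res] at ea eb
  rw [appLE_app_eq hab ha hb] at ea
  have hwinv : a.appLE ⊤ T le_top w = b.appLE ⊤ T le_top w := by
    have e0 := congrArg (PicLib.res (le_top : T ≤ ⊤)) (hinv w)
    simp only [Scheme.Hom.appTop, Scheme.Hom.app_eq_appLE] at e0
    exact (res_appLE a le_rfl (show T ≤ a ⁻¹ᵁ ⊤ from le_top) w).symm.trans
      (e0.trans (res_appLE b le_rfl (show T ≤ b ⁻¹ᵁ ⊤ from le_top) w))
  refine (((D.unit y).map (b.appLE _ T hbl).hom).mul_left_inj).1 ?_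
  refine e1.symm.trans ?_
  erw [ea, eb, e2, hwinv]
  exact (congrArg _ (_root_.mul_left_comm _ _ _)).trans (_root_.mul_left_comm _ _ _)

/-- Modules whose trivialisations have the same ratio on the kernel pair are isomorphic. -/
theorem Twist.nonempty_iso_of_ratio [Flat q] [Surjective q] [QuasiCompact q] {p₁ p₂ : Z ⟶ X}
    (hR : IsPullback p₁ p₂ q q) (D : Twist q L) (D' : Twist q L') {u : Γ(Z, ⊤)} (h : D.HasRatio p₁ p₂ u)
    (h' : D'.HasRatio p₁ p₂ u) : Nonempty (L ≅ L') := by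
  classical
  let W : Y → Y.Opens := fun y => D.U y ⊓ D'.U y
  have hW : iSup W = ⊤ := top_le_iff.1 fun y _ => Opens.mem_iSup.2 ⟨y, D.mem y, D'.mem y⟩
  have hu1 : ∀ y, IsUnit (PicLib.res (q.preimage_mono (inf_le_left : W y ≤ D.U y)) (D.c y)) := fun y => (D.unit y).map _
  have hu2 : ∀ y, IsUnit (PicLib.res (q.preimage_mono (inf_le_right : W y ≤ D'.U y)) (D'.c y)) := fun y => (D'.unit y).map _
  let K : ∀ y, Γ(X, q ⁻¹ᵁ W y)ˣ := fun y => (hu1 y).unit * ((hu2 y).unit)⁻¹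
  have hK : ∀ y, (K y).val * PicLib.res (q.preimage_mono (inf_le_right : W y ≤ D'.U y)) (D'.c y) =
      PicLib.res (q.preimage_mono (inf_le_left : W y ≤ D.U y)) (D.c y) := fun y => by
    exact (_root_.mul_assoc _ _ _).trans ((congrArg _ (IsUnit.val_inv_mul (hu2 y))).trans (_root_.mul_one _))
  have hKeq : ∀ y, p₁.appLE (q ⁻¹ᵁ W y) (p₁ ⁻¹ᵁ (q ⁻¹ᵁ W y) ⊓ p₂ ⁻¹ᵁ (q ⁻¹ᵁ W y)) inf_le_left (K y).val =
      p₂.appLE (q ⁻¹ᵁ W y) (p₁ ⁻¹ᵁ (q ⁻¹ᵁ W y) ⊓ p₂ ⁻¹ᵁ (q ⁻¹ᵁ W y)) inf_le_right (K y).val := by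
    intro y
    let T := p₁ ⁻¹ᵁ (q ⁻¹ᵁ W y) ⊓ p₂ ⁻¹ᵁ (q ⁻¹ᵁ W y)
    have e1 := congrArg (p₁.appLE _ T inf_le_left).hom (hK y)
    have e2 := congrArg (p₂.appLE _ T inf_le_right).hom (hK y)
    simp only [map_mul, appLE_res] at e1 e2
    erw [h y T _ (inf_le_right.trans (p₂.preimage_mono (q.preimage_mono inf_le_left))),
      h' y T _ (inf_le_right.trans (p₂.preimage_mono (q.preimage_mono inf_le_right))), ← e2] at e1
    have hun : IsUnit (PicLib.res (le_top : T ≤ ⊤) u) :=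
      isUnit_of_mul_isUnit_left ((h y T (inf_le_left.trans (p₁.preimage_mono (q.preimage_mono inf_le_left)))
        (inf_le_right.trans (p₂.preimage_mono (q.preimage_mono inf_le_left)))) ▸
          (D.unit y).map (p₁.appLE _ T _).hom)
    refine (((D'.unit y).map (p₂.appLE _ T (inf_le_right.trans
      (p₂.preimage_mono (q.preimage_mono inf_le_right)))).hom).mul_left_inj).1 (hun.mul_right_inj.1 ?_)
    exact (_root_.mul_left_comm _ _ _).trans e1
  have hr : ∀ y, ∃ r : Γ(Y, W y), q.app _ r = (K y).val := fun y =>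
    (AlgGrpLib.TorsorQuot.app_injective_range q p₁ p₂ hR (W y)).2.ge (hKeq y)
  have hri : ∀ y, ∃ r : Γ(Y, W y), q.app _ r = ((K y)⁻¹).val := fun y => by
    refine (AlgGrpLib.TorsorQuot.app_injective_range q p₁ p₂ hR (W y)).2.ge ?_
    let f1 := (p₁.appLE (q ⁻¹ᵁ W y) (p₁ ⁻¹ᵁ (q ⁻¹ᵁ W y) ⊓ p₂ ⁻¹ᵁ (q ⁻¹ᵁ W y)) inf_le_left).hom
    let f2 := (p₂.appLE (q ⁻¹ᵁ W y) (p₁ ⁻¹ᵁ (q ⁻¹ᵁ W y) ⊓ p₂ ⁻¹ᵁ (q ⁻¹ᵁ W y)) inf_le_right).hom
    have e : Units.map f1.toMonoidHom (K y) = Units.map f2.toMonoidHom (K y) := Units.ext (hKeq y)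
    exact congrArg Units.val (congrArg Inv.inv e)
  choose r hr using hr
  choose r' hr' using hri
  have hinj : ∀ U : Y.Opens, Function.Injective (q.app U) := fun U =>
    (AlgGrpLib.TorsorQuot.app_injective_range q p₁ p₂ hR U).1
  have hru : ∀ y, IsUnit (r y) := fun y => IsUnit.of_mul_eq_one (r' y) (hinj _ (by
    rw [map_mul, map_one, hr, hr']
    exact (K y).mul_inv))
  let a : ∀ y, Γ(L, W y) := fun y => resM L inf_le_left (D.s y)
  let b : ∀ y, Γ(L', W y) := fun y => resM L' inf_le_right (D'.s y)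
  obtain ⟨e, -⟩ := AmpleLib.exists_iso_of_gens W hW a (fun y => (D.gen y).restrict _) (fun y => r y • b y)
    (fun y => by
      obtain ⟨w, hw⟩ := hru y
      rw [← hw]
      exact ((D'.gen y).restrict inf_le_right).smul_unit w) fun i j V hi hj t ht => by
      let t' := (D'.gen j).coef (hj.trans inf_le_right) (resM L' hi (b i))
      have ht' : resM L' hi (b i) = t' • resM L' hj (b j) := by
        rw [show resM L' hj (b j) = resM L' (hj.trans inf_le_right) (D'.s j) from resM_resM _ _ _ _]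
        exact ((D'.gen j).coef_spec _ _).symm
      have e1 := D.compat i j V (hi.trans inf_le_left) (hj.trans inf_le_left) t (by
        simpa only [a, resM_resM] using ht)
      have e2 := D'.compat i j V (hi.trans inf_le_right) (hj.trans inf_le_right) t' (by
        simpa only [b, resM_resM] using ht')
      have n1 : ∀ (y : Y) (hy : V ≤ W y), q.app V (PicLib.res hy (r y)) =
          PicLib.res (q.preimage_mono hy) (q.app _ (r y)) := fun y hy => by
        rw [Scheme.Hom.app_eq_appLE, Scheme.Hom.app_eq_appLE, res_appLE, appLE_res]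
      have k1 : ∀ (y : Y) (hy : V ≤ W y), q.app V (PicLib.res hy (r y)) *
          PicLib.res (q.preimage_mono (hy.trans inf_le_right)) (D'.c y) =
            PicLib.res (q.preimage_mono (hy.trans inf_le_left)) (D.c y) := fun y hy => by
        rw [n1, hr]
        have := congrArg (PicLib.res (q.preimage_mono hy)) (hK y)
        simpa only [map_mul, res_res] using this
      have key : PicLib.res hi (r i) * t' = t * PicLib.res hj (r j) := by
        refine hinj V ((((D'.unit j).map (PicLib.res (q.preimage_mono (hj.trans inf_le_right)))).mul_left_inj).1 ?_)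
        rw [map_mul, map_mul, _root_.mul_assoc, ← e2, k1, e1, _root_.mul_assoc, k1]
      show resM L' hi (r i • b i) = t • resM L' hj (r j • b j)
      rw [resM_smul, resM_smul, ht', ← mul_smul, ← mul_smul]
      exact congrArg (· • _) key
  exact ⟨e⟩

/-- Ratios precompose. -/
theorem Twist.HasRatio.comp {D : Twist q L} {a b : Z ⟶ X} {u : Γ(Z, ⊤)} (h : D.HasRatio a b u) (hab : a ≫ q = b ≫ q)
    {Z' : Scheme.{u}} (w : Z' ⟶ Z) : D.HasRatio (w ≫ a) (w ≫ b) (w.appTop u) := by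
  intro y W ha hb
  let T := a ⁻¹ᵁ (q ⁻¹ᵁ D.U y)
  have hW : W ≤ w ⁻¹ᵁ T := ha
  have hTb := preimage_le_of_comp_eq hab (D.U y)
  have e := congrArg (w.appLE T W hW).hom (h y T le_rfl hTb)
  rw [map_mul, appLE_comp_apply w a le_rfl hW ha, appLE_comp_apply w b hTb hW hb, appLE_res] at e
  refine e.trans (congrArg (· * _) ?_)
  show _ = PicLib.res le_top (w.appTop u)
  rw [show w.appTop u = w.appLE ⊤ ⊤ le_top u by simp [Scheme.Hom.appTop, Scheme.Hom.app_eq_appLE], res_appLE]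

/-- A module with trivial inverse image has coordinates. -/
theorem Twist.nonempty_of_pull_eq_one {q : X ⟶ Y} (hL : PicF.IsInvertible L)
    (h : PicM.pull q (PicM.of hL) = 1) : Nonempty (Twist q L) := by
  rw [PicM.pull_of, PicM.of_eq_one_iff] at h
  obtain ⟨e⟩ := h
  refine ⟨Twist.ofTriv hL (σ := unitVal e.inv ⊤) fun V hV => ?_⟩
  rw [resM_unitVal]
  have hb := ConcreteCategory.bijective_of_isIso (e.inv.app V)
  exact ⟨fun r r' he => hb.1 ((app_unit e.inv r).trans (he.trans (app_unit e.inv r').symm)),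
    fun x => (hb.2 x).imp fun r hr => (app_unit e.inv r).symm.trans hr⟩

variable (q) in
/-- The coordinates of the structure module. -/
theorem Twist.exists_one (a b : Z ⟶ X) :
    ∃ D : Twist q (Coh.structureModule Y), D.HasRatio a b 1 := by
  let e : Γ(Coh.structureModule Y, ⊤) := unitVal (𝟙 (Coh.structureModule Y)) ⊤
  have hg : IsGen (Coh.structureModule Y) ⊤ e := fun V hV => by
    rw [resM_unitVal]
    exact ⟨fun r r' he => (app_unit (𝟙 _) r).trans (he.trans (app_unit (𝟙 _) r').symm),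
      fun x => ⟨x, (app_unit (𝟙 _) x).symm⟩⟩
  refine ⟨⟨fun _ => ⊤, fun _ => trivial, fun _ => e, fun _ => hg, fun _ => 1, fun _ => isUnit_one,
    fun y y' V h h' d hd => ?_⟩, fun y W ha hb => ?_⟩
  · have hd1 : d = 1 := (hg V h').1 (hd.symm.trans (one_smul _ _).symm)
    rw [hd1]
    simp only [map_one, _root_.mul_one]
  · simp only [map_one, _root_.mul_one]

end Groth.Agent.AbDualLib
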